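/- The `2`-fusion system of `G₂(q)` on the model `CL.G2S.W`. -/
import Cfsg.Agent.FUS.Rk2Main
import Cfsg.Agent.SYL.G2CFct

set_option autoImplicit false

namespace CL.WQ

open Cfsg CL.Fus CL.G2S

/-- the coefficient ring of the model -/
abbrev Zn (n : ℕ) : Type := ZMod (4 * 2 ^ n)

/-- the element of additive order four -/
abbrev hn (n : ℕ) : Zn n := ((2 ^ n : ℕ) : ZMod (4 * 2 ^ n))

theorem cy (n : ℕ) : Cy (hn n) := cy_zmod (by positivity)

/-- the automorphism of order three of `{v | v.d = false}` -/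
def rh {R : Type} [CommRing R] (v : W R) : W R := ⟨v.y, -v.x - v.y, v.e, false⟩

/-- `F` lives on the image of the model and has the fusion pattern of `G₂(q)`. -/
structure Mod {Ω : Type*} [Group Ω] {S : Subgroup Ω} (F : FusionSystem S) (n : ℕ) (φ : W (Zn n) →* Ω) :
    Prop where
  sat : F.IsSaturated 2
  inj : Function.Injective φ
  rng : φ.range = S
  sc : ∀ P f, Mor F P f → φ (zz (hn n)) ∈ P → f (φ (zz (hn n))) = φ (zz (hn n)) →
    ∀ v ∈ Q2 (hn n) (cy n), φ v ∈ P → ∃ v' ∈ Q2 (hn n) (cy n), f (φ v) = φ v'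
  rho : ∃ P f, Mor F P f ∧ ∀ v : W (Zn n), v.d = false → φ v ∈ P ∧ f (φ v) = φ (rh v)
  c1 : ∃ v, Pm v (pp (hn n)) ∧ F.IsConjElt (φ (w2 (hn n))) (φ v)
  c2 : ∃ v, Pm v (qq (hn n)) ∧ F.IsConjElt (φ (w1 (hn n))) (φ v)

/-- the homomorphism from the model given by generators and relations, with its values -/
theorem exists_hom' {G : Type*} [Group G] {k : ℕ} (hk : 0 < k) {a b s t : G} (ha : a ^ (4 * k) = 1)
    (hab : Commute a b) (ss : s * s = 1) (tt : t * t = 1) (st : s * t = t * s) (sa : s * a * s⁻¹ = a⁻¹)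
    (sb : s * b * s⁻¹ = b⁻¹) (ta : t * a * t⁻¹ = b) : ∃ φ : W (ZMod (4 * k)) →* G,
      ∀ (x y : ℤ) (e d : Bool), φ ⟨x, y, e, d⟩ = a ^ x * b ^ y * (bp s e * bp t d) := by
  have : NeZero (4 * k) := ⟨by omega⟩
  have tb : t * b * t⁻¹ = a := by
    rw [← ta, show t * (t * a * t⁻¹) * t⁻¹ = t * t * a * (t * t)⁻¹ by group, tt]; group
  have hb : b ^ (4 * k) = 1 := by rw [← ta, conj_pow, ha]; group
  have add : ∀ {c : G}, c ^ (4 * k) = 1 → ∀ x y : ZMod (4 * k), c ^ (x + y).val = c ^ x.val * c ^ y.val :=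
    fun hc x y => by rw [ZMod.val_add, ← pow_eq_pow_mod _ hc, pow_add]
  have neg : ∀ {c : G}, c ^ (4 * k) = 1 → s * c * s⁻¹ = c⁻¹ → ∀ x : ZMod (4 * k),
      s * c ^ x.val = c ^ (-x).val * s := fun {c} hc h x => by
    rw [← mul_inv_eq_iff_eq_mul, ← conj_pow, h, inv_pow, inv_eq_iff_mul_eq_one, ← add hc]; simp
  have sw : ∀ {c c' : G}, t * c * t⁻¹ = c' → ∀ n : ℕ, t * c ^ n = c' ^ n * t := fun h n => by
    rw [← h, conj_pow]; group
  have cm : ∀ m n : ℕ, b ^ m * a ^ n = a ^ n * b ^ m := fun m n => (hab.pow_pow n m).eq.symm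
  have key : ∀ (e d : Bool) (x y : ZMod (4 * k)), bp s e * bp t d * (a ^ x.val * b ^ y.val) =
      a ^ (sg _ e * (bif d then y else x)).val * b ^ (sg _ e * (bif d then x else y)).val * (bp s e * bp t d) := by
    rintro (_ | _) (_ | _) x y <;> simp only [bp, sg_ff, sg_tt, cond_true, cond_false, one_mul, mul_one, neg_mul]
    · rw [← mul_assoc, sw ta, mul_assoc, sw tb, ← mul_assoc, cm]
    · rw [← mul_assoc, neg ha sa, mul_assoc, neg hb sb, mul_assoc]
    · rw [mul_assoc, ← mul_assoc t, sw ta, mul_assoc, sw tb, ← mul_assoc (b ^ _), cm, ← mul_assoc,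
        ← mul_assoc, neg ha sa, mul_assoc _ s, neg hb sb]; group
  have xr : ∀ e d e' d' : Bool, bp s (xor e e') * bp t (xor d d') = bp s e * bp t d * (bp s e' * bp t d') := by
    have ts : t * s = s * t := st.symm
    have ss' : ∀ c, s * (s * c) = c := fun c => by rw [← mul_assoc, ss, one_mul]
    have ts' : ∀ c, t * (s * c) = s * (t * c) := fun c => by rw [← mul_assoc, ts, mul_assoc]
    rintro (_ | _) (_ | _) (_ | _) (_ | _) <;> simp [bp, mul_assoc, ss, tt, ts, ss', ts']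
  have vl : ∀ {c : G}, c ^ (4 * k) = 1 → ∀ x : ℤ, c ^ ((x : ZMod (4 * k)).val) = c ^ x := fun {c} hc x => by
    rw [← zpow_natCast, ZMod.val_intCast, ← zpow_eq_zpow_emod' x hc]
  refine ⟨MonoidHom.mk' (fun w => a ^ w.x.val * b ^ w.y.val * (bp s w.e * bp t w.d)) ?_, fun x y e d => ?_⟩
  · rintro ⟨x, y, e, d⟩ ⟨x', y', e', d'⟩
    simp only [mul_def]
    rw [add ha, add hb, xr, mul_assoc (a ^ x.val * b ^ y.val), ← mul_assoc (bp s e * bp t d) (_ * _) (_ * _), key,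
      mul_assoc (a ^ x.val), ← mul_assoc (a ^ _) (b ^ y.val), ← cm]
    group
  · simp only [MonoidHom.mk'_apply, vl ha, vl hb]

end CL.WQ
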