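/- Element conjugacy, extension to centralisers and the Thompson–Lyons transfer lemma in fusion systems. -/
import Cfsg.Agent.FUS.WQ.Defs
import Cfsg.Agent.S5192

set_option autoImplicit false

namespace CL.WQ

open Cfsg CL.Fus Subgroup Cfsg.FusionSystem

universe u

variable {Ω : Type u} [Group Ω] {S : Subgroup Ω} {F : FusionSystem S}

/-- the centraliser in `S` of an element -/
def C (S : Subgroup Ω) (x : Ω) : Subgroup Ω := centralizerIn S (zpowers x)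

theorem mem_C {x y : Ω} : y ∈ C S x ↔ y ∈ S ∧ Commute x y := by
  refine and_congr_right fun _ => ⟨fun h => h x (mem_zpowers x), fun h => ?_⟩
  rintro _ ⟨k, rfl⟩
  exact (h.zpow_left k).eq

theorem C_le (x : Ω) : C S x ≤ S := centralizerIn_le _ _

theorem self_mem_C {x : Ω} (hx : x ∈ S) : x ∈ C S x := mem_C.2 ⟨hx, Commute.refl x⟩

/-- conjugacy of elements -/
def Cj (F : FusionSystem S) (x y : Ω) : Prop := ∃ P f, Mor F P f ∧ x ∈ P ∧ f x = y

theorem Mor.cj' {P : Subgroup Ω} {f : Ω → Ω} (h : Mor F P f) {x : Ω} (hx : x ∈ P) : Cj F x (f x) :=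
  ⟨P, f, h, hx, rfl⟩

theorem Mor.comm {P : Subgroup Ω} {f : Ω → Ω} (h : Mor F P f) {x y : Ω} (hx : x ∈ P) (hy : y ∈ P)
    (e : Commute x y) : Commute (f x) (f y) := by
  rw [Commute, SemiconjBy, ← h.map_mul hx hy, e.eq, h.map_mul hy hx]

theorem Mor.ne {P : Subgroup Ω} {f : Ω → Ω} (h : Mor F P f) {x y : Ω} (hx : x ∈ P) (hy : y ∈ P)
    (e : x ≠ y) : f x ≠ f y := fun k => e (h.injOn hx hy k)

theorem Mor.ne_one {P : Subgroup Ω} {f : Ω → Ω} (h : Mor F P f) {x : Ω} (hx : x ∈ P) (e : x ≠ 1) : f x ≠ 1 :=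
  fun k => e ((h.eq_one_iff hx).1 k)

theorem Mor.sq {P : Subgroup Ω} {f : Ω → Ω} (h : Mor F P f) {x : Ω} (hx : x ∈ P) (e : x * x = 1) :
    f x * f x = 1 := by rw [← h.map_mul hx hx, e, h.map_one]

namespace Cj

variable {x y w : Ω}

theorem left (h : Cj F x y) : x ∈ S := let ⟨_, _, h, hx, _⟩ := h; h.le hx

theorem right (h : Cj F x y) : y ∈ S := let ⟨_, _, h, hx, e⟩ := h; e ▸ h.map_mem hx

theorem refl (hx : x ∈ S) : Cj F x x := ⟨S, id, mor_id F le_rfl, hx, rfl⟩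

theorem symm (h : Cj F x y) : Cj F y x := by
  obtain ⟨P, f, hf, hx, rfl⟩ := h
  obtain ⟨g, hg, e, -⟩ := hf.exists_inv
  exact ⟨_, g, hg, mem_img_of_mem f hx, e x hx⟩

theorem map (h : Cj F x y) {Q : Subgroup Ω} {g : Ω → Ω} (hg : Mor F Q g) (hy : y ∈ Q) : Cj F x (g y) := by
  obtain ⟨P, f, hf, hx, rfl⟩ := h
  have h1 := hf.mono (zpowers_le.2 hx)
  exact ⟨_, _, hg.comp_img h1 (h1.isHomOn.img_zpowers.trans_le (zpowers_le.2 hy)), mem_zpowers x, rfl⟩

theorem trans (h : Cj F x y) (k : Cj F y w) : Cj F x w := by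
  obtain ⟨Q, g, hg, hy, rfl⟩ := k
  exact h.map hg hy

theorem cj (h : Cj F x y) {s : Ω} (hs : s ∈ S) : Cj F x (cj s y) := h.map (mor_cj F le_rfl hs) h.right

theorem of_cj (h : Cj F x y) {s : Ω} (hs : s ∈ S) (e : s * y * s⁻¹ = w) : Cj F x w := e ▸ h.cj hs

theorem sq (h : Cj F x y) (e : x * x = 1) : y * y = 1 := by
  obtain ⟨P, f, hf, hx, rfl⟩ := h
  exact Mor.sq hf hx e

theorem ne_one (h : Cj F x y) (e : x ≠ 1) : y ≠ 1 := by
  obtain ⟨P, f, hf, hx, rfl⟩ := h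
  exact Mor.ne_one hf hx e

end Cj

theorem exists_sq_pow (hS : IsPGroup 2 S) {x : Ω} (hx : x ∈ S) (h1 : x ≠ 1) :
    ∃ n : ℕ, x ^ 2 ^ n ≠ 1 ∧ x ^ 2 ^ n * x ^ 2 ^ n = 1 := by
  obtain ⟨k, hk⟩ := hS ⟨x, hx⟩
  have h2 : x ^ 2 ^ k = 1 := congrArg Subtype.val hk
  clear hk
  induction k with
  | zero => exact absurd (by simpa using h2) h1
  | succ k ih =>
    by_cases h : x ^ 2 ^ k = 1
    · exact ih h
    · exact ⟨k, h, by rw [← pow_add, ← two_mul, ← pow_succ', h2]⟩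

variable [Finite S] (hS : IsPGroup 2 S) (hF : F.IsSaturated 2)
include hS hF

theorem exists_to {x y : Ω} (h : Cj F x y) (hc : F.IsFullyCentralized (zpowers y)) :
    ∃ g, Mor F (C S x) g ∧ g x = y := by
  obtain ⟨P, f, hf, hx, rfl⟩ := h
  have h1 := hf.mono (zpowers_le.2 hx)
  obtain ⟨g, hg, e⟩ := exists_extend hS hF h1 (by rwa [h1.isHomOn.img_zpowers])
  exact ⟨g, hg.mono (centralizerIn_le_Nphi _ _ _), e (mem_zpowers x)⟩

theorem exists_fc {x : Ω} (hx : x ∈ S) : ∃ g, Mor F (C S x) g ∧ F.IsFullyCentralized (zpowers (g x)) := by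
  obtain ⟨Q, hQ, h⟩ := exists_fullyCentralized F (zpowers_le.2 hx)
  obtain ⟨f, hf, rfl⟩ := isConj_iff.1 hQ
  rw [hf.isHomOn.img_zpowers] at h
  obtain ⟨g, hg, e⟩ := exists_to hS hF (Mor.cj' hf (mem_zpowers x)) h
  exact ⟨g, hg, e ▸ h⟩

open Cfsg.Agent.S5192 in
/-- the Thompson–Lyons transfer lemma -/
theorem thompson (hfoc : F.focalSubgroup = S) {T : Subgroup Ω} (hT : ⁅S, S⁆ ≤ T) {i : Ω} (hi : i ∈ S)
    (i2 : i * i = 1) (hiT : i ∉ T) (hj : ∀ j ∈ S, j * j = 1 → j ∉ T → j * i ∈ T) :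
    ∃ g, Mor F (C S i) g ∧ g i ∈ T := by
  classical
  by_contra hne
  have hi1 : i ≠ 1 := fun e => hiT (e ▸ one_mem T)
  have hi2 : orderOf i = 2 := orderOf_eq_prime (by rw [pow_two, i2]) hi1
  have h : ∀ j : Ω, F.IsConjElt i j → F.IsFullyNormalized (zpowers j) → j ∉ T := fun j h1 h2 h3 => by
    obtain ⟨g, hg, e⟩ := exists_to hS hF (isConjElt_iff.1 h1) (fullyCentralized_of_fullyNormalized hS hF h2)
    exact hne ⟨g, hg, e ▸ h3⟩
  have := Fintype.ofFinite S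
  obtain ⟨B⟩ := nonempty_biset hS hF
  obtain ⟨A, _, l, hθ, hl, -⟩ := exists_abChar hT
  have hcj : ∀ s ∈ S, ∀ x ∈ S, cj s x ∈ T ↔ x ∈ T := fun s hs x hx => by
    rw [← hl _ (cj_mem hs hx), hθ.comm_cj hs hx, hl _ hx]
  have e2 : l i * l i = 1 := by rw [← hθ.map_mul hi hi, i2, hθ.map_one]
  have e1 : orderOf (l i) = 2 := orderOf_eq_prime (by rw [pow_two, e2]) fun e => hiT ((hl _ hi).1 e)
  have e3 : ∀ j ∈ S, j * j = 1 → l j = l i ^ (if j ∈ T then (0 : ℤ) else 1) := fun j h1 h2 => by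
    split_ifs with h3
    · rw [(hl _ h1).2 h3, zpow_zero]
    · have := (hl _ (S.mul_mem h1 hi)).2 (hj j h1 h2 h3)
      rw [hθ.map_mul h1 hi, ← e2] at this
      rw [zpow_one, mul_right_cancel this]
  have h1 := B.tr_eq_one_of_mem_focal hθ (u := ⟨i, hi⟩) (hfoc.ge hi)
  have hu : (⟨i, hi⟩ : S) ^ 2 = 1 := Subtype.ext (hi2 ▸ pow_orderOf_eq_one i)
  rw [B.tr_apply, Finset.prod_congr rfl (g := fun j => l i ^ (B.n j *
    fixSum (B.P j) ((fun x => if x ∈ T then 0 else 1) ∘ B.φ j) ⟨i, hi⟩)) fun j _ => by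
      rw [(isActCocycle_coc _).prod_eq_prod_fixed fun k x hk hk' _ => by
        rw [show k = 2 from le_antisymm (Nat.le_of_dvd two_pos (hk'.trans (orderOf_dvd_of_pow_eq_one hu))) hk, hu,
          (isActCocycle_coc _).one], mul_comm, zpow_mul, fixSum, zpow_finset_sum]
      refine congrArg (· ^ B.n j) (Finset.prod_congr (by congr) fun x hx => ?_)
      have h2 := smul_eq_iff_cj_mem.1 (Finset.mem_filter.1 hx).2
      exact (coc_of_fixed _ (Finset.mem_filter.1 hx).2).trans (e3 _ ((B.mor j).map_mem h2) (Mor.sq (B.mor j) h2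
        (Cj.sq ((Cj.refl (F := F) hi).cj (S.inv_mem x.out.2)) i2))), ← zpow_finset_sum,
    ← orderOf_dvd_iff_zpow_eq_one, e1] at h1
  have hdvd : ∀ s : S, orderOf (s : Ω) = 2 →
      (Nat.card (normalizerIn S (Subgroup.zpowers (s : Ω))) : ℤ) ∣ B.χ i s := fun s hs => by
    have h2 := B.sum (f := fun x => if ∃ g ∈ S, cj g s = x then 1 else 0) (fun t ht x _ => if_congr
      ⟨fun ⟨g, hg, e⟩ => ⟨t⁻¹ * g, S.mul_mem (S.inv_mem ht) hg, by rw [cj_mul, e, cj_inv_cj]⟩,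
        fun ⟨g, hg, e⟩ => ⟨t * g, S.mul_mem ht hg, by rw [cj_mul, e]⟩⟩ rfl rfl) ⟨i, hi⟩
    rw [Finset.sum_congr rfl (g := fun x => if x ∈ CL.Tr.orbFinset (⊤ : Subgroup (ConjAct S)) s then B.χ i s else 0)
      fun x _ => by
        rw [ite_mul, one_mul, zero_mul]
        refine if_ctx_congr (Iff.trans ?_ CL.Tr.mem_orbFinset.symm) (fun hx => ?_) fun _ => rfl
        · exact ⟨fun ⟨g, hg, e⟩ => ⟨ConjAct.toConjAct ⟨g, hg⟩, trivial, Subtype.ext e⟩,
            fun ⟨g, _, e⟩ => ⟨_, (ConjAct.ofConjAct g).2, congrArg Subtype.val e⟩⟩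
        · obtain ⟨g, -, rfl⟩ := CL.Tr.mem_orbFinset.1 hx
          exact (B.stable (isConjElt_refl F hi) ((mor_cj F le_rfl (ConjAct.ofConjAct g).2).isConjElt s.2)).symm,
      Finset.sum_ite_mem, Finset.univ_inter, Finset.sum_const, nsmul_eq_mul, ← card_orb_mul hs, Nat.cast_mul,
      mul_assoc] at h2
    exact ⟨_, (mul_left_cancel₀ (Nat.cast_ne_zero.2 (left_ne_zero_of_mul
      ((card_orb_mul hs).trans_ne Nat.card_pos.ne'))) h2).symm⟩
  have h2 : (2 : ℤ) ∣ ∑ j, B.n j * fixSum (B.P j) ((fun x => if x ∈ T then 1 else 0) ∘ B.φ j) ⟨i, hi⟩ := by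
    refine Int.dvd_of_mul_dvd_mul_left (Int.natCast_ne_zero.2 (Nat.card_pos (α := S)).ne') ?_
    rw [B.sum fun s hs x hx => if_congr (hcj s hs x hx) rfl rfl]
    refine_lift (ZMod.intCast_zmod_eq_zero_iff_dvd _ (Nat.card S * 2)).1 ?_
    rw [Int.cast_sum]
    refine CL.Tr.prod_eq_one_of_orbits (A := Multiplicative (ZMod (Nat.card S * 2))) (⊤ : Subgroup (ConjAct S))
      (fun _ _ _ _ => Finset.mem_univ _) fun s _ => ?_
    change ∑ x ∈ CL.Tr.orbFinset (⊤ : Subgroup (ConjAct S)) s,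
      (((if (x : Ω) ∈ T then 1 else 0) * B.χ i x : ℤ) : ZMod (Nat.card S * 2)) = 0
    have h5 : ∀ x ∈ CL.Tr.orbFinset (⊤ : Subgroup (ConjAct S)) s,
        (((if (x : Ω) ∈ T then 1 else 0) * B.χ i x : ℤ) : ZMod (Nat.card S * 2)) =
        (((if (s : Ω) ∈ T then 1 else 0) * B.χ i s : ℤ) : ZMod (Nat.card S * 2)) := fun x hx => by
      obtain ⟨g, -, rfl⟩ := CL.Tr.mem_orbFinset.1 hx
      rw [B.stable (isConjElt_refl F hi) ((mor_cj F le_rfl (ConjAct.ofConjAct g).2).isConjElt s.2),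
        ← if_congr (hcj _ (ConjAct.ofConjAct g).2 _ s.2) rfl rfl]
      rfl
    rw [Finset.sum_congr rfl h5, Finset.sum_const, nsmul_eq_mul, ← Int.cast_natCast, ← Int.cast_mul,
      ZMod.intCast_zmod_eq_zero_iff_dvd]
    by_cases hsT : (s : Ω) ∈ T
    swap
    · simp [hsT]
    by_cases h0 : B.χ i s = 0
    · simp [h0]
    have hc := B.conj hi s.2 h0
    have hs : orderOf (s : Ω) = 2 := by
      obtain ⟨P, f, hf, hP, e⟩ := isConjElt_iff.1 hc
      rw [← e, hf.orderOf_eq hP, hi2]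
    obtain ⟨Q, hQ, hQ'⟩ := exists_fullyNormalized F (Subgroup.zpowers_le.2 s.2)
    obtain ⟨ψ, hψ, rfl⟩ := isConj_iff.1 hQ
    have h3 := hdvd ⟨_, hψ.map_mem (Subgroup.mem_zpowers _)⟩ ((hψ.orderOf_eq (Subgroup.mem_zpowers _)).trans hs)
    rw [← hψ.isHomOn.img_zpowers, ← B.stable (isConjElt_refl F hi) (hψ.isConjElt (Subgroup.mem_zpowers _))] at h3
    rw [if_pos hsT, one_mul, ← card_orb_mul hs, mul_assoc, Nat.cast_mul]
    refine mul_dvd_mul_left _ ((Int.natCast_dvd_natCast.2 ?_).trans h3)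
    have h4 := not_le.1 fun h5 => h s hc (fullyNormalized_of_isConj hQ' (isConj_symm hQ) h5) hsT
    have := finite_of_le (normalizerIn_le S (Subgroup.zpowers (s : Ω)))
    have := finite_of_le (normalizerIn_le S (img ψ (Subgroup.zpowers (s : Ω))))
    obtain ⟨a, ha⟩ := (isPGroup_of_le hS (normalizerIn_le S (Subgroup.zpowers (s : Ω)))).exists_card_eq
    obtain ⟨b, hb⟩ := (isPGroup_of_le hS (normalizerIn_le S (img ψ (Subgroup.zpowers (s : Ω))))).exists_card_eq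
    rw [ha, hb, Nat.pow_lt_pow_iff_right one_lt_two] at h4
    rw [ha, hb, ← pow_succ]
    exact pow_dvd_pow 2 h4
  refine B.not_dvd_deg hS ((dvd_sub_right (dvd_add h1 h2)).1 ?_)
  rw [← Finset.sum_add_distrib, Biset.deg, ← Finset.sum_sub_distrib]
  refine Finset.dvd_sum fun j _ => ?_
  rw [← mul_add, ← mul_sub, fixSum, fixSum, ← Finset.sum_add_distrib, Finset.sum_congr rfl (g := fun _ => 1)
    fun x _ => by simp only [Function.comp_apply]; split_ifs <;> rfl, Finset.sum_const, nsmul_eq_mul, mul_one,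
    ← Fintype.card_subtype, ← Nat.card_eq_fintype_card]
  refine Dvd.dvd.mul_left (Nat.ModEq.dvd (((hS.to_subgroup (Subgroup.zpowers ⟨i, hi⟩)).card_modEq_card_fixedPoints
    (S ⧸ (B.P j).subgroupOf S)).trans (congrArg (· % 2) ?_))) _
  refine Nat.card_congr (Equiv.subtypeEquivRight fun x => ⟨fun h => h ⟨_, Subgroup.mem_zpowers _⟩, fun h g => ?_⟩)
  exact (Subgroup.zpowers_le (H := MulAction.stabilizer S x)).2 h g.2

end CL.WQ
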