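/- A weakly closed quaternion subgroup: the basic set-up. -/
import Cfsg.Agent.FUS.WQ.A

set_option autoImplicit false

namespace CL.WQ

open Cfsg CL.Fus Subgroup Cfsg.FusionSystem

theorem dvd_of_odd {e : ℕ} {u x : ℤ} (hu : Odd u) (h : 2 ^ e ∣ u * x) : 2 ^ e ∣ x :=
  (Int.isCoprime_two_left.2 hu).pow_left.dvd_of_dvd_mul_left h

theorem dvd8 {j : ℕ} {u x : ℤ} (hu : Odd u) (h : 8 * 2 ^ j ∣ u * x) : 8 * 2 ^ j ∣ x := by
  rw [show (8 : ℤ) * 2 ^ j = 2 ^ (j + 3) by ring] at h ⊢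
  exact dvd_of_odd hu h

theorem dvd4 {j : ℕ} {x : ℤ} (h : 8 * 2 ^ j ∣ 2 * x) : 4 * 2 ^ j ∣ x :=
  Int.dvd_of_mul_dvd_mul_left two_ne_zero (by rwa [show (2 : ℤ) * (4 * 2 ^ j) = 8 * 2 ^ j by ring])

theorem odd_inv (j : ℕ) {x : ℤ} (hx : Odd x) : ∃ y, Odd y ∧ 8 * 2 ^ j ∣ x * y - 1 := by
  obtain ⟨u, v, h⟩ := (Int.isCoprime_two_left.2 hx).pow_left (m := j + 3)
  refine ⟨v, ?_, -u, by linear_combination h⟩
  refine Int.not_even_iff_odd.1 fun ⟨w, hw⟩ => ?_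
  have : (2 : ℤ) * (u * 2 ^ (j + 2) + w * x) = 1 := by rw [← h, hw]; ring
  omega

theorem sq_one {j : ℕ} {l : ℤ} (hl : Odd l) (h : 8 * 2 ^ j ∣ l * l - 1) :
    4 * 2 ^ j ∣ l - 1 ∨ 4 * 2 ^ j ∣ l + 1 := by
  obtain ⟨t, rfl⟩ := hl
  rcases Int.even_or_odd t with ht | ht
  · exact Or.inl (dvd4 (dvd8 ht.add_one (by convert h using 1; ring)))
  · exact Or.inr (dvd4 (dvd8 ht (by convert h using 1; ring)))

section grp

variable {G : Type*} [Group G] {g s x y : G} {j : ℕ}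

theorem cjz (h : s * x * s⁻¹ = y) (n : ℤ) : s * x ^ n * s⁻¹ = y ^ n := by rw [← h, conj_zpow]

theorem cjn (h : s * x * s⁻¹ = y) (n : ℕ) : s * x ^ n * s⁻¹ = y ^ n := by rw [← h, conj_pow]

theorem cji (h : s * x * s⁻¹ = y) : s * x⁻¹ * s⁻¹ = y⁻¹ := by rw [← h]; group

theorem cjm {x' y' : G} (h : s * x * s⁻¹ = y) (h' : s * x' * s⁻¹ = y') : s * (x * x') * s⁻¹ = y * y' := by
  rw [← h, ← h']; group

theorem cjc {s' w : G} (h : s * x * s⁻¹ = y) (h' : s' * y * s'⁻¹ = w) : s' * s * x * (s' * s)⁻¹ = w := by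
  rw [← h', ← h]; group

theorem cjs (h : s * x * s⁻¹ = y) : s⁻¹ * y * s⁻¹⁻¹ = x := by rw [← h]; group

theorem cm (h : s * x * s⁻¹ = x) : Commute s x := mul_inv_eq_iff_eq_mul.1 h

theorem mc (h : Commute s x) : s * x * s⁻¹ = x := mul_inv_eq_iff_eq_mul.2 h.eq

theorem inv_of_sq (h : x * x = 1) : x⁻¹ = x := inv_eq_of_mul_eq_one_right h

theorem one_iff (h : orderOf g = 8 * 2 ^ j) {x : ℤ} : g ^ x = 1 ↔ 8 * 2 ^ j ∣ x := by
  rw [← orderOf_dvd_iff_zpow_eq_one, h]; push_cast; rfl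

theorem eq_iff (h : orderOf g = 8 * 2 ^ j) {x y : ℤ} : g ^ x = g ^ y ↔ 8 * 2 ^ j ∣ x - y := by
  rw [← one_iff h, zpow_sub, mul_inv_eq_one]

theorem half_ne (h : orderOf g = 8 * 2 ^ j) : g ^ (4 * 2 ^ j : ℤ) ≠ 1 := fun e => by
  have h1 : (0 : ℤ) < 2 ^ j := by positivity
  have := Int.le_of_dvd (by positivity) ((one_iff h).1 e)
  omega

theorem half_sq (h : orderOf g = 8 * 2 ^ j) : g ^ (4 * 2 ^ j : ℤ) * g ^ (4 * 2 ^ j : ℤ) = 1 := by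
  rw [← zpow_add, one_iff h]; exact ⟨1, by ring⟩

theorem half_cases (h : orderOf g = 8 * 2 ^ j) {x : ℤ} (e : 4 * 2 ^ j ∣ x) :
    g ^ x = 1 ∨ g ^ x = g ^ (4 * 2 ^ j : ℤ) := by
  obtain ⟨t, rfl⟩ := e
  rw [one_iff h, eq_iff h]
  rcases Int.even_or_odd' t with ⟨u, rfl | rfl⟩
  · exact Or.inl ⟨u, by ring⟩
  · exact Or.inr ⟨u, by ring⟩

theorem sq_cases (h : orderOf g = 8 * 2 ^ j) {x : ℤ} (e : g ^ x * g ^ x = 1) :
    g ^ x = 1 ∨ g ^ x = g ^ (4 * 2 ^ j : ℤ) := by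
  rw [← zpow_add, one_iff h, ← two_mul] at e
  exact half_cases h (dvd4 e)

theorem odd_of (h : orderOf g = 8 * 2 ^ j) {x : ℤ} (e : (g ^ x) ^ (4 * 2 ^ j : ℤ) ≠ 1) : Odd x :=
  Int.not_even_iff_odd.1 fun ⟨t, ht⟩ => e (by rw [← zpow_mul, one_iff h, ht]; exact ⟨t, by ring⟩)

theorem odd_of' {g' : G} (h : orderOf g = 8 * 2 ^ j) (h' : orderOf g' = 8 * 2 ^ j) {x : ℤ} (e : g' = g ^ x) :
    Odd x := odd_of h (e ▸ half_ne h')

theorem half_odd (h : orderOf g = 8 * 2 ^ j) {x : ℤ} (e : Odd x) :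
    (g ^ x) ^ (4 * 2 ^ j : ℤ) = g ^ (4 * 2 ^ j : ℤ) := by
  obtain ⟨t, rfl⟩ := e
  rw [← zpow_mul, eq_iff h]; exact ⟨t, by ring⟩

theorem gen_odd (h : orderOf g = 8 * 2 ^ j) {x : ℤ} (e : Odd x) : ∃ y : ℤ, Odd y ∧ (g ^ x) ^ y = g := by
  obtain ⟨y, h1, h2⟩ := odd_inv j e
  exact ⟨y, h1, by rw [← zpow_mul, ← zpow_one g, ← zpow_mul, one_mul, eq_iff h]; exact h2⟩

theorem ord_odd (h : orderOf g = 8 * 2 ^ j) {x : ℤ} (e : Odd x) : orderOf (g ^ x) = 8 * 2 ^ j := by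
  obtain ⟨y, -, h2⟩ := gen_odd h e
  rw [← h]
  exact Nat.dvd_antisymm (orderOf_dvd_of_mem_zpowers ⟨x, rfl⟩) (orderOf_dvd_of_mem_zpowers ⟨y, h2⟩)

theorem comm_odd (h : orderOf g = 8 * 2 ^ j) {x : ℤ} (e : Odd x) (c : Commute s (g ^ x)) : Commute s g := by
  obtain ⟨y, -, h2⟩ := gen_odd h e
  exact h2 ▸ c.zpow_right y

theorem four_ne (h : orderOf g = 8 * 2 ^ j) : g * g * (g * g) ≠ 1 := fun e => by
  have h1 : (1 : ℤ) ≤ 2 ^ j := one_le_pow₀ one_le_two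
  have := Int.le_of_dvd (by positivity) ((one_iff h (x := 1 + 1 + (1 + 1))).1 (by
    simpa only [zpow_add, zpow_one] using e))
  omega

end grp

universe u

variable {Ω : Type u} [Group Ω] {S : Subgroup Ω} {F : FusionSystem S}

theorem Mor.conj {P : Subgroup Ω} {f : Ω → Ω} (h : Mor F P f) {g x y : Ω} (hg : g ∈ P) (hx : x ∈ P)
    (e : g * x * g⁻¹ = y) : f g * f x * (f g)⁻¹ = f y := e ▸ (h.isHomOn.map_conj hg hx).symm

/-- the hypotheses -/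
structure Hyp (F : FusionSystem S) (R : Subgroup Ω) (a b z : Ω) (j : ℕ) : Prop where
  pS : IsPGroup 2 S
  sat : F.IsSaturated 2
  le : R ≤ S
  oa : orderOf a = 8 * 2 ^ j
  hz : a ^ (4 * 2 ^ j : ℤ) = z
  bb : b * b = z
  ba : b * a * b⁻¹ = a⁻¹
  mem : ∀ x, x ∈ R ↔ ∃ i : ℤ, x = a ^ i ∨ x = a ^ i * b
  wc : ∀ P f, Mor F P f → R ≤ P → ∀ x ∈ R, f x ∈ R
  hC : ∀ y ∈ centralizerIn S R, y * y = 1 → y ≠ 1 → ∀ P f, Mor F P f → y ∈ P → f y = y →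
    ∀ x ∈ P, x ∈ R → f x ∈ R
  foc : F.focalSubgroup = S

/-- `x` lies in the copy of (a part of) `R` attached to the conjugate `u` of `z` -/
def Rel (F : FusionSystem S) (R : Subgroup Ω) (z u x : Ω) : Prop :=
  ∃ P f, Mor F P f ∧ u ∈ P ∧ x ∈ P ∧ f u = z ∧ f x ∈ R

variable {R : Subgroup Ω} {a b z : Ω} {j : ℕ}

theorem Rel.map {u x : Ω} (h : Rel F R z u x) {Q : Subgroup Ω} {g : Ω → Ω} (hg : Mor F Q g) (hu : u ∈ Q)
    (hx : x ∈ Q) : Rel F R z (g u) (g x) := by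
  obtain ⟨P, f, hf, hu', hx', e1, e2⟩ := h
  obtain ⟨g', hg', e, e'⟩ := (hg.mono (inf_le_left : Q ⊓ P ≤ Q)).exists_inv
  exact ⟨_, f ∘ g', hf.comp hg' fun y hy => (e' y hy).1.2, mem_img_of_mem g ⟨hu, hu'⟩, mem_img_of_mem g ⟨hx, hx'⟩,
    by rw [Function.comp, e u ⟨hu, hu'⟩, e1], by rw [Function.comp, e x ⟨hx, hx'⟩]; exact e2⟩

theorem Rel.cj {u x : Ω} (h : Rel F R z u x) : Cj F z u :=
  let ⟨P, f, hf, hu, _, e, _⟩ := h
  Cj.symm ⟨P, f, hf, hu, e⟩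

theorem Rel.mem {u x : Ω} (h : Rel F R z u x) : x ∈ S :=
  let ⟨_, _, hf, _, hx, _⟩ := h
  hf.le hx

namespace Hyp

variable (H : Hyp F R a b z j)
include H

theorem z2 : z * z = 1 := H.hz ▸ half_sq H.oa

theorem z1 : z ≠ 1 := H.hz ▸ half_ne H.oa

theorem zi : z⁻¹ = z := inv_of_sq H.z2

theorem aR (x : ℤ) : a ^ x ∈ R := (H.mem _).2 ⟨x, Or.inl rfl⟩

theorem abR (x : ℤ) : a ^ x * b ∈ R := (H.mem _).2 ⟨x, Or.inr rfl⟩

theorem aR' : a ∈ R := by simpa using H.aR 1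

theorem bR : b ∈ R := by simpa using H.abR 0

theorem zR : z ∈ R := H.hz ▸ H.aR _

theorem aS : a ∈ S := H.le H.aR'

theorem bS : b ∈ S := H.le H.bR

theorem zS : z ∈ S := H.le H.zR

theorem baz (x : ℤ) : b * a ^ x * b⁻¹ = a ^ (-x) := by rw [cjz H.ba, inv_zpow']

theorem ra (x : ℤ) : a ^ x * b * a * (a ^ x * b)⁻¹ = a⁻¹ := by
  rw [cjc H.ba (s' := a ^ x) (w := a⁻¹) (by group)]

theorem rr (x : ℤ) : a ^ x * b * (a ^ x * b) = z := by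
  rw [← H.bb, show a ^ x * b * (a ^ x * b) = a ^ x * (b * a ^ x * b⁻¹) * (b * b) by group, H.baz]; group

theorem shift (x : ℤ) : Hyp F R a (a ^ x * b) z j :=
  { H with
    bb := H.rr x
    ba := H.ra x
    mem := fun y => (H.mem y).trans ⟨fun ⟨i, h⟩ => h.elim (fun h => ⟨i, Or.inl h⟩) fun h =>
      ⟨i - x, Or.inr (by rw [h]; group)⟩, fun ⟨i, h⟩ => h.elim (fun h => ⟨i, Or.inl h⟩) fun h =>
      ⟨i + x, Or.inr (by rw [h]; group)⟩⟩ }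

theorem ninv : a ≠ a⁻¹ := fun e => four_ne H.oa (by rw [mul_eq_one_iff_eq_inv.2 e, mul_one])

theorem nab : ¬ Commute b a := fun e => H.ninv ((mc e).symm.trans H.ba)

theorem uniq {x : Ω} (hx : x ∈ R) (e : x * x = 1) : x = 1 ∨ x = z := by
  obtain ⟨i, rfl | rfl⟩ := (H.mem x).1 hx
  · exact H.hz ▸ sq_cases H.oa e
  · exact absurd ((H.rr i).symm.trans e) H.z1

theorem cyc {x : Ω} (hx : x ∈ R) (e : x * x ≠ z) : ∃ i : ℤ, x = a ^ i := by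
  obtain ⟨i, rfl | rfl⟩ := (H.mem x).1 hx
  exacts [⟨i, rfl⟩, absurd (H.rr i) e]

theorem gen {x : Ω} (hx : x ∈ R) (e : orderOf x = 8 * 2 ^ j) : ∃ i : ℤ, Odd i ∧ x = a ^ i := by
  obtain ⟨i, hi⟩ := H.cyc hx fun k => four_ne e (by rw [k, H.z2])
  exact ⟨i, odd_of' H.oa e hi, hi⟩

theorem nrm {s r : Ω} (hs : s ∈ S) (hr : r ∈ R) : s * r * s⁻¹ ∈ R := H.wc S _ (mor_cj F le_rfl hs) H.le r hr

theorem zc {s : Ω} (hs : s ∈ S) : Commute z s := by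
  refine (cm ((H.uniq (H.nrm hs H.zR) (by rw [← cjm rfl rfl, H.z2]; group)).resolve_left fun e => H.z1 ?_)).symm
  rw [← cjs e]; group

theorem zC {s : Ω} (hs : s ∈ S) : z ∈ C S s := mem_C.2 ⟨H.zS, (H.zc hs).symm⟩

theorem act {s : Ω} (hs : s ∈ S) : ∃ l : ℤ, Odd l ∧ s * a * s⁻¹ = a ^ l :=
  H.gen (H.nrm hs H.aR') (H.oa ▸ (MulAut.conj s).orderOf_eq a)

theorem actb {s : Ω} (hs : s ∈ S) : ∃ i : ℤ, s * b * s⁻¹ = a ^ i * b := by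
  obtain ⟨i, h | h⟩ := (H.mem _).1 (H.nrm hs H.bR)
  · obtain ⟨l, -, hl⟩ := H.act hs
    refine (H.nab ((MulAut.conj s).injective ?_)).elim
    rw [map_mul, map_mul, MulAut.conj_apply, MulAut.conj_apply, h, hl]; group
  · exact ⟨i, h⟩

theorem mem_T {y : Ω} : y ∈ centralizerIn S R ↔ y ∈ S ∧ Commute y a ∧ Commute y b := by
  refine and_congr_right fun _ => ⟨fun h => ⟨(h a H.aR').symm, (h b H.bR).symm⟩, fun h r hr => ?_⟩
  obtain ⟨i, rfl | rfl⟩ := (H.mem r).1 hr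
  exacts [(h.1.zpow_right i).symm, ((h.1.zpow_right i).mul_right h.2).symm]

omit H in
theorem Tc {y r : Ω} (hy : y ∈ centralizerIn S R) (hr : r ∈ R) : Commute y r := (hy.2 r hr).symm

theorem zT : z ∈ centralizerIn S R := H.mem_T.2 ⟨H.zS, H.zc H.aS, H.zc H.bS⟩

theorem Tn {s y : Ω} (hs : s ∈ S) (hy : y ∈ centralizerIn S R) : s * y * s⁻¹ ∈ centralizerIn S R := by
  refine ⟨S.mul_mem (S.mul_mem hs hy.1) (S.inv_mem hs), fun r hr => ?_⟩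
  have := (Tc hy (H.nrm (S.inv_mem hs) hr)).eq
  rw [show r * (s * y * s⁻¹) = s * (s⁻¹ * r * s⁻¹⁻¹ * y) * s⁻¹ by group, ← this]; group

theorem hZ {P : Subgroup Ω} {f : Ω → Ω} (hf : Mor F P f) (hz : z ∈ P) (e : f z = z) {x : Ω} (hx : x ∈ P)
    (hR : x ∈ R) : f x ∈ R := H.hC z H.zT H.z2 H.z1 P f hf hz e x hx hR

theorem rel_z {x : Ω} : Rel F R z z x ↔ x ∈ R := by
  refine ⟨fun ⟨P, f, hf, h1, h2, e1, e2⟩ => ?_, fun h => ⟨S, id, mor_id F le_rfl, H.zS, H.le h, rfl, h⟩⟩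
  obtain ⟨g, hg, e, -⟩ := hf.exists_inv
  have := H.hZ hg (e1 ▸ mem_img_of_mem f h1) (by rw [← e1, e z h1, e1]) (mem_img_of_mem f h2) e2
  rwa [e x h2] at this

theorem rel_iff {P : Subgroup Ω} {f : Ω → Ω} (hf : Mor F P f) {u x : Ω} (hu : u ∈ P) (hx : x ∈ P) (e : f u = z) :
    Rel F R z u x ↔ f x ∈ R := ⟨fun h => H.rel_z.1 (e ▸ h.map hf hu hx), fun h => ⟨P, f, hf, hu, hx, e, h⟩⟩

theorem rel_map {P : Subgroup Ω} {f : Ω → Ω} (hf : Mor F P f) (hz : z ∈ P) {x : Ω} (hx : x ∈ P) (hR : x ∈ R) :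
    Rel F R z (f z) (f x) := (H.rel_z.2 hR).map hf hz hx

theorem back {P : Subgroup Ω} {f : Ω → Ω} (hf : Mor F P f) (hz : z ∈ P) (e : f z = z) {x : Ω} (hx : x ∈ P)
    (hR : f x ∈ R) : x ∈ R := H.rel_z.1 ⟨P, f, hf, hz, hx, e, hR⟩

theorem relc {u x : Ω} (h : Rel F R z u x) : Commute u x := by
  obtain ⟨P, f, hf, hu, hx, e1, e2⟩ := h
  refine hf.injOn (P.mul_mem hu hx) (P.mul_mem hx hu) ?_
  rw [hf.map_mul hu hx, hf.map_mul hx hu, e1, (H.zc (H.le e2)).eq]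

theorem relC {u x : Ω} (h : Rel F R z u x) : x ∈ C S u := mem_C.2 ⟨h.mem, H.relc h⟩

theorem inv_eq {u x : Ω} (h : Rel F R z u x) (e : x * x = 1) : x = 1 ∨ x = u := by
  obtain ⟨P, f, hf, hu, hx, e1, e2⟩ := h
  exact (H.uniq e2 (Mor.sq hf hx e)).imp (hf.eq_one_iff hx).1 fun k => hf.injOn hx hu (k.trans e1.symm)

variable [Finite S]

theorem phi {u : Ω} (h : Cj F z u) : ∃ g, Mor F (C S u) g ∧ g u = z :=
  exists_to H.pS H.sat h.symm (fullyCentralized_of_central F (zpowers_le.2 H.zS) fun _ hs =>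
    (mem_C.2 ⟨hs, H.zc hs⟩ : _ ∈ C S z).2)

theorem rmul {u x y : Ω} (h : Rel F R z u x) (k : Rel F R z u y) : Rel F R z u (x * y) := by
  obtain ⟨g, hg, e⟩ := H.phi h.cj
  have hu := self_mem_C h.cj.right
  rw [H.rel_iff hg hu (mul_mem (H.relC h) (H.relC k)) e, hg.map_mul (H.relC h) (H.relC k)]
  exact mul_mem ((H.rel_iff hg hu (H.relC h) e).1 h) ((H.rel_iff hg hu (H.relC k) e).1 k)

omit [Finite S] H in
theorem rpow {u x : Ω} (h : Rel F R z u x) (n : ℤ) : Rel F R z u (x ^ n) :=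
  let ⟨P, f, hf, hu, hx, e1, e2⟩ := h
  ⟨P, f, hf, hu, zpow_mem hx n, e1, hf.map_zpow hx n ▸ zpow_mem e2 n⟩

omit [Finite S] H in
theorem rinv {u x : Ω} (h : Rel F R z u x) : Rel F R z u x⁻¹ := by simpa using rpow h (-1)

omit [Finite S] H in
theorem rnpow {u x : Ω} (h : Rel F R z u x) (n : ℕ) : Rel F R z u (x ^ n) := by simpa using rpow h n

omit [Finite S] H in
theorem rcj {u x s : Ω} (h : Rel F R z u x) (hs : s ∈ S) : Rel F R z (s * u * s⁻¹) (s * x * s⁻¹) :=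
  h.map (mor_cj F le_rfl hs) h.cj.right h.mem

omit [Finite S] in
theorem rel_pow {u x : Ω} (h : Rel F R z u x) (h1 : x ≠ 1) : ∃ n : ℕ, x ^ 2 ^ n = u := by
  obtain ⟨n, h2, h3⟩ := exists_sq_pow H.pS h.mem h1
  exact ⟨n, (H.inv_eq (rnpow h _) h3).resolve_left h2⟩

omit [Finite S] in
theorem wz {P : Subgroup Ω} {f : Ω → Ω} (hf : Mor F P f) (hP : R ≤ P) : f z = z :=
  (H.uniq (H.wc P f hf hP z H.zR) (Mor.sq hf (hP H.zR) H.z2)).resolve_left (Mor.ne_one hf (hP H.zR) H.z1)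

omit [Finite S] in
theorem R_le_C {u : Ω} (hT : u ∈ centralizerIn S R) : R ≤ C S u := fun _ hr => mem_C.2 ⟨H.le hr, Tc hT hr⟩

theorem nT {u : Ω} (h : Cj F z u) (hT : u ∈ centralizerIn S R) : u = z := by
  obtain ⟨g, hg, e⟩ := H.phi h
  exact hg.injOn (self_mem_C h.right) (H.zC h.right) (e.trans (H.wz hg (H.R_le_C hT)).symm)

theorem disjT {u x : Ω} (h : Rel F R z u x) (hu : u ≠ z) (hT : x ∈ centralizerIn S R) : x = 1 := by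
  by_contra h1
  obtain ⟨n, e⟩ := H.rel_pow h h1
  exact hu (H.nT h.cj (e ▸ pow_mem hT _))

omit [Finite S] in
theorem disjR {u x : Ω} (h : Rel F R z u x) (hu : u ≠ z) (hR : x ∈ R) : x = 1 := by
  by_contra h1
  obtain ⟨n, e⟩ := H.rel_pow h h1
  exact (H.uniq (e ▸ pow_mem hR _) (h.cj.sq H.z2)).elim (h.cj.ne_one H.z1) hu

theorem rcomm {u x r : Ω} (h : Rel F R z u x) (hr : r ∈ S) (c : Commute u r) :
    Rel F R z u (x * (r * x⁻¹ * r⁻¹)) := H.rmul h (by simpa only [mc c.symm] using rcj (rinv h) hr)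

theorem cent {u x r : Ω} (h : Rel F R z u x) (hu : u ≠ z) (hr : r ∈ R) (c : Commute u r) : Commute x r := by
  have := H.disjR (H.rcomm h (H.le hr) c) hu (by
    simpa only [mul_assoc] using mul_mem (H.nrm h.mem hr) (inv_mem hr))
  exact cm (by rw [← mul_inv_eq_one, ← this]; group)

theorem centT {u x r : Ω} (h : Rel F R z u x) (hu : u ≠ z) (hr : r ∈ centralizerIn S R) (c : Commute u r) :
    Commute x r := by
  have := H.disjT (H.rcomm h hr.1 c) hu (by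
    simpa only [mul_assoc] using mul_mem (H.Tn h.mem hr) (inv_mem hr))
  exact cm (by rw [← mul_inv_eq_one, ← this]; group)

omit [Finite S] in
theorem rel_sq {u x : Ω} (h : Rel F R z u x) (h1 : x ≠ 1) (h2 : x ≠ u) : ∃ r, Rel F R z u r ∧ r * r = u := by
  obtain ⟨n, e⟩ := H.rel_pow h h1
  rcases n with _ | n
  · exact absurd (by simpa using e) h2
  · exact ⟨_, rnpow h (2 ^ n), by rw [← pow_add, ← two_mul, ← pow_succ', e]⟩

theorem big {u x : Ω} (h : Rel F R z u x) (hu : u ≠ z) (h1 : x ≠ 1) (h2 : x ≠ u) : Commute u a := by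
  obtain ⟨r, hr, rfl⟩ := H.rel_sq h h1 h2
  obtain ⟨l, ⟨t, rfl⟩, hl⟩ := H.act hr.mem
  have k : ∀ x : ℤ, r * r * a ^ x * (r * r)⁻¹ = a ^ ((2 * t + 1) * (2 * t + 1) * x) := fun x => by
    rw [cjz (cjc hl (cjz hl _)), ← zpow_mul, ← zpow_mul, mul_assoc]
  have k1 := cjc (k 1) (k _)
  rw [hr.cj.sq H.z2, one_mul, inv_one, mul_one, eq_iff H.oa] at k1
  have k2 : r * r * a ^ (2 : ℤ) * (r * r)⁻¹ = a ^ (2 : ℤ) := by
    rw [k, eq_iff H.oa]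
    refine dvd8 (u := 2 * (t * t + t) + 1) ⟨_, rfl⟩ ((dvd_neg.2 k1).trans (Dvd.intro 1 (by ring)))
  have k3 := mc (H.cent hr hu (H.aR 2) (cm k2))
  rw [cjz hl, ← zpow_mul, eq_iff H.oa] at k3
  have := k 1
  rw [zpow_one] at this
  refine cm (this.trans ?_)
  rw [← zpow_one a, ← zpow_mul, eq_iff H.oa]
  exact k3.trans (Dvd.intro (t + 1) (by ring))

theorem ylem {y : Ω} (hy : y ∈ centralizerIn S R) (y2 : y * y = 1) (y1 : y ≠ 1) {P : Subgroup Ω} {f : Ω → Ω}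
    (hf : Mor F P f) (hP : y ∈ P) (hz : z ∈ P) {s : Ω} (hs : s ∈ S) (c : Commute (f y) s) : Commute (f z) s := by
  obtain ⟨θ, hθ, hc⟩ := exists_fc H.pS H.sat hy.1
  have hyC := self_mem_C hy.1
  have hzC := H.zC hy.1
  have hT : θ y ∈ centralizerIn S R := ⟨hθ.map_mem hyC, fun r hr => by
    obtain ⟨r', hr', rfl⟩ := (hθ.mono (H.R_le_C hy)).mem_img.1
      (((hθ.mono (H.R_le_C hy)).img_eq_self (H.wc _ θ hθ (H.R_le_C hy))).ge hr)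
    exact (Mor.comm hθ hyC (H.R_le_C hy hr') (Tc hy hr')).symm⟩
  obtain ⟨χ, hχ, e⟩ := exists_to H.pS H.sat ((Mor.cj' hf hP).symm.trans (Mor.cj' hθ hyC)) hc
  have h1 : f z ∈ C S (f y) := mem_C.2 ⟨hf.map_mem hz, Mor.comm hf hP hz (H.zc hy.1).symm⟩
  let Q := P ⊓ C S y
  obtain ⟨θ', hθ', e', e''⟩ := (hθ.mono (inf_le_right : Q ≤ _)).exists_inv
  have h2 : Mor F (img θ Q) (χ ∘ f ∘ θ') := hχ.comp (hf.comp hθ' fun x hx => (e'' x hx).1.1) fun x hx =>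
    mem_C.2 ⟨hf.map_mem (e'' x hx).1.1, Mor.comm hf hP (e'' x hx).1.1 (mem_C.1 (e'' x hx).1.2).2⟩
  have h3 : θ z = z := H.wz hθ (H.R_le_C hy)
  have h4 : z ∈ img θ Q := h3 ▸ mem_img_of_mem θ ⟨hz, hzC⟩
  have h5 := H.hC _ hT (Mor.sq hθ hyC y2) (Mor.ne_one hθ hyC y1) _ _ h2 (mem_img_of_mem θ ⟨hP, hyC⟩)
    (by rw [Function.comp, Function.comp, e' y ⟨hP, hyC⟩, e]) z h4 H.zR
  have h6 := (H.uniq h5 (Mor.sq h2 h4 H.z2)).resolve_left (Mor.ne_one h2 h4 H.z1)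
  rw [Function.comp, Function.comp, show θ' z = z by rw [← h3, e' z ⟨hz, hzC⟩, h3]] at h6
  have h7 : s ∈ C S (f y) := mem_C.2 ⟨hs, c⟩
  refine hχ.injOn (mul_mem h1 h7) (mul_mem h7 h1) ?_
  rw [hχ.map_mul h1 h7, hχ.map_mul h7 h1, h6, (H.zc (hχ.map_mem h7)).eq]

end Hyp

end CL.WQ
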