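/- A weakly closed quaternion subgroup: action of involutions, and the semidihedral case. -/
import Cfsg.Agent.FUS.WQ.B

set_option autoImplicit false

namespace CL.WQ

open Cfsg CL.Fus Subgroup Cfsg.FusionSystem

universe u

variable {Ω : Type u} [Group Ω] {S : Subgroup Ω} {F : FusionSystem S} {R : Subgroup Ω} {a b z : Ω} {j : ℕ}

/-- the element of order four -/
def qi (a : Ω) (j : ℕ) : Ω := a ^ (2 * 2 ^ j : ℤ)

theorem inz {s g : Ω} (h : s * g * s⁻¹ = g⁻¹) (x : ℤ) : s * g ^ x * s⁻¹ = g ^ (-x) := by rw [cjz h, inv_zpow']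

theorem mem_norm_zpowers [Finite S] {g y : Ω} (hy : y ∈ S) (h : g * y * g⁻¹ ∈ zpowers y) :
    g ∈ normalizer (zpowers y : Set Ω) := by
  have := finite_of_le (zpowers_le.2 hy)
  refine mem_normalizer_of_cj_mem ?_
  rintro _ ⟨k, rfl⟩
  rw [cj_apply, cjz rfl]; exact zpow_mem h k

namespace Hyp

variable (H : Hyp F R a b z j)
include H

theorem ii : qi a j * qi a j = z := by rw [← H.hz, qi, ← zpow_add]; congr 1; ring

theorem iR : qi a j ∈ R := H.aR _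

theorem iS : qi a j ∈ S := H.le H.iR

omit H in
theorem ia : Commute (qi a j) a := (Commute.refl a).zpow_left _

theorem bi : b * qi a j * b⁻¹ = (qi a j)⁻¹ := by rw [qi, H.baz, zpow_neg]

theorem iinv : (qi a j)⁻¹ = qi a j * z := by
  rw [inv_eq_iff_mul_eq_one, ← mul_assoc, H.ii, H.z2]

theorem i_ne : qi a j ≠ (qi a j)⁻¹ := fun e => H.z1 (by rw [← H.ii]; exact mul_eq_one_iff_eq_inv.2 e)

theorem az : a⁻¹ * z = a ^ (4 * 2 ^ j - 1 : ℤ) := by rw [← H.hz]; group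

theorem quart {x : ℤ} (e : a ^ x * a ^ x = z) : a ^ x = qi a j ∨ a ^ x = (qi a j)⁻¹ := by
  have := H.uniq (H.aR (x - 2 * 2 ^ j)) (by
    rw [show a ^ (x - 2 * 2 ^ j) * a ^ (x - 2 * 2 ^ j) = a ^ x * a ^ x * (qi a j * qi a j)⁻¹ by
      unfold qi; group, e, H.ii, mul_inv_cancel])
  rw [zpow_sub] at this
  refine this.imp mul_inv_eq_one.1 fun k => ?_
  rw [H.iinv, mul_inv_eq_iff_eq_mul.1 k]; exact (H.zc H.iS).eq

theorem acti {s : Ω} (hs : s ∈ S) : s * qi a j * s⁻¹ = qi a j ∨ s * qi a j * s⁻¹ = (qi a j)⁻¹ := by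
  obtain ⟨l, -, hl⟩ := H.act hs
  have h1 : s * qi a j * s⁻¹ = a ^ (l * (2 * 2 ^ j)) := by rw [qi, cjz hl, ← zpow_mul]
  rw [h1]
  exact H.quart (by rw [← h1, ← cjm rfl rfl, H.ii, mc (H.zc hs).symm])

theorem sqi {s : Ω} (hs : s ∈ S) : Commute (s * s) (qi a j) :=
  cm ((H.acti hs).elim (fun e => cjc e e) fun e => cjc e ((cji e).trans (inv_inv _)))

theorem inv_i {s : Ω} (h : s * a * s⁻¹ = a⁻¹ ∨ s * a * s⁻¹ = a⁻¹ * z) : s * qi a j * s⁻¹ = (qi a j)⁻¹ := by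
  rcases h with h | h
  · rw [qi, inz h, zpow_neg]
  · rw [qi, cjz h, H.az, ← zpow_mul, ← zpow_neg, eq_iff H.oa]
    exact ⟨2 ^ j, by ring⟩

theorem inv_act {s : Ω} (hs : s ∈ S) (h : Commute (s * s) a) :
    s * a * s⁻¹ = a ∨ s * a * s⁻¹ = a * z ∨ s * a * s⁻¹ = a⁻¹ ∨ s * a * s⁻¹ = a⁻¹ * z := by
  obtain ⟨l, h1, hl⟩ := H.act hs
  have h2 := (cjc hl (cjz hl l)).symm.trans (mc h)
  rw [← zpow_mul, ← zpow_one a, ← zpow_mul, one_mul, eq_iff H.oa] at h2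
  rw [hl, ← or_assoc]
  refine (sq_one h1 h2).imp (fun k => ?_) fun k => ?_
  · rw [show a ^ l = a * a ^ (l - 1) by group]
    exact (half_cases H.oa k).imp (fun e => by rw [e, mul_one]) fun e => by rw [e, H.hz]
  · rw [show a ^ l = a⁻¹ * a ^ (l + 1) by group]
    exact (half_cases H.oa k).imp (fun e => by rw [e, mul_one]) fun e => by rw [e, H.hz]

theorem fix_even {s : Ω} (h : s * a * s⁻¹ = a⁻¹ ∨ s * a * s⁻¹ = a⁻¹ * z) {t : ℤ}
    (hb : s * b * s⁻¹ = a ^ (t + t) * b) : ∃ x : ℤ, Commute s (a ^ x * b) := by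
  rcases h with h | h
  · exact ⟨t, cm (by rw [cjm (inz h t) hb]; group)⟩
  · refine ⟨-t * (2 * 2 ^ j - 1), cm ?_⟩
    rw [cjm (cjz h _) hb, H.az, ← zpow_mul, ← mul_assoc, ← zpow_add, mul_left_inj, eq_iff H.oa]
    exact ⟨-t * (2 ^ j - 1), by ring⟩

theorem even_of {s : Ω} (s2 : s * s = 1) (h : s * a * s⁻¹ = a⁻¹ * z) {i : ℤ} (hb : s * b * s⁻¹ = a ^ i * b) :
    Even i := by
  have := cjc hb (cjm (cjz h i) hb)
  rw [s2, one_mul, inv_one, mul_one, H.az, ← zpow_mul, ← mul_assoc, ← zpow_add, eq_comm, mul_eq_right,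
    one_iff H.oa, show (4 * 2 ^ j - 1) * i + i = (4 * 2 ^ j) * i by ring,
    show (8 : ℤ) * 2 ^ j = (4 * 2 ^ j) * 2 by ring] at this
  exact even_iff_two_dvd.2 (Int.dvd_of_mul_dvd_mul_left (by positivity) this)

theorem r_ne (x : ℤ) : ¬ (a ^ x * b = 1 ∨ a ^ x * b = z) := fun h => H.z1 (by
  rw [← H.rr x]; rcases h with h | h <;> rw [h]; exacts [mul_one _, H.z2])

theorem aa_ne : ¬ (a * a = 1 ∨ a * a = z) := fun h => four_ne H.oa (by
  rcases h with h | h <;> rw [h]; exacts [mul_one _, H.z2])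

theorem a_ne : ¬ (a = 1 ∨ a = z) := fun h => H.aa_ne (Or.inl (by
  rcases h with h | h <;> rw [h]; exacts [mul_one _, H.z2]))

theorem az_sq : a * z * (a * z) = a * a := by
  rw [mul_assoc, ← mul_assoc z, (H.zc H.aS).eq, mul_assoc, H.z2, mul_one]

theorem o1 {s : Ω} (hs : s ∈ S) (s2 : s * s = 1) (h : ∀ r ∈ R, Commute s r → r = 1 ∨ r = z) :
    s * a * s⁻¹ = a⁻¹ ∧ ∃ t : ℤ, s * b * s⁻¹ = a ^ (2 * t + 1) * b := by
  obtain ⟨i, hi⟩ := H.actb hs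
  have k : (s * a * s⁻¹ = a⁻¹ ∨ s * a * s⁻¹ = a⁻¹ * z) → ¬ Even i := fun e ⟨t, ht⟩ =>
    let ⟨x, hx⟩ := H.fix_even e (ht ▸ hi)
    H.r_ne x (h _ (H.abR x) hx)
  rcases H.inv_act hs (s2 ▸ Commute.one_left a) with e | e | e | e
  · exact absurd (h a H.aR' (cm e)) H.a_ne
  · exact absurd (h _ (mul_mem H.aR' H.aR') (cm ((cjm e e).trans H.az_sq))) H.aa_ne
  · obtain ⟨t, rfl⟩ := Int.not_even_iff_odd.1 (k (Or.inl e))
    exact ⟨e, t, hi⟩
  · exact absurd (H.even_of s2 e hi) (k (Or.inr e))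

theorem tb {s : Ω} (hs : s ∈ S) (s2 : Commute (s * s) b) (h : Commute s a) :
    s * b * s⁻¹ = b ∨ s * b * s⁻¹ = z * b := by
  obtain ⟨i, hi⟩ := H.actb hs
  have := (cjc hi (cjm (mc (h.zpow_right i)) hi)).symm.trans (mc s2)
  rw [← mul_assoc, mul_eq_right] at this
  rw [hi]
  exact (H.uniq (H.aR i) this).imp (fun e => by rw [e, one_mul]) fun e => by rw [e]

theorem three {x y : Ω} (hx : x * a * x⁻¹ = a⁻¹) (hy : y * a * y⁻¹ = a⁻¹) : x * y * a * (x * y)⁻¹ ≠ a⁻¹ :=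
  fun e => H.ninv (((cjc hy (cji hx)).trans (inv_inv _)).symm.trans e)

variable [Finite S] (hN : ∀ u x, Rel F R z u x → u ≠ z → x = 1 ∨ x = u)
include hN

omit [Finite S] in
theorem n_fix {P : Subgroup Ω} {f : Ω → Ω} (hf : Mor F P f) (hz : z ∈ P) {r : Ω} (hP : r ∈ P) (hr : r ∈ R)
    (e : f z ≠ z) : r = 1 ∨ r = z :=
  (hN _ _ (H.rel_map hf hz hP hr) e).imp (hf.eq_one_iff hP).1 (hf.injOn hP hz)

theorem n_o1 {u : Ω} (hu : Cj F z u) (uz : u ≠ z) {r : Ω} (hr : r ∈ R) (c : Commute u r) : r = 1 ∨ r = z := by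
  obtain ⟨g, hg, e⟩ := H.phi hu
  exact H.n_fix hN hg (H.zC hu.right) (mem_C.2 ⟨H.le hr, c⟩) hr
    fun k => Mor.ne hg (H.zC hu.right) (self_mem_C hu.right) uz.symm (k.trans e.symm)

theorem n_inv {u : Ω} (hu : Cj F z u) (uz : u ≠ z) :
    u * a * u⁻¹ = a⁻¹ ∧ ∃ t : ℤ, u * b * u⁻¹ = a ^ (2 * t + 1) * b :=
  H.o1 hu.right (hu.sq H.z2) fun _ => H.n_o1 hN hu uz

theorem n_T {u : Ω} (hu : Cj F z u) (uz : u ≠ z) {y : Ω} (hy : y ∈ centralizerIn S R) (y2 : y * y = 1)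
    (c : Commute u y) : y = 1 ∨ y = z := by
  by_contra h
  obtain ⟨y1, yz⟩ := not_or.1 h
  obtain ⟨g, hg, e⟩ := H.phi hu
  have hz := H.zC hu.right
  have hy' : y ∈ C S u := mem_C.2 ⟨hy.1, c⟩
  have h1 : g z ≠ z := fun k => Mor.ne hg hz (self_mem_C hu.right) uz.symm (k.trans e.symm)
  have k : ∀ y ∈ centralizerIn S R, y * y = 1 → y ≠ 1 → y ∈ C S u → g y * a * (g y)⁻¹ = a⁻¹ :=
    fun y hy y2 y1 hy' => (H.o1 (hg.map_mem hy') (Mor.sq hg hy' y2) fun r hr c =>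
      H.n_o1 hN (Mor.cj' hg hz) h1 hr (H.ylem hy y2 y1 hg hy' hz (H.le hr) c)).1
  have h2 := k (y * z) (mul_mem hy H.zT) (by
    rw [mul_assoc, ← mul_assoc z, (H.zc hy.1).eq, mul_assoc, H.z2, mul_one, y2])
    (fun e => yz (by rw [← H.zi]; exact eq_inv_of_mul_eq_one_left e)) (mul_mem hy' hz)
  rw [hg.map_mul hy' hz] at h2
  exact H.three (k y hy y2 y1 hy') (H.n_inv hN (Mor.cj' hg hz) h1).1 h2

theorem n_three {u y : Ω} (hu : Cj F z u) (uz : u ≠ z) (hy : Cj F z y) (yz : y ≠ z) (c : Commute u y) :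
    y = u ∨ y = u * z := by
  by_contra h
  obtain ⟨h1, h2⟩ := not_or.1 h
  obtain ⟨g, hg, e⟩ := H.phi hu
  have hz := H.zC hu.right
  have hu' := self_mem_C hu.right
  have hy' : y ∈ C S u := mem_C.2 ⟨hy.right, c⟩
  have k : ∀ v ∈ C S u, Cj F z v → v ≠ u → g v * a * (g v)⁻¹ = a⁻¹ := fun v hv h1 h2 =>
    (H.n_inv hN (h1.map hg hv) (e ▸ Mor.ne hg hv hu' h2)).1
  have h3 := H.inv_i (Or.inl (H.n_inv hN hy yz).1)
  have h4 := k (y * z) (mul_mem hy' hz) (hy.of_cj H.iS (by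
    rw [← (H.zc hy.right).eq, ← H.ii, mul_assoc, mul_assoc, mul_right_inj, mul_inv_eq_iff_eq_mul.1 (cji h3), inv_inv]))
    fun e => h2 (by rw [← e, mul_assoc, H.z2, mul_one])
  rw [hg.map_mul hy' hz] at h4
  exact H.three (k y hy' hy h1) (k z hz (Cj.refl H.zS) uz.symm) h4

theorem n_au {u : Ω} (hu : Cj F z u) (uz : u ≠ z) (x : ℤ) : Cj F z (a ^ x * u) ∧ a ^ x * u ≠ z := by
  obtain ⟨h1, t, h2⟩ := H.n_inv hN hu uz
  have k : ∀ x y : ℤ, Cj F z (a ^ x * u) → Cj F z (a ^ (x + 2 * y) * u) := fun x y h =>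
    h.of_cj (H.le (H.aR y)) (by
      rw [show a ^ y * (a ^ x * u) * (a ^ y)⁻¹ = a ^ y * a ^ x * (u * a ^ (-y) * u⁻¹) * u by group, inz h1]; group)
  refine ⟨?_, fun e => H.ninv ?_⟩
  · rcases Int.even_or_odd' x with ⟨y, rfl | rfl⟩
    · simpa using k 0 y (by simpa using hu)
    · have := k (-(2 * t + 1)) (y + t + 1) (hu.of_cj (S.inv_mem H.bS) (by
        rw [← cjs (H.baz (-(2 * t + 1))), neg_neg, show b⁻¹ * u * b⁻¹⁻¹ = b⁻¹ * (u * b * u⁻¹) * u by group, h2]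
        group))
      rwa [show -(2 * t + 1) + 2 * (y + t + 1) = 2 * y + 1 by ring] at this
  · have := cjc h1 (s' := a ^ x) (w := a⁻¹) (by group)
    rwa [e, mc (H.zc H.aS)] at this

theorem n_A {u v : Ω} (hu : Cj F z u) (uz : u ≠ z) (hv : Cj F z v) (vz : v ≠ z) : ∃ x : ℤ, v = a ^ x * u := by
  obtain ⟨h1, t, h2⟩ := H.n_inv hN hu uz
  obtain ⟨h3, t', h4⟩ := H.n_inv hN hv vz
  obtain ⟨hw, wz⟩ := H.n_au hN hu uz (t' - t)
  have h5 := (H.n_inv hN hw wz).1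
  have h6 : a ^ (t' - t) * u * b * (a ^ (t' - t) * u)⁻¹ = a ^ (2 * t' + 1) * b := cjc h2 (by
    rw [show a ^ (t' - t) * (a ^ (2 * t + 1) * b) * (a ^ (t' - t))⁻¹ =
      a ^ (t' - t) * a ^ (2 * t + 1) * (b * a ^ (-(t' - t)) * b⁻¹) * b by group, H.baz]; group)
  generalize hw' : a ^ (t' - t) * u = w at hw wz h5 h6
  have w2 := hw.sq H.z2
  have hs : w⁻¹ * v ∈ centralizerIn S R := H.mem_T.2 ⟨mul_mem (S.inv_mem hw.right) hv.right,
    cm (cjc h3 (cjs h5)), cm (cjc h4 (cjs h6))⟩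
  have hi : w * (w⁻¹ * v) * w⁻¹ = (w⁻¹ * v)⁻¹ := by
    rw [mul_inv_rev, inv_inv, inv_of_sq w2, inv_of_sq (hv.sq H.z2), ← mul_assoc, w2, one_mul]
  generalize hs' : w⁻¹ * v = s at hs hi
  obtain rfl : v = w * s := by rw [← hs']; group
  by_cases s1 : s = 1
  · exact ⟨_, by rw [s1, mul_one, hw']⟩
  obtain ⟨n, k1, k2⟩ := exists_sq_pow H.pS hs.1 s1
  have hp : ∀ n : ℕ, w * s ^ n * w⁻¹ = (s ^ n)⁻¹ := fun n => by rw [cjn hi, inv_pow]
  have k3 := (H.n_T hN hw wz (pow_mem hs _) k2 (cm ((hp _).trans (inv_of_sq k2)))).resolve_left k1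
  rcases n with _ | n
  · refine ⟨4 * 2 ^ j + (t' - t), ?_⟩
    rw [zpow_add, H.hz, mul_assoc, hw', (H.zc hw.right).eq, ← k3]; simp
  exfalso
  have k4 : s ^ 2 ^ n * s ^ 2 ^ n = z := by rw [← pow_add, ← two_mul, ← pow_succ', k3]
  have k5 : Cj F z (w * s ^ 2 ^ n) := by
    rcases n with _ | n
    · simpa using hv
    · refine hw.of_cj (S.inv_mem (pow_mem hs.1 (2 ^ n))) ?_
      rw [inv_inv, pow_succ 2 n, mul_two, pow_add, ← mul_assoc, mul_left_inj, ← hp, inv_mul_cancel_right]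
  have k6 := pow_mem hs (2 ^ n)
  have k7 := hp (2 ^ n)
  generalize s ^ 2 ^ n = p at k4 k5 k6 k7
  have k8 := Tc k6 H.iR
  have k9 : Cj F z (w * (qi a j * p)) := k5.of_cj (S.inv_mem (H.le (H.aR (2 ^ j)))) (by
    rw [inv_inv, mul_assoc, mul_assoc, (Tc k6 (H.aR _)).eq, show (a ^ (2 ^ j : ℤ))⁻¹ * (w * (a ^ (2 ^ j : ℤ) * p)) =
      w * (w⁻¹ * a ^ (-2 ^ j : ℤ) * w⁻¹⁻¹) * a ^ (2 ^ j : ℤ) * p by group, inv_of_sq w2, inz h5, qi]
    group)
  have k10 : Commute w (qi a j * p) := cm (by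
    rw [cjm (H.inv_i (Or.inl h5)) k7, ← mul_inv_rev, inv_eq_iff_mul_eq_one, mul_assoc, ← mul_assoc (qi a j), H.ii,
      ← mul_assoc, ← (H.zc k6.1).eq, mul_assoc, k4, H.z2])
  have k11 : Commute (qi a j * p) b → False := fun c => H.i_ne (by
    have := cjm H.bi (mc (Tc k6 H.bR).symm)
    rw [mc c.symm, mul_left_inj] at this
    exact this)
  rcases H.n_three hN hw wz k9 (fun e => H.ninv (by
    rw [← h5, eq_mul_inv_of_mul_eq e]
    exact (mc ((H.zc H.aS).mul_left (ia.mul_left (Tc k6 H.aR')).inv_left)).symm))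
    ((Commute.refl w).mul_right k10) with e | e
  · exact k11 (mul_eq_left.1 e ▸ Commute.one_left b)
  · exact k11 (mul_left_cancel e ▸ H.zc H.bS)

theorem two (hc : Nat.card R = 16 * 2 ^ j) {u : Ω} (hu : Cj F z u) (uz : u ≠ z) :
    ∃ P : Subgroup Ω, P ≤ S ∧ IsQuasiDihedral P ∧ F.StronglyClosed P := by
  obtain ⟨h1, t, h2⟩ := H.n_inv hN hu uz
  have u2 := hu.sq H.z2
  have uR : u ∉ R := fun h => (H.uniq h u2).elim (hu.ne_one H.z1) uz
  let P := CL.Rk2.ext2 R u (fun x => H.nrm hu.right) (u2 ▸ one_mem R)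
  have RP : R ≤ P := fun _ => Or.inl
  have uP : u ∈ P := Or.inr (by simp)
  have PS : P ≤ S := fun x hx => hx.elim (H.le ·) fun h => by simpa using mul_mem (H.le h) hu.right
  have zP : ∀ v, Cj F z v → v ∈ P := fun v hv => by
    by_cases vz : v = z
    · exact vz ▸ RP H.zR
    · obtain ⟨x, rfl⟩ := H.n_A hN hu uz hv vz
      exact mul_mem (RP (H.aR x)) uP
  have PP : ∀ Q f, Mor F Q f → P ≤ Q → ∀ x ∈ Q, f x ∈ P ↔ x ∈ P := fun Q f hf hQ x hx => by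
    have k : ∀ x ∈ P, f x ∈ P := fun x hx => hx.elim (fun h => RP (H.wc Q f hf (RP.trans hQ) x h)) fun h => by
      rw [show x = x * u⁻¹ * u by group, hf.map_mul (hQ (RP h)) (hQ uP)]
      exact mul_mem (RP (H.wc Q f hf (RP.trans hQ) _ h)) (zP _ (hu.map hf (hQ uP)))
    rw [← hf.mem_img_iff hQ hx, (hf.mono hQ).img_eq_self k]
  have sR : ∀ Q f, Mor F Q f → ∀ x ∈ Q, x ∈ R → x ≠ z → f x ∈ R := fun Q f hf x hx hR xz => by
    by_cases x1 : x = 1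
    · rw [x1, hf.map_one]; exact one_mem R
    obtain ⟨n, e⟩ := H.rel_pow (H.rel_z.2 hR) x1
    have hz : z ∈ Q := e ▸ pow_mem hx _
    exact H.hZ hf hz (by_contra fun k => (H.n_fix hN hf hz hx hR k).elim x1 xz) hx hR
  have sq : ∀ i : ℤ, a ^ i * b * u * (a ^ i * b * u) = a ^ (2 * (i - t - 1 + 2 * 2 ^ j) + 1) := fun i => by
    rw [show a ^ i * b * u * (a ^ i * b * u) = a ^ i * (b * ((u * a ^ i * u⁻¹) * (u * b * u⁻¹)) * b⁻¹) * b * (u * u) by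
      group, inz h1, h2, u2, ← mul_assoc (a ^ (-i)), ← zpow_add, cjm (H.baz _) (mc (Commute.refl b)), mul_assoc,
      mul_assoc, mul_one, mul_assoc, H.bb, ← H.hz]
    group
  have nm : ∀ y ∈ S, ∀ p : ℤ, Odd p → y * y = a ^ p → P ≤ normalizerIn S (zpowers y) := fun y hy p hp e => by
    obtain ⟨p', -, e'⟩ := gen_odd H.oa hp
    have k1 : ∀ x : ℤ, a ^ x ∈ zpowers y := fun x =>
      zpow_mem (e' ▸ e ▸ zpow_mem (mul_mem (mem_zpowers y) (mem_zpowers y)) _) x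
    have k0 : ∀ {g x : Ω}, y * g * y⁻¹ = x * g → x⁻¹ * y = g * y * g⁻¹ := fun e => by
      rw [← mul_inv_eq_iff_eq_mul.2 e]; group
    have k2 : ∀ x : ℤ, a ^ x ∈ normalizer (zpowers y : Set Ω) := fun x => le_normalizer (k1 x)
    have k3 : b ∈ normalizer (zpowers y : Set Ω) := mem_norm_zpowers hy (by
      obtain ⟨i, hi⟩ := H.actb hy
      exact k0 hi ▸ mul_mem (inv_mem (k1 i)) (mem_zpowers y))
    have k4 : u ∈ normalizer (zpowers y : Set Ω) := mem_norm_zpowers hy (by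
      obtain ⟨i, hi⟩ := H.n_A hN hu uz (hu.of_cj hy rfl) fun k => uz (by
        rw [← cjs k, mc (H.zc (S.inv_mem hy)).symm])
      exact k0 hi ▸ mul_mem (inv_mem (k1 i)) (mem_zpowers y))
    have k5 : R ≤ normalizer (zpowers y : Set Ω) := fun r hr => by
      obtain ⟨i, rfl | rfl⟩ := (H.mem r).1 hr
      exacts [k2 i, mul_mem (k2 i) k3]
    exact fun x hx => ⟨PS hx, hx.elim (k5 ·) fun h => by simpa using mul_mem (k5 h) k4⟩
  have g1 : (b * u) ^ 2 ^ (j + 3) = z := by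
    have := sq 0
    rw [zpow_zero, one_mul] at this
    rw [← H.hz, ← half_odd H.oa ⟨_, rfl⟩, ← this, ← pow_two, ← zpow_natCast, ← zpow_natCast, ← zpow_mul]
    congr 1; push_cast; ring
  refine ⟨P, PS, ⟨j + 4, by omega, ?_, ⟨b * u, mul_mem (RP H.bR) uP⟩, ⟨u, uP⟩, ?_, ?_, Subtype.ext ?_⟩,
    stronglyClosed_iff.2 ⟨PS, fun Q f hf x hx hP => ?_⟩⟩
  · rw [CL.Rk2.card_of_index_two RP (CL.Rk2.index_ext2 _ _ uR), hc]; ring
  · rw [← orderOf_coe]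
    exact orderOf_eq_prime_pow (g1 ▸ H.z1) (by rw [pow_succ 2, pow_mul]; exact g1 ▸ (pow_two z).trans H.z2)
  · rw [← orderOf_coe]; exact orderOf_eq_prime (by rw [pow_two]; exact u2) (hu.ne_one H.z1)
  · change u * (b * u) * u⁻¹ = (b * u) ^ (2 ^ (j + 3) - 1)
    rw [← mul_left_inj (b * u), ← pow_succ, Nat.sub_add_cancel Nat.one_le_two_pow, g1, mul_assoc u, mul_inv_cancel_right,
      mul_assoc, ← mul_assoc b, H.bb, (H.zc hu.right).eq, ← mul_assoc, u2, one_mul]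
  rcases hP with h | h
  · by_cases xz : x = z
    · exact zP _ (xz ▸ Mor.cj' hf hx)
    · exact RP (sR Q f hf x hx h xz)
  obtain ⟨i, e | e⟩ := (H.mem _).1 h <;> obtain rfl := mul_inv_eq_iff_eq_mul.1 e
  · exact zP _ ((H.n_au hN hu uz i).1.map hf hx)
  have k0 := sq i
  generalize a ^ i * b * u = x at hx h e k0
  have k1 := ord_odd H.oa (x := 2 * (i - t - 1 + 2 * 2 ^ j) + 1) ⟨_, rfl⟩
  obtain ⟨p, hp, k2⟩ := H.gen (sR Q f hf _ (mul_mem hx hx) (k0 ▸ H.aR _) fun k => four_ne k1 (by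
    rw [← k0, k, H.z2, mul_one])) (by rw [hf.orderOf_eq (mul_mem hx hx), k0, k1])
  rw [hf.map_mul hx hx] at k2
  have hf' := hf.mono (zpowers_le.2 hx)
  obtain ⟨Q0, c0, hQ0⟩ := exists_fullyNormalized F hf'.le
  obtain ⟨g1, hg1, e1⟩ := exists_mor_normalizer_of_fullyNormalized H.pS H.sat hQ0 c0
  obtain ⟨g2, hg2, e2⟩ := exists_mor_normalizer_of_fullyNormalized H.pS H.sat hQ0
    (isConj_trans (isConj_symm (hf'.isHomOn.img_zpowers ▸ hf'.isConj)) c0)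
  have n1 := nm x (hf.le hx) _ ⟨_, rfl⟩ k0
  have n2 := nm (f x) (hf.map_mem hx) p hp k2
  have xP : x ∈ P := Or.inr h
  rw [← PP _ g2 hg2 n2 _ (le_normalizerIn (zpowers_le.2 (hf.map_mem hx)) (mem_zpowers _))]
  refine (?_ : Q0 ≤ P) (e2 ▸ mem_img_of_mem g2 (mem_zpowers _))
  rw [← e1, img_le_iff]
  exact fun y hy => (PP _ g1 hg1 n1 y (n1 (zpowers_le.2 xP hy))).2 (zpowers_le.2 xP hy)

end Hyp

end CL.WQ
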