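/- A weakly closed quaternion subgroup: the homocyclic subgroup `⟨a, c⟩`. -/
import Cfsg.Agent.FUS.WQ.C

set_option autoImplicit false
set_option linter.unusedSectionVars false
set_option linter.unusedVariables false

namespace CL.WQ

open Cfsg CL.Fus Subgroup Cfsg.FusionSystem

universe u

variable {Ω : Type u} [Group Ω] {S : Subgroup Ω} {F : FusionSystem S} {R : Subgroup Ω} {a b z w c : Ω} {j : ℕ}

/-- a conjugate `w` of `z` with a long cyclic companion `c` -/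
structure Big (F : FusionSystem S) (R : Subgroup Ω) (a b z : Ω) (j : ℕ) (w c : Ω) : Prop
    extends Hyp F R a b z j where
  rel : Rel F R z w c
  ne : w ≠ z
  oc : orderOf c = 8 * 2 ^ j
  cw : c ^ (4 * 2 ^ j : ℤ) = w
  ca : Commute c a
  cb : c * b * c⁻¹ = a * b

theorem trans_pow {x : Ω} {i : ℤ} (xa : Commute x a) (h : x * b * x⁻¹ = a ^ i * b) (n : ℤ) :
    x ^ n * b * (x ^ n)⁻¹ = a ^ (i * n) * b := by
  have h1 : b * x * b⁻¹ = (a ^ i)⁻¹ * x := by rw [← mul_inv_eq_iff_eq_mul.2 h]; group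
  have h2 := cjz h1 n
  rw [((xa.zpow_right i).inv_right.symm).mul_zpow, inv_zpow, ← zpow_mul] at h2
  rw [mul_inv_eq_iff_eq_mul, mul_assoc, mul_inv_eq_iff_eq_mul.1 h2]; group

theorem Hyp.exists_big [Finite S] (H : Hyp F R a b z j) {u x : Ω} (h : Rel F R z u x) (hu : u ≠ z) (h1 : x ≠ 1)
    (h2 : x ≠ u) : ∃ w c, Big F R a b z j w c := by
  obtain ⟨g, hg, e⟩ := H.phi h.cj
  have hz := H.zC h.cj.right
  have ha : a ∈ C S u := mem_C.2 ⟨H.aS, H.big h hu h1 h2⟩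
  have k1 := H.rel_map hg hz ha H.aR'
  have k2 : g z ≠ z := fun k => Mor.ne hg hz (self_mem_C h.cj.right) hu.symm (k.trans e.symm)
  have k3 : orderOf (g a) = 8 * 2 ^ j := (hg.orderOf_eq ha).trans H.oa
  have k4 : g a ^ (4 * 2 ^ j : ℤ) = g z := by rw [← hg.map_zpow ha, H.hz]
  have k5 := H.big k1 k2 (Mor.ne_one hg ha fun e => H.a_ne (Or.inl e)) (Mor.ne hg ha hz fun e => H.a_ne (Or.inr e))
  have k6 := H.cent k1 k2 H.aR' k5
  obtain ⟨i, hi⟩ := H.actb k1.mem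
  obtain ⟨p, hp, k7⟩ := gen_odd H.oa (odd_of H.oa (x := i) fun k => k2 (H.nT k1.cj (H.mem_T.2 ⟨k1.cj.right, k5, cm (by
    rw [← k4, trans_pow k6 hi, zpow_mul, k, one_mul])⟩)))
  exact ⟨g z, g a ^ p, H, Hyp.rpow k1 p, k2, ord_odd k3 hp, (half_odd k3 hp).trans k4, k6.zpow_left p,
    by rw [trans_pow k6 hi, zpow_mul, k7]⟩

/-- the element of order four of `C_S(R)` -/
def ta (a : Ω) (j : ℕ) (w : Ω) : Ω := (qi a j)⁻¹ * w

namespace Big

variable (H : Big F R a b z j w c)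
include H

theorem cj : Cj F z w := H.rel.cj

theorem wS : w ∈ S := H.cj.right

theorem cS : c ∈ S := H.rel.mem

theorem w2 : w * w = 1 := H.cj.sq H.z2

theorem w1 : w ≠ 1 := H.cj.ne_one H.z1

theorem wa : Commute w a := H.cw ▸ H.ca.zpow_left _

theorem wc' : Commute w c := H.cw ▸ (Commute.refl c).zpow_left _

theorem wz' : Commute w z := (H.zc H.wS).symm

theorem wi : Commute w (qi a j) := H.wa.zpow_right _

theorem aC : a ∈ C S w := mem_C.2 ⟨H.aS, H.wa⟩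

theorem cC : c ∈ C S w := mem_C.2 ⟨H.cS, H.wc'⟩

theorem zC' : z ∈ C S w := H.zC H.wS

theorem wC : w ∈ C S w := self_mem_C H.wS

theorem cbz (n : ℤ) : c ^ n * b * (c ^ n)⁻¹ = a ^ n * b := by
  simpa using trans_pow (i := 1) H.ca (by simpa using H.cb) n

theorem wb : w * b * w⁻¹ = z * b := by rw [← H.cw, H.cbz, H.hz]

theorem bw : b * w * b⁻¹ = w * z := by
  rw [H.wz'.eq, ← H.zi, ← mul_inv_eq_iff_eq_mul.2 H.wb]; group

theorem bc : b * c * b⁻¹ = a⁻¹ * c := by rw [← mul_inv_eq_iff_eq_mul.2 H.cb]; group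

theorem bc' : b * (a⁻¹ * c) * b⁻¹ = c := by rw [cjm (cji H.ba) H.bc]; group

theorem ne' : w ≠ w * z := fun e => H.z1 (left_eq_mul.1 e)

theorem ne'' : w * z ≠ z := fun e => H.w1 (mul_eq_right.1 e)

theorem nwb : ¬ Commute w b := fun e => H.ne' ((mc e.symm).symm.trans H.bw)

theorem wR : w ∉ R := fun h => (H.uniq h H.w2).elim H.w1 H.ne

theorem cwz {s : Ω} (hs : s ∈ S) (h : Commute (w * z) s) : Commute w s := by
  simpa [mul_assoc, H.z2] using h.mul_left (H.zc hs)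

theorem rel' : Rel F R z (w * z) (a⁻¹ * c) := H.bw ▸ H.bc ▸ Hyp.rcj H.rel H.bS

theorem oc' : orderOf (a⁻¹ * c) = 8 * 2 ^ j := H.bc ▸ H.oc ▸ (MulAut.conj b).orderOf_eq c

theorem acz (n : ℤ) : (a⁻¹ * c) ^ n = a ^ (-n) * c ^ n := by rw [H.ca.inv_right.symm.mul_zpow, inv_zpow']

theorem shift (x : ℤ) : Big F R a (a ^ x * b) z j w c :=
  { H.toHyp.shift x, H with
    cb := by rw [cjm (mc (H.ca.zpow_right x)) H.cb]; group }

theorem indep {x y x' y' : ℤ} (h : a ^ x * c ^ y = a ^ x' * c ^ y') :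
    8 * 2 ^ j ∣ x - x' ∧ 8 * 2 ^ j ∣ y - y' := by
  have h1 : c ^ (y - y') = a ^ (x' - x) := by
    rw [zpow_sub, eq_inv_mul_of_mul_eq h]; group
  have h2 := H.disjR (Hyp.rpow H.rel _) H.ne (h1 ▸ H.aR _)
  exact ⟨dvd_sub_comm.1 ((one_iff H.oa).1 (h1 ▸ h2)), (one_iff H.oc).1 h2⟩

theorem relz {x : Ω} (hx : x ∈ R) (h : Commute w x) : ∃ p : ℤ, x = a ^ p := by
  obtain ⟨p, rfl | rfl⟩ := (H.mem x).1 hx
  · exact ⟨p, rfl⟩
  · exact (H.nwb (by simpa using (H.wa.zpow_right p).inv_right.mul_right h)).elim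

theorem wt : qi a j * ta a j w = w := mul_inv_cancel_left _ _

theorem tt : ta a j w * ta a j w = z := by
  rw [ta, mul_assoc, ← mul_assoc w, H.wi.inv_right.eq, mul_assoc, H.w2, mul_one, ← mul_inv_rev, H.ii, H.zi]

theorem tT : ta a j w ∈ centralizerIn S R := H.mem_T.2 ⟨mul_mem (S.inv_mem H.iS) H.wS,
  Hyp.ia.inv_left.mul_left H.wa, (cm (by
    rw [ta, cjm (cji H.bi) H.bw, inv_inv, H.iinv, mul_assoc, H.wz'.eq])).symm⟩

theorem tS : ta a j w ∈ S := H.tT.1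

theorem wt' : Commute w (ta a j w) := H.wi.inv_right.mul_right (Commute.refl w)

theorem tinv : (ta a j w)⁻¹ = ta a j w * z := by
  rw [inv_eq_iff_mul_eq_one, ← mul_assoc, H.tt, H.z2]

theorem t_ne : ta a j w ≠ (ta a j w)⁻¹ := fun e => H.z1 (by rw [← H.tt]; exact mul_eq_one_iff_eq_inv.2 e)

theorem dz (n : ℤ) : (a⁻¹ * c * c) ^ n = a ^ (-n) * c ^ (2 * n) := by
  rw [(H.ca.inv_right.symm.mul_left (Commute.refl c)).mul_zpow, H.acz]; group

theorem dt : (a⁻¹ * c * c) ^ (2 * 2 ^ j : ℤ) = ta a j w := by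
  rw [H.dz, ta, qi, ← H.cw, zpow_neg]; congr 2; ring

theorem dT : a⁻¹ * c * c ∈ centralizerIn S R := H.mem_T.2 ⟨mul_mem (mul_mem (S.inv_mem H.aS) H.cS) H.cS,
  ((Commute.refl a).inv_left.mul_left H.ca).mul_left H.ca, (cm (by
    rw [cjm H.bc' H.bc, ← mul_assoc, H.ca.inv_right.eq])).symm⟩

theorem dC : a⁻¹ * c * c ∈ C S w := mul_mem (mul_mem (inv_mem H.aC) H.cC) H.cC

variable [Finite S]

theorem Tw {y : Ω} (hy : y ∈ centralizerIn S R) (h : Commute w y) : Commute c y := H.centT H.rel H.ne hy h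

theorem uT {y : Ω} (hy : y ∈ centralizerIn S R) (h : Commute w y) (y2 : y * y = 1) : y = 1 ∨ y = z := by
  by_contra h0
  obtain ⟨y1, yz⟩ := not_or.1 h0
  obtain ⟨g, hg, e⟩ := H.phi H.cj
  have k2 : g z ≠ z := fun k => Mor.ne hg H.zC' H.wC H.ne.symm (k.trans e.symm)
  have k1 := Mor.cj' hg H.zC'
  have k3 := H.big (H.rel_map hg H.zC' H.aC H.aR') k2 (Mor.ne_one hg H.aC fun e => H.a_ne (Or.inl e))
    (Mor.ne hg H.aC H.zC' fun e => H.a_ne (Or.inr e))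
  have k4 : ¬ Commute (g z) b := fun k => k2 (H.nT k1 (H.mem_T.2 ⟨k1.right, k3, k⟩))
  have k5 := (H.tb k1.right (k1.sq H.z2 ▸ Commute.one_left b) k3).resolve_left fun k => k4 (cm k)
  have hy' : y ∈ C S w := mem_C.2 ⟨hy.1, h⟩
  obtain ⟨p, hp, k6⟩ := H.gen ((H.rel_iff hg H.wC H.cC e).1 H.rel) ((hg.orderOf_eq H.cC).trans H.oc)
  rcases H.tb (hg.map_mem hy') (Mor.sq hg hy' y2 ▸ Commute.one_left b)
    (comm_odd H.oa hp (k6 ▸ Mor.comm hg hy' H.cC (H.Tw hy h).symm)) with k | k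
  · exact k4 (H.ylem hy y2 y1 hg hy' H.zC' H.bS (cm k))
  · refine k4 (H.ylem (mul_mem hy H.zT) (by
      rw [mul_assoc, ← mul_assoc z, (H.zc hy.1).eq, mul_assoc, H.z2, mul_one, y2])
      (fun e => yz (by rw [← H.zi]; exact eq_inv_of_mul_eq_one_left e)) hg (mul_mem hy' H.zC') H.zC' H.bS (cm ?_))
    rw [hg.map_mul hy' H.zC', cjc k5 (cjm (mc (H.zc (hg.map_mem hy')).symm) k), ← mul_assoc, H.z2, one_mul]

theorem tcases {x : Ω} (hx : x ∈ centralizerIn S R) (h : Commute w x) (e : x * x = z) :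
    x = ta a j w ∨ x = (ta a j w)⁻¹ := by
  have k : Commute x (ta a j w) := (Hyp.Tc hx H.iR).inv_right.mul_right h.symm
  refine (H.uT (mul_mem hx (inv_mem H.tT)) (h.mul_right H.wt'.inv_right) (by
    rw [mul_assoc, ← mul_assoc _ x, ← k.inv_right.eq, mul_assoc, ← mul_assoc, e, ← mul_inv_rev, H.tt,
      mul_inv_cancel])).imp mul_inv_eq_one.1 fun k => ?_
  rw [H.tinv, mul_inv_eq_iff_eq_mul.1 k, (H.zc H.tS).eq]

theorem actt {s : Ω} (hs : s ∈ S) : s * ta a j w * s⁻¹ = ta a j w ∨ s * ta a j w * s⁻¹ = (ta a j w)⁻¹ := by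
  let N : Subgroup Ω := { carrier := {s | s ∈ S ∧ (s * ta a j w * s⁻¹ = ta a j w ∨ s * ta a j w * s⁻¹ = (ta a j w)⁻¹)}
                          one_mem' := ⟨one_mem S, Or.inl (by group)⟩
                          mul_mem' := by
                            rintro x y ⟨hx, e | e⟩ ⟨hy, e' | e'⟩ <;> refine ⟨mul_mem hx hy, ?_⟩
                            exacts [Or.inl (cjc e' e), Or.inr (cjc e' (cji e)), Or.inr (cjc e' e),
                              Or.inl (cjc e' ((cji e).trans (inv_inv _)))]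
                          inv_mem' := by
                            rintro x ⟨hx, e | e⟩ <;> refine ⟨inv_mem hx, ?_⟩
                            exacts [Or.inl (cjs e), Or.inr (cjs ((cji e).trans (inv_inv _)))] }
  by_contra h
  obtain ⟨r, hr, hn, rN⟩ := exists_mem_normalizer_not_mem H.pS (P := N)
    (lt_of_le_of_ne (fun _ h => h.1) fun e => h (e.ge hs).2) le_rfl
  have d1 : r * (a⁻¹ * c * c) * r⁻¹ ∈ N := cj_mem_of_mem_normalizer hn
    ⟨H.dT.1, Or.inl (mc (H.dt ▸ (Commute.refl _).zpow_right _))⟩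
  have d2 := H.Tn hr H.dT
  have d3 := cjz (rfl : r * (a⁻¹ * c * c) * r⁻¹ = _) (2 * 2 ^ j)
  generalize r * (a⁻¹ * c * c) * r⁻¹ = e at d1 d2 d3
  have d4 : Commute (e * e) (ta a j w) := cm (d1.2.elim (fun e => cjc e e) fun e => cjc e ((cji e).trans (inv_inv _)))
  rw [H.dt] at d3
  refine rN ⟨hr, H.tcases (H.Tn hr H.tT) ?_ (by rw [← cjm rfl rfl, H.tt, mc (H.zc hr).symm])⟩
  rw [d3, zpow_mul, zpow_two]
  exact (H.wt ▸ (Hyp.Tc (mul_mem d2 d2) H.iR).mul_right d4).symm.zpow_right _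

theorem actw {s : Ω} (hs : s ∈ S) : s * w * s⁻¹ = w ∨ s * w * s⁻¹ = w * z := by
  have k : Commute z (ta a j w) := H.zc H.tS
  conv => enter [1, 1, 1, 2]; rw [← H.wt]
  conv => enter [2, 1, 1, 2]; rw [← H.wt]
  rcases H.acti hs with e | e <;> rcases H.actt hs with e' | e' <;> rw [cjm e e']
  · exact Or.inl H.wt
  · exact Or.inr (by rw [H.tinv, ← mul_assoc, H.wt])
  · exact Or.inr (by rw [H.iinv, mul_assoc, k.eq, ← mul_assoc, H.wt])
  · exact Or.inl (by rw [H.iinv, H.tinv, mul_assoc, ← mul_assoc z, k.eq, mul_assoc, H.z2, mul_one, H.wt])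

theorem out {s t : Ω} (hs : s ∈ S) (ht : t ∈ S) (h : s ∉ C S w) (h' : t ∉ C S w) : s * t ∈ C S w := by
  have k : ∀ s ∈ S, s ∉ C S w → s * w * s⁻¹ = w * z := fun s hs h =>
    (H.actw hs).resolve_left fun e => h (mem_C.2 ⟨hs, (cm e).symm⟩)
  exact mem_C.2 ⟨mul_mem hs ht, (cm ((cjc (k t ht h') (cjm (k s hs h) (mc (H.zc hs).symm))).trans
    (by rw [mul_assoc, H.z2, mul_one]))).symm⟩

theorem sqC {s : Ω} (hs : s ∈ S) : s * s ∈ C S w := by
  by_cases h : s ∈ C S w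
  exacts [mul_mem h h, H.out hs hs h h]

omit [Finite S] in
theorem bC : b ∉ C S w := fun h => H.nwb (mem_C.1 h).2

theorem outb {s : Ω} (hs : s ∈ S) (h : s ∉ C S w) : s * b⁻¹ ∈ C S w :=
  H.out hs (S.inv_mem H.bS) h fun k => H.bC (inv_mem_iff.1 k)

theorem Cn {s x : Ω} (hs : s ∈ S) (hx : x ∈ C S w) : s * x * s⁻¹ ∈ C S w := by
  by_cases h : s ∈ C S w
  · exact mul_mem (mul_mem h hx) (inv_mem h)
  · exact H.out (mul_mem hs (C_le _ hx)) (S.inv_mem hs) (fun k => h (by simpa using mul_mem k (inv_mem hx)))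
      fun k => h (inv_mem_iff.1 k)

theorem inV {u x : Ω} (h : Rel F R z u x) (hu : u ≠ z) (h1 : x ≠ 1) (h2 : x ≠ u) : u = w ∨ u = w * z := by
  have k1 := H.big h hu h1 h2
  obtain ⟨r, hr, e⟩ := H.rel_sq h h1 h2
  have k2 : Commute w u := e ▸ (mem_C.1 (H.sqC hr.mem)).2
  have u2 := h.cj.sq H.z2
  have k3 := (H.tb h.cj.right (u2 ▸ Commute.one_left b) k1).resolve_left fun k =>
    hu (H.nT h.cj (H.mem_T.2 ⟨h.cj.right, k1, cm k⟩))
  refine (H.uT (y := w * u) (H.mem_T.2 ⟨mul_mem H.wS h.cj.right, H.wa.mul_left k1, cm ?_⟩)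
    ((Commute.refl w).mul_right k2) ?_).imp (fun k => ?_) fun k => ?_
  · rw [cjc k3 (cjm (mc H.wz') H.wb), ← mul_assoc, H.z2, one_mul]
  · rw [mul_assoc, ← mul_assoc u, ← k2.eq, mul_assoc, u2, mul_one, H.w2]
  · rw [eq_inv_of_mul_eq_one_right k, inv_of_sq H.w2]
  · rw [← k, ← mul_assoc, H.w2, one_mul]

theorem toZ {s : Ω} (hs : s ∈ S) (h : Commute s a) : ∃ p : ℤ, s * c ^ (-p) ∈ centralizerIn S R := by
  obtain ⟨p, hp⟩ := H.actb hs
  exact ⟨p, H.mem_T.2 ⟨mul_mem hs (zpow_mem H.cS _), h.mul_left (H.ca.zpow_left _),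
    cm ((cjc (H.cbz _) (cjm (mc (h.zpow_right _)) hp)).trans (by group))⟩⟩

theorem relw {x : Ω} (h : Rel F R z w x) : ∃ p : ℤ, x = c ^ p := by
  obtain ⟨p, hp⟩ := H.toZ h.mem (H.cent h H.ne H.aR' H.wa)
  exact ⟨p, by simpa [mul_inv_eq_one] using H.disjT (H.rmul h (Hyp.rpow H.rel _)) H.ne hp⟩

theorem relw' {x : Ω} (h : Rel F R z (w * z) x) : ∃ p : ℤ, x = (a⁻¹ * c) ^ p := by
  obtain ⟨p, hp⟩ := H.relw (cjs H.bw ▸ Hyp.rcj h (S.inv_mem H.bS))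
  exact ⟨p, by rw [← cjz H.bc, ← hp]; group⟩

theorem scal {P : Subgroup Ω} {g : Ω → Ω} (hg : Mor F P g) (ha : a ∈ P) (hc : c ∈ P) (e1 : g z = z)
    (e2 : g w = w) : ∃ l : ℤ, Odd l ∧ g a = a ^ l ∧ g c = c ^ l := by
  have hz : z ∈ P := H.hz ▸ zpow_mem ha _
  have hw : w ∈ P := H.cw ▸ zpow_mem hc _
  obtain ⟨l, h1, h2⟩ := H.gen (H.hZ hg hz e1 ha H.aR') ((hg.orderOf_eq ha).trans H.oa)
  obtain ⟨m, h3⟩ := H.relw (e2 ▸ H.rel.map hg hw hc)
  have h4 := H.rel'.map hg (mul_mem hw hz) (mul_mem (inv_mem ha) hc)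
  rw [hg.map_mul hw hz, e1, e2] at h4
  obtain ⟨n, h5⟩ := H.relw' h4
  rw [hg.map_mul (inv_mem ha) hc, hg.map_inv ha, h2, h3, H.acz, ← zpow_neg] at h5
  obtain ⟨k1, k2⟩ := H.indep h5
  refine ⟨l, h1, h2, h3.trans ((eq_iff H.oc).2 ?_)⟩
  exact (dvd_add k1 k2).trans (Dvd.intro 1 (by ring))

theorem scal' {s : Ω} (hs : s ∈ C S w) : ∃ l : ℤ, Odd l ∧ s * a * s⁻¹ = a ^ l ∧ s * c * s⁻¹ = c ^ l :=
  H.scal (mor_cj F le_rfl (C_le _ hs)) H.aS H.cS (mc (H.zc (C_le _ hs)).symm) (mc (mem_C.1 hs).2.symm)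

omit [Finite S] in
theorem toC {s : Ω} (hs : s ∈ S) {g : Ω → Ω} (hg : Mor F (C S s) g) {v : Ω} (hv : v ∈ C S s)
    (e : g v = w ∨ g v = w * z) {x : Ω} (hx : x ∈ C S s) (h : Commute v x) : g x ∈ C S w :=
  mem_C.2 ⟨hg.map_mem hx, e.elim (· ▸ Mor.comm hg hv hx h) fun e =>
    H.cwz (hg.map_mem hx) (e ▸ Mor.comm hg hv hx h)⟩

theorem exists_rho : ∃ ρ, Mor F (C S w) ρ ∧ ρ z = w ∧ ρ w = w * z := by
  obtain ⟨g, hg, e⟩ := H.phi H.cj
  rcases H.inV (H.rel_map hg H.zC' H.aC H.aR') (fun k => Mor.ne hg H.zC' H.wC H.ne.symm (k.trans e.symm))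
    (Mor.ne_one hg H.aC fun e => H.a_ne (Or.inl e)) (Mor.ne hg H.aC H.zC' fun e => H.a_ne (Or.inr e)) with k | k
  · refine ⟨_, hg.comp (mor_cj F (C_le w) H.bS) fun x => H.Cn H.bS, ?_, ?_⟩
    · rw [Function.comp, cj_apply, mc (H.zc H.bS).symm, k]
    · rw [Function.comp, cj_apply, H.bw, hg.map_mul H.wC H.zC', k, e, H.wz'.eq]
  · refine ⟨_, hg.comp hg fun x hx => H.toC H.wS hg H.zC' (Or.inr k) hx (H.zc (C_le _ hx)), ?_, ?_⟩
    · rw [Function.comp, k, hg.map_mul H.wC H.zC', k, e, ← mul_assoc, ← H.wz'.eq, mul_assoc, H.z2, mul_one]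
    · rw [Function.comp, e, k]

end Big

end CL.WQ
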