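/- All automorphisms of one factor of a central product are realised. -/
import Cfsg.Agent.FUS.WQ.Defs

set_option autoImplicit false

namespace CL.WQ

open Cfsg CL.Fus

/-- every automorphism of `X` extends to a morphism on `X Y` fixing `Y` pointwise -/
def Full {Ω : Type*} [Group Ω] {S : Subgroup Ω} (F : FusionSystem S) (X Y : Subgroup Ω) : Prop :=
  ∀ β : Ω → Ω, IsHomOn X β → (∀ x ∈ X, β x ∈ X) → Set.InjOn β X →
    ∃ f, Mor F (X ⊔ Y) f ∧ Set.EqOn f β X ∧ ∀ y ∈ Y, f y = y

end CL.WQ
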