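/- A weakly closed quaternion subgroup: the automorphism `ρ` and the scalars. -/
import Cfsg.Agent.FUS.WQ.D

set_option autoImplicit false
set_option linter.unusedSectionVars false
set_option linter.unusedVariables false

namespace CL.WQ

open Cfsg CL.Fus Subgroup Cfsg.FusionSystem

universe u

variable {Ω : Type u} [Group Ω] {S : Subgroup Ω} {F : FusionSystem S} {R : Subgroup Ω} {a b z w c : Ω} {j : ℕ}
  {ρ : Ω → Ω}

/-- the elements fixing or inverting `x` -/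
def pmS (S : Subgroup Ω) (x : Ω) : Subgroup Ω where
  carrier := {s | s ∈ S ∧ (s * x * s⁻¹ = x ∨ s * x * s⁻¹ = x⁻¹)}
  one_mem' := ⟨one_mem S, Or.inl (by group)⟩
  mul_mem' := by
    rintro x y ⟨hx, e | e⟩ ⟨hy, e' | e'⟩ <;> refine ⟨mul_mem hx hy, ?_⟩
    exacts [Or.inl (cjc e' e), Or.inr (cjc e' (cji e)), Or.inr (cjc e' e), Or.inl (cjc e' ((cji e).trans (inv_inv _)))]
  inv_mem' := by
    rintro x ⟨hx, e | e⟩ <;> refine ⟨inv_mem hx, ?_⟩
    exacts [Or.inl (cjs e), Or.inr (cjs ((cji e).trans (inv_inv _)))]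

/-- the three involutions of the four-group -/
def IV (z w v : Ω) : Prop := v = z ∨ v = w ∨ v = w * z

namespace Hyp

variable (H : Hyp F R a b z j)
include H

theorem az_ne : ¬ (a * z = a ∨ a * z = a⁻¹) := fun h => h.elim (fun e => H.z1 (mul_eq_left.1 e)) fun e =>
  H.aa_ne (Or.inr (by rw [← H.zi, eq_inv_iff_mul_eq_one, mul_assoc, e, mul_inv_cancel]))

theorem aiz_ne : ¬ (a⁻¹ * z = a ∨ a⁻¹ * z = a⁻¹) := fun h => h.elim (fun e => H.aa_ne (Or.inr (by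
  nth_rw 2 [← e]; group))) fun e => H.z1 (mul_eq_left.1 e)

theorem iaz : (a * z)⁻¹ = a⁻¹ * z := by rw [mul_inv_rev, H.zi, (H.zc H.aS).inv_right.eq]

theorem iaiz : (a⁻¹ * z)⁻¹ = a * z := by rw [← H.iaz, inv_inv]

theorem thM [Finite S] {k : Ω} (hk : k ∈ S) (k2 : k * k = 1) (h : k * a * k⁻¹ = a * z ∨ k * a * k⁻¹ = a⁻¹ * z) :
    ∃ g, Mor F (C S k) g ∧ g k ∈ pmS S a := by
  refine thompson H.pS H.sat H.foc (commutator_le.2 fun s hs t ht => ?_) hk k2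
    (fun e => h.elim (fun h => H.az_ne (h ▸ e.2)) fun h => H.aiz_ne (h ▸ e.2)) fun s hs s2 hM => ⟨mul_mem hs hk, ?_⟩
  · obtain ⟨l, -, hl⟩ := H.act (S.inv_mem hs)
    obtain ⟨m, -, hm⟩ := H.act (S.inv_mem ht)
    refine ⟨(commutator_le_self S) (commutator_mem_commutator hs ht), Or.inl ?_⟩
    have h1 := cjc hm (cjz hl m)
    rw [← zpow_mul, mul_comm, zpow_mul] at h1
    have h2 := cjc h1 (cjs (cjc hl (cjz hm l)))
    rwa [show (t⁻¹ * s⁻¹)⁻¹ * (s⁻¹ * t⁻¹) = s * t * s⁻¹ * t⁻¹ by group] at h2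
  · have zs := mc (H.zc hs).symm
    have e : ∀ x, x * z * z = x := fun x => by rw [mul_assoc, H.z2, mul_one]
    rcases H.inv_act hs (s2 ▸ Commute.one_left a) with e1 | e1 | e1 | e1
    · exact absurd ⟨hs, Or.inl e1⟩ hM
    · exact h.imp (fun h => (cjc h (cjm e1 zs)).trans (e _)) fun h =>
        (cjc h (cjm (cji e1) zs)).trans (by rw [H.iaz, e])
    · exact absurd ⟨hs, Or.inr e1⟩ hM
    · exact h.symm.imp (fun h => (cjc h (cjm (cji e1) zs)).trans (by rw [H.iaiz, e])) fun h =>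
        (cjc h (cjm e1 zs)).trans (e _)

end Hyp

namespace Big

variable (H : Big F R a b z j w c)
include H

theorem iv_cj {v : Ω} (h : IV z w v) : Cj F z v := by
  rcases h with rfl | rfl | rfl
  exacts [Cj.refl H.zS, H.cj, H.rel'.cj]

theorem iv_a {v : Ω} (h : IV z w v) : Commute v a := by
  rcases h with rfl | rfl | rfl
  exacts [H.zc H.aS, H.wa, H.wa.mul_left (H.zc H.aS)]

theorem iv_mem {P : Subgroup Ω} (hz : z ∈ P) (hw : w ∈ P) {v : Ω} (h : IV z w v) : v ∈ P := by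
  rcases h with rfl | rfl | rfl
  exacts [hz, hw, mul_mem hw hz]

theorem iv_onto {P : Subgroup Ω} {f : Ω → Ω} (hf : Mor F P f) (hz : z ∈ P) (hw : w ∈ P) (h1 : IV z w (f z))
    (h2 : IV z w (f w)) {v : Ω} (h : IV z w v) : ∃ v', IV z w v' ∧ f v' = v := by
  have k1 := Mor.ne hf hw hz H.ne
  have k2 := hf.map_mul hw hz
  have e1 : z * w = w * z := H.wz'.eq.symm
  have e2 : w * z * z = w := by rw [mul_assoc, H.z2, mul_one]
  have e3 : z * (w * z) = w := by rw [← mul_assoc, e1, e2]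
  have e4 : w * (w * z) = z := by rw [← mul_assoc, H.w2, one_mul]
  have e5 : w * z * w = z := by rw [mul_assoc, e1, e4]
  unfold IV at *
  rcases h1 with h1 | h1 | h1 <;> rcases h2 with h2 | h2 | h2 <;> rw [h1, h2] at k1 k2 <;>
    (try simp only [e1, e2, e3, e4, e5] at k2) <;> first
      | exact absurd rfl k1
      | rcases h with rfl | rfl | rfl <;> first
        | exact ⟨_, Or.inl rfl, h1⟩ | exact ⟨_, Or.inr (Or.inl rfl), h2⟩ | exact ⟨_, Or.inr (Or.inr rfl), k2⟩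

theorem zsq : z = (a * a) ^ (2 * 2 ^ j : ℤ) := by rw [← H.hz, ← zpow_two, ← zpow_mul]; congr 1; ring

theorem wsq : w = (c * c) ^ (2 * 2 ^ j : ℤ) := by rw [← H.cw, ← zpow_two, ← zpow_mul]; congr 1; ring

variable [Finite S]

theorem toIV {u x : Ω} (h : Rel F R z u x) (h1 : x ≠ 1) (h2 : x ≠ u) : IV z w u := by
  by_cases hu : u = z
  exacts [Or.inl hu, Or.inr (H.inV h hu h1 h2)]

theorem onto {P : Subgroup Ω} {f : Ω → Ω} (hf : Mor F P f) (ha : a * a ∈ P) (hc : c * c ∈ P) {v : Ω}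
    (h : IV z w v) : ∃ v', IV z w v' ∧ f v' = v := by
  have hz : z ∈ P := H.zsq ▸ zpow_mem ha _
  have hw : w ∈ P := H.wsq ▸ zpow_mem hc _
  exact H.iv_onto hf hz hw (H.toIV (H.rel_map hf hz ha (mul_mem H.aR' H.aR'))
    (Mor.ne_one hf ha fun e => H.aa_ne (Or.inl e)) (Mor.ne hf ha hz fun e => H.aa_ne (Or.inr e)))
    (H.toIV ((H.rmul H.rel H.rel).map hf hw hc) (Mor.ne_one hf hc fun e => four_ne H.oc (by rw [e, mul_one]))
      (Mor.ne hf hc hw fun e => four_ne H.oc (by rw [e, H.w2]))) h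

theorem same {s : Ω} (hs : s ∈ C S w) {l : ℤ} (h : s * a * s⁻¹ = a ^ l) : s * c * s⁻¹ = c ^ l := by
  obtain ⟨m, -, h1, h2⟩ := H.scal' hs
  exact h2.trans ((eq_iff H.oc).2 ((eq_iff H.oa).1 (h1.symm.trans h)))

theorem same' {s : Ω} (hs : s ∈ C S w) {l : ℤ} (h : s * a * s⁻¹ = a ^ l) (p q : ℤ) :
    s * (a ^ p * c ^ q) * s⁻¹ = (a ^ p * c ^ q) ^ l := by
  rw [cjm (cjz h p) (cjz (H.same hs h) q), (H.ca.symm.zpow_zpow p q).mul_zpow]; group

theorem Bc {s : Ω} (hs : s ∈ C S w) (h : Commute s a) : Commute s c :=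
  cm (by simpa using H.same hs (l := 1) (by simpa using mc h))

theorem comm_C : ⁅S, S⁆ ≤ C S w := commutator_le.2 fun s hs t ht => by
  rw [commutatorElement_def, mul_assoc, mul_assoc, ← mul_assoc t]
  by_cases h : s ∈ C S w
  · exact mul_mem h (H.Cn ht (inv_mem h))
  · exact H.out hs (mul_mem (mul_mem ht (inv_mem hs)) (inv_mem ht)) h fun k => h (by
      simpa [mul_assoc] using H.Cn (inv_mem ht) k)

theorem dcyc {e : Ω} (he : e ∈ centralizerIn S R) (h : Commute w e) {r : ℕ} (hr : r ≤ j + 3) (h1 : e ^ 2 ^ r = 1) :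
    ∃ p : ℤ, e = (a⁻¹ * c * c) ^ p := by
  induction r generalizing e with
  | zero => exact ⟨0, by simpa using h1⟩
  | succ r ih =>
    rcases H.uT (pow_mem he (2 ^ r)) (h.pow_right _) (by rw [← pow_add, ← two_mul, ← pow_succ', h1]) with k | k
    · exact ih he h (by omega) k
    obtain ⟨t, ht⟩ : ∃ t, j + 2 = t + r := ⟨j + 2 - r, by omega⟩
    have k1 : Commute e (a⁻¹ * c * c) :=
      ((Hyp.Tc he H.aR').inv_right.mul_right (H.Tw he h).symm).mul_right (H.Tw he h).symm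
    obtain ⟨p, hp⟩ := ih (mul_mem he (pow_mem H.dT (2 ^ t))) (h.mul_right ((mem_C.1 H.dC).2.pow_right _)) (by omega)
      (by rw [(k1.pow_right _).mul_pow, k, ← pow_mul, ← pow_add, ← ht, ← zpow_natCast,
        show ((2 ^ (j + 2) : ℕ) : ℤ) = 2 * 2 ^ j + 2 * 2 ^ j by push_cast; ring, zpow_add, H.dt, H.tt, H.z2])
    exact ⟨p - (2 ^ t : ℕ), by rw [zpow_sub, ← hp, zpow_natCast, mul_inv_cancel_right]⟩

theorem toV {u r : Ω} (hu : Cj F z u) (uz : u ≠ z) (hρ : Mor F (C S w) ρ) (rz : ρ z = w) (rw' : ρ w = w * z)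
    (hr : r ∈ R) (h : Commute u r) (r1 : ¬ (r = 1 ∨ r = z)) :
    ∃ ψ, Mor F (C S u) ψ ∧ ψ z = z ∧ (ψ u = w ∨ ψ u = w * z) := by
  obtain ⟨g, hg, e⟩ := H.phi hu
  have hz := H.zC hu.right
  have hr' : r ∈ C S u := mem_C.2 ⟨H.le hr, h⟩
  have k := H.inV (H.rel_map hg hz hr' hr) (fun k => Mor.ne hg hz (self_mem_C hu.right) uz.symm (k.trans e.symm))
    (Mor.ne_one hg hr' fun e => r1 (Or.inl e)) (Mor.ne hg hr' hz fun e => r1 (Or.inr e))
  have h1 := hρ.comp hg fun x hx => H.toC hu.right hg hz k hx (H.zc (C_le _ hx))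
  have rC : ∀ x ∈ C S w, ρ x ∈ C S w := fun x hx => H.toC H.wS hρ H.zC' (Or.inl rz) hx (H.zc (C_le _ hx))
  have h2 : ρ (w * z) = z := by rw [hρ.map_mul H.wC H.zC', rz, rw', mul_assoc, ← H.wz'.eq, ← mul_assoc, H.w2, one_mul]
  rcases k with k | k
  · exact ⟨_, hρ.comp h1 fun x hx => rC _ (H.toC hu.right hg hz (Or.inl k) hx (H.zc (C_le _ hx))),
      by simp only [Function.comp, k, rw', h2], Or.inr (by simp only [Function.comp, e, rz, rw'])⟩
  · exact ⟨_, h1, by simp only [Function.comp, k, h2], Or.inl (by simp only [Function.comp, e, rz])⟩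

end Big

/-- the automorphism permuting the three involutions -/
structure Rho (F : FusionSystem S) (R : Subgroup Ω) (a b z : Ω) (j : ℕ) (w c : Ω) (ρ : Ω → Ω) : Prop
    extends Big F R a b z j w c where
  mor : Mor F (C S w) ρ
  rz : ρ z = w
  rw' : ρ w = w * z

namespace Rho

variable (H : Rho F R a b z j w c ρ)
include H

theorem shift (x : ℤ) : Rho F R a (a ^ x * b) z j w c ρ := { H.toBig.shift x, H with }

theorem rwz : ρ (w * z) = z := by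
  rw [H.mor.map_mul H.wC H.zC', H.rz, H.rw', mul_assoc, ← H.wz'.eq, ← mul_assoc, H.w2, one_mul]

theorem rC {x : Ω} (hx : x ∈ C S w) : ρ x ∈ C S w :=
  H.toC H.wS H.mor H.zC' (Or.inl H.rz) hx (H.zc (C_le _ hx))

theorem c'C : a⁻¹ * c ∈ C S w := mul_mem (inv_mem H.aC) H.cC

variable [Finite S]

theorem vals : ∃ α : ℤ, Odd α ∧ ρ a = c ^ α ∧ ρ c = (a⁻¹ * c) ^ α ∧ ρ (a⁻¹ * c) = a ^ (-α) := by
  obtain ⟨α, h1⟩ := H.relw (H.rz ▸ H.rel_map H.mor H.zC' H.aC H.aR')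
  obtain ⟨β, h2⟩ := H.relw' (H.rw' ▸ H.rel.map H.mor H.wC H.cC)
  obtain ⟨γ, h3⟩ := H.relz (H.rel_z.1 (by
    have := H.rel'.map H.mor (mul_mem H.wC H.zC') H.c'C
    rwa [H.rwz] at this)) (mem_C.1 (H.rC H.c'C)).2
  have h4 : a ^ (-β) * c ^ (β - α) = a ^ γ * c ^ (0 : ℤ) := by
    rw [zpow_zero, mul_one, ← h3, H.mor.map_mul (inv_mem H.aC) H.cC, H.mor.map_inv H.aC, h1, h2, H.acz,
      ← mul_assoc, ← zpow_neg, (H.ca.zpow_zpow _ _).eq]
    group
  obtain ⟨k1, k2⟩ := H.indep h4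
  refine ⟨α, odd_of' H.oc ((H.mor.orderOf_eq H.aC).trans H.oa) h1, h1, h2.trans ((eq_iff H.oc').2 (by simpa using k2)),
    h3.trans ((eq_iff H.oa).2 ((dvd_neg.2 (dvd_add k1 k2)).trans (Dvd.intro 1 (by ring))))⟩

theorem ract {s : Ω} (hs : s ∈ C S w) {l : ℤ} (h : s * a * s⁻¹ = a ^ l) : ρ s * a * (ρ s)⁻¹ = a ^ l := by
  obtain ⟨α, h1, -, -, h2⟩ := H.vals
  have h3 := Mor.conj H.mor hs H.c'C (by simpa using H.same' hs h (-1) 1)
  rw [H.mor.map_zpow H.c'C, h2] at h3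
  obtain ⟨y, -, h4⟩ := gen_odd H.oa h1.neg
  have h5 := cjz h3 y
  rwa [h4, ← zpow_mul, mul_comm, zpow_mul, h4] at h5

theorem rB {s : Ω} (hs : s ∈ C S w) (h : Commute s a) : Commute (ρ s) a :=
  cm (by simpa using H.ract hs (l := 1) (by simpa using mc h))

theorem memB {s : Ω} (hs : s ∈ C S w) (h : Commute s a) : ∃ p q : ℤ, s = a ^ p * c ^ q := by
  obtain ⟨p, hp⟩ := H.toZ (C_le _ hs) h
  have h1 : s * c ^ (-p) ∈ C S w := mul_mem hs (zpow_mem H.cC _)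
  generalize he : s * c ^ (-p) = e at hp h1
  have h2 : e ^ 2 ^ (j + 3) = 1 := by
    by_contra k
    obtain ⟨n, k1, k2⟩ := exists_sq_pow H.pS (pow_mem hp.1 _) k
    have k3 := (H.uT (pow_mem (pow_mem hp _) _) (((mem_C.1 h1).2.pow_right _).pow_right _) k2).resolve_left k1
    obtain ⟨q, hq⟩ := H.toZ (H.mor.map_mem h1) (H.rB h1 (Hyp.Tc hp H.aR'))
    have k4 := H.Bc (H.rC h1) (H.rB h1 (Hyp.Tc hp H.aR'))
    have k5 := pow_mem (pow_mem hq (2 ^ (j + 3))) (2 ^ n)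
    rw [(k4.zpow_right _).mul_pow, ← zpow_natCast (c ^ _), ← zpow_mul, (one_iff H.oc).2 ⟨-q, by push_cast; ring⟩,
      mul_one, ← H.mor.map_pow h1, ← H.mor.map_pow (pow_mem h1 _), k3, H.rz] at k5
    exact H.nwb (Hyp.Tc k5 H.bR)
  obtain ⟨t, ht⟩ := H.dcyc hp (mem_C.1 h1).2 le_rfl h2
  exact ⟨-t, 2 * t + p, by rw [zpow_add, ← mul_assoc, ← H.dz, ← ht, ← he]; group⟩

theorem Bcomm {s t : Ω} (hs : s ∈ C S w) (h : Commute s a) (ht : t ∈ C S w) (h' : Commute t a) : Commute s t := by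
  obtain ⟨p, q, rfl⟩ := H.memB ht h'
  exact (h.zpow_right p).mul_right ((H.Bc hs h).zpow_right q)

theorem invB {s : Ω} (hs : s ∈ C S w) (h : Commute s a) (s2 : s * s = 1) (s1 : s ≠ 1) : IV z w s := by
  obtain ⟨p, q, rfl⟩ := H.memB hs h
  obtain ⟨k1, k2⟩ := H.indep (x := 2 * p) (y := 2 * q) (x' := 0) (y' := 0) (by
    rw [zpow_zero, zpow_zero, one_mul, ← s2, mul_assoc, ← mul_assoc (c ^ q), (H.ca.zpow_zpow q p).eq]; group)
  rw [sub_zero] at k1 k2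
  rcases half_cases H.oa (dvd4 k1) with e | e <;> rcases half_cases H.oc (dvd4 k2) with e' | e' <;>
    simp only [e, e', H.hz, H.cw, one_mul, mul_one] at s1 ⊢
  exacts [absurd rfl s1, Or.inr (Or.inl rfl), Or.inl rfl, Or.inr (Or.inr H.wz'.eq.symm)]

theorem fixB {s : Ω} (hs : s ∈ C S w) (h : Commute s a) (e : ρ s = s) : s = 1 := by
  by_contra s1
  obtain ⟨n, k1, k2⟩ := exists_sq_pow H.pS (C_le _ hs) s1
  have k3 := H.mor.map_pow hs (2 ^ n)
  rw [e] at k3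
  rcases H.invB (pow_mem hs _) (h.pow_left _) k2 k1 with k | k | k <;> rw [k] at k3
  exacts [H.ne (H.rz.symm.trans k3), H.ne' (k3.symm.trans H.rw'), H.ne'' (k3.symm.trans H.rwz)]

theorem exK {s : Ω} (hs : s ∈ C S w) : ∃ x ∈ C S w, Commute x a ∧ ρ (s * x) = s * x := by
  let B := C S w ⊓ C S a
  have : Finite B := finite_of_le (inf_le_left.trans (C_le w))
  have m : ∀ {x}, x ∈ C S w → Commute x a → x ∈ B := fun h1 h2 => ⟨h1, mem_C.2 ⟨C_le _ h1, h2.symm⟩⟩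
  have m' : ∀ x : B, Commute x.1 a := fun x => (mem_C.1 x.2.2).2.symm
  let f : B → B := fun x => x * ⟨ρ x, m (H.rC x.2.1) (H.rB x.2.1 (m' x))⟩⁻¹
  have hf : Function.Injective f := fun x y e => by
    have e' : x.1 * (ρ x)⁻¹ = y.1 * (ρ y)⁻¹ := congrArg Subtype.val e
    have := H.fixB (y⁻¹ * x).2.1 (m' _) (by
      change ρ (y.1⁻¹ * x) = y.1⁻¹ * x
      rw [H.mor.map_mul (inv_mem y.2.1) x.2.1, H.mor.map_inv y.2.1, eq_inv_mul_iff_mul_eq, ← mul_assoc, ← e',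
        inv_mul_cancel_right])
    exact (inv_mul_eq_one.1 (Subtype.ext this)).symm
  obtain ⟨l, -, hl⟩ := H.act (C_le _ hs)
  obtain ⟨x, hx⟩ := Finite.surjective_of_injective hf ⟨s⁻¹ * ρ s, m (mul_mem (inv_mem hs) (H.rC hs))
    (cm (cjc (H.ract hs hl) (cjs hl)))⟩
  have hx' : x.1 * (ρ x)⁻¹ = s⁻¹ * ρ s := congrArg Subtype.val hx
  exact ⟨x, x.2.1, m' x, by
    rw [H.mor.map_mul hs x.2.1, ← inv_mul_eq_iff_eq_mul, ← mul_assoc, ← hx', inv_mul_cancel_right]⟩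

theorem exK' {s y : Ω} (hs : s ∈ C S w) (h : s * a * s⁻¹ = y) (h2 : s * y * s⁻¹ = a) :
    ∃ k ∈ C S w, k * a * k⁻¹ = y ∧ ρ k = k ∧ k * k = 1 := by
  obtain ⟨x, h1, h3, h4⟩ := H.exK hs
  obtain ⟨l, -, hl⟩ := H.act (C_le _ hs)
  have h5 := mul_mem hs h1
  exact ⟨_, h5, cjc (mc h3) h, h4, H.fixB (mul_mem h5 h5) (cm (cjc (cjc (mc h3) h)
    (cjc (mc (h ▸ hl ▸ h3.zpow_right l)) h2))) (by rw [H.mor.map_mul h5 h5, h4])⟩

theorem invs {s x : Ω} (hs : s ∈ C S w) (h : s * a * s⁻¹ = a⁻¹ ∨ s * a * s⁻¹ = a⁻¹ * z) (hx : x ∈ C S w)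
    (xa : Commute x a) (e : Commute s x) : x * x = 1 := by
  obtain ⟨p, q, rfl⟩ := H.memB hx xa
  rcases h with h | h
  · have := H.same' hs (l := -1) (by simpa using h) p q
    rw [mc e, zpow_neg_one] at this
    exact mul_eq_one_iff_eq_inv.2 this
  · have := H.same' hs (h.trans H.az) p q
    rw [mc e, (H.ca.symm.zpow_zpow p q).mul_zpow, ← zpow_mul, ← zpow_mul] at this
    obtain ⟨k1, k2⟩ := H.indep this
    have k : ∀ {g : Ω} {p : ℤ}, orderOf g = 8 * 2 ^ j → 8 * 2 ^ j ∣ p - p * (4 * 2 ^ j - 1) → g ^ p * g ^ p = 1 :=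
      fun {g p} hg h => by
        rw [← zpow_add, one_iff hg]
        exact dvd8 (u := 2 * (-2 ^ j) + 1) ⟨_, rfl⟩ (h.trans (Dvd.intro 1 (by ring)))
    rw [mul_assoc, ← mul_assoc (c ^ q), (H.ca.zpow_zpow q p).eq, mul_assoc, k H.oc k2, mul_one, k H.oa k1]

theorem no_az {s : Ω} (hs : s ∈ C S w) : s * a * s⁻¹ ≠ a * z := fun h => by
  obtain ⟨k, hk, h1, -, k2⟩ := H.exK' hs h (by
    rw [cjm h (mc (H.zc (C_le _ hs)).symm), mul_assoc, H.z2, mul_one])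
  obtain ⟨g, hg, hM⟩ := H.thM (C_le _ hk) k2 (Or.inl h1)
  have ha : a * a ∈ C S k := mem_C.2 ⟨mul_mem H.aS H.aS, cm ((cjm h1 h1).trans H.az_sq)⟩
  have h2 : k * c * k⁻¹ = c * w := by
    rw [H.same hk (l := 1 + 4 * 2 ^ j) (by rw [h1, zpow_add, H.hz, zpow_one]), zpow_add, H.cw, zpow_one]
  have hc : c * c ∈ C S k := mem_C.2 ⟨mul_mem H.cS H.cS, cm ((cjm h2 h2).trans (by
    rw [mul_assoc, ← mul_assoc w, H.wc'.eq, mul_assoc, H.w2, mul_one]))⟩
  have hz := H.zC (C_le _ hk)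
  have hw : w ∈ C S k := mem_C.2 ⟨H.wS, (mem_C.1 hk).2.symm⟩
  have hk' := self_mem_C (C_le _ hk)
  obtain ⟨v, hv, e⟩ := H.onto hg ha hc (Or.inr (Or.inl rfl))
  have hv' := H.iv_mem hz hw hv
  have h3 : g k ∈ C S w := mem_C.2 ⟨hM.1, e ▸ Mor.comm hg hv' hk' (mem_C.1 hv').2.symm⟩
  have h4 : g (a * a) ∈ C S w := mem_C.2 ⟨hg.map_mem ha, e ▸ Mor.comm hg hv' ha
    ((H.iv_a hv).mul_right (H.iv_a hv))⟩
  have h5 := H.rel_map hg hz ha (mul_mem H.aR' H.aR')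
  have h6 : Commute (g (a * a)) a := by
    by_cases h7 : g z = z
    · obtain ⟨p, hp⟩ := H.relz (H.rel_z.1 (by rwa [h7] at h5)) (mem_C.1 h4).2
      exact hp ▸ (Commute.refl a).zpow_left p
    · exact H.cent h5 h7 H.aR' (H.iv_a (H.toIV h5 (Mor.ne_one hg ha fun e => H.aa_ne (Or.inl e))
        (Mor.ne hg ha hz fun e => H.aa_ne (Or.inr e))))
  rcases hM.2 with h7 | h7
  · obtain ⟨v, hv, e⟩ := H.onto hg ha hc (H.invB h3 (cm h7) (Mor.sq hg hk' k2) (Mor.ne_one hg hk' fun e =>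
      H.az_ne (Or.inl (by rw [← h1, e]; group))))
    exact H.az_ne (Or.inl (by rw [← h1, ← hg.injOn (H.iv_mem hz hw hv) hk' e, mc (H.iv_a hv)]))
  · have := H.invs h3 (Or.inl h7) h4 h6 (Mor.comm hg hk' ha (mem_C.1 ha).2)
    rw [← hg.map_mul ha ha, hg.eq_one_iff (mul_mem ha ha)] at this
    exact four_ne H.oa this

theorem lam0 {s : Ω} (hs : s ∈ C S w) (h : Commute (s * s) a) (hi : Commute s (qi a j)) : Commute s a := by
  rcases H.inv_act (C_le _ hs) h with e | e | e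
  exacts [cm e, absurd e (H.no_az hs), (H.i_ne ((mc hi).symm.trans (H.inv_i e))).elim]

theorem sq_a {s : Ω} (hs : s ∈ C S w) : Commute (s * s) a := by
  obtain ⟨n, hn⟩ := H.pS ⟨s, C_le _ hs⟩
  have h : Commute (s ^ 2 ^ n) a := by
    rw [show s ^ 2 ^ n = 1 from congrArg Subtype.val hn]; exact Commute.one_left a
  clear hn
  induction n generalizing s with
  | zero => exact (by simpa using h : Commute s a).mul_left (by simpa using h)
  | succ n ih =>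
    exact H.lam0 (mul_mem hs hs) (ih (mul_mem hs hs) (by rwa [← pow_two, ← pow_mul, ← pow_succ'])) (H.sqi (C_le _ hs))

theorem lam {s : Ω} (hs : s ∈ C S w) : Commute s a ∨ s * a * s⁻¹ = a⁻¹ ∨ s * a * s⁻¹ = a⁻¹ * z := by
  rcases H.inv_act (C_le _ hs) (H.sq_a hs) with e | e | e
  exacts [Or.inl (cm e), absurd e (H.no_az hs), Or.inr e]

theorem tz {g h : Ω} (hg : g ∈ S) (gC : g ∉ C S w) (g2 : g * g = 1) (hh : h ∈ S) (e : Commute g h)
    (h4 : h * h * (h * h) ≠ 1) : Cj F z g := by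
  obtain ⟨f, hf, k⟩ := thompson H.pS H.sat H.foc H.comm_C hg g2 gC fun s hs _ h => H.out hs hg h gC
  have hg' := self_mem_C hg
  have hh' : h ∈ C S g := mem_C.2 ⟨hh, e⟩
  rcases H.lam k with k1 | k1
  · exact (H.iv_cj (H.invB k k1 (Mor.sq hf hg' g2) (Mor.ne_one hf hg' fun e => gC (e ▸ one_mem _)))).trans
      (Mor.cj' hf hg').symm
  · have k2 := hf.map_mem hh'
    have k3 := Mor.comm hf hg' hh' e
    have := H.invs k k1 (H.sqC k2) (H.lam0 (H.sqC k2) (H.sq_a (H.sqC k2)) (H.sqi k2)) (k3.mul_right k3)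
    rw [← hf.map_mul hh' hh', ← hf.map_mul (mul_mem hh' hh') (mul_mem hh' hh'),
      hf.eq_one_iff (mul_mem (mul_mem hh' hh') (mul_mem hh' hh'))] at this
    exact absurd this h4

end Rho

end CL.WQ
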