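/- A weakly closed quaternion subgroup: the scalars are `± 1`; the wreathed case. -/
import Cfsg.Agent.FUS.WQ.E
import Cfsg.Agent.FUS.CRTools

set_option autoImplicit false
set_option linter.unusedSectionVars false
set_option linter.unusedVariables false

namespace CL.WQ

open Cfsg CL.Fus Subgroup Cfsg.FusionSystem

universe u

variable {Ω : Type u} [Group Ω] {S : Subgroup Ω} {F : FusionSystem S} {R : Subgroup Ω} {a b z w c : Ω} {j : ℕ}
  {ρ : Ω → Ω}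

theorem odd_geom {l : ℤ} (hl : Odd l) (t : ℕ) : ∃ u, Odd u ∧ l ^ (2 * t + 1) - 1 = u * (l - 1) := by
  induction t with
  | zero => exact ⟨1, odd_one, by ring⟩
  | succ t ih =>
    obtain ⟨u, h1, h2⟩ := ih
    exact ⟨l * l * u + (l + 1), ((hl.mul hl).mul h1).add_even hl.add_one, by linear_combination l * l * h2⟩

theorem Hyp.Tmap [Finite S] (H : Hyp F R a b z j) {y : Ω} (hy : y ∈ centralizerIn S R) {P : Subgroup Ω} {θ : Ω → Ω}
    (hθ : Mor F P θ) (hR : R ≤ P) (hP : y ∈ P) : θ y ∈ centralizerIn S R := ⟨hθ.map_mem hP, fun r hr => by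
  obtain ⟨r', hr', rfl⟩ := (hθ.mono hR).mem_img.1 (((hθ.mono hR).img_eq_self (H.wc _ θ hθ hR)).ge hr)
  exact (Mor.comm hθ hP (hR hr') (Hyp.Tc hy hr')).symm⟩

theorem Hyp.Ract (H : Hyp F R a b z j) {r : Ω} (hr : r ∈ R) : r * a * r⁻¹ = a ∨ r * a * r⁻¹ = a⁻¹ := by
  obtain ⟨p, rfl | rfl⟩ := (H.mem r).1 hr
  exacts [Or.inl (by group), Or.inr (H.ra p)]

namespace Big

variable (H : Big F R a b z j w c)
include H

theorem vi {v y : Ω} (hv : v = w ∨ v = w * z) (hy : y = qi a j ∨ y = (qi a j)⁻¹) :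
    v * y = ta a j w ∨ v * y = (ta a j w)⁻¹ := by
  have h1 : w * (qi a j)⁻¹ = ta a j w := H.wi.inv_right.eq
  have h2 : w * qi a j = (ta a j w)⁻¹ := by rw [ta, mul_inv_rev, inv_inv, inv_of_sq H.w2]
  have h3 := (H.zc H.iS).eq
  rcases hv with rfl | rfl <;> rcases hy with rfl | rfl
  · exact Or.inr h2
  · exact Or.inl h1
  · exact Or.inl (by rw [mul_assoc, h3, ← H.iinv, h1])
  · exact Or.inr (by rw [H.iinv, mul_assoc, ← mul_assoc z, h3, mul_assoc, H.z2, mul_one, h2])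

theorem d4 : a⁻¹ * c * c * (a⁻¹ * c * c) * (a⁻¹ * c * c * (a⁻¹ * c * c)) ≠ 1 := fun e => H.z1 (by
  rw [← H.tt, ← H.dt, zpow_mul, zpow_two, ← (Commute.refl _).mul_zpow, e, one_zpow])

theorem ct : Commute c (ta a j w) := (H.ca.zpow_right _).inv_right.mul_right H.wc'.symm

theorem imgA {P : Subgroup Ω} {ψ : Ω → Ω} (hψ : Mor F P ψ) (e : ψ z = z) {u r : Ω} (hu : u ∈ P) (hr : r ∈ P)
    (h : ψ u = w ∨ ψ u = w * z) (hR : r ∈ R) (k : Commute u r) (rr : r * r = z) :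
    ψ r = qi a j ∨ ψ r = (qi a j)⁻¹ := by
  have hz : z ∈ P := rr ▸ mul_mem hr hr
  have h1 := Mor.comm hψ hu hr k
  obtain ⟨p, hp⟩ := H.relz (H.hZ hψ hz e hr hR) (h.elim (· ▸ h1) fun h => H.cwz (hψ.map_mem hr) (h ▸ h1))
  rw [hp]
  exact H.quart (by rw [← hp, ← hψ.map_mul hr hr, rr, e])

end Big

namespace Rho

variable (H : Rho F R a b z j w c ρ) [Finite S]
include H

theorem ctau {x : Ω} (hx : x ∈ S) (h : Commute (ta a j w) x) (h2 : x * x ∈ R) : x ∈ R ∨ x * w ∈ R := by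
  have k : ∀ s ∈ C S w, Commute (ta a j w) s → ∃ (q : ℤ) (r : Ω), r ∈ R ∧ s = c ^ q * r := fun s hs h => by
    obtain ⟨p, q, e⟩ := H.memB hs (H.lam0 hs (H.sq_a hs) (by
      simpa [ta] using ((mem_C.1 hs).2.mul_left h.inv_left).symm))
    exact ⟨q, _, H.aR p, e.trans (H.ca.zpow_zpow q p).eq.symm⟩
  obtain ⟨q, r, hr, rfl⟩ : ∃ (q : ℤ) (r : Ω), r ∈ R ∧ x = c ^ q * r := by
    by_cases h1 : x ∈ C S w
    · exact k x h1 h
    · obtain ⟨q, r, hr, e⟩ := k _ (H.outb hx h1) (h.mul_right (Hyp.Tc H.tT H.bR).inv_right)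
      exact ⟨q, _, mul_mem hr H.bR, by rw [← mul_assoc, ← e, inv_mul_cancel_right]⟩
  have h3 := H.disjR (H.rmul (Hyp.rpow H.rel q) (Hyp.rpow H.rel q)) H.ne (by
    have := mul_mem (mul_mem h2 (inv_mem hr)) (inv_mem (H.nrm (S.inv_mem (zpow_mem H.cS q)) hr))
    rwa [show c ^ q * r * (c ^ q * r) * r⁻¹ * ((c ^ q)⁻¹ * r * (c ^ q)⁻¹⁻¹)⁻¹ = c ^ q * c ^ q by group] at this)
  rcases sq_cases H.oc h3 with e | e <;> rw [e]
  · exact Or.inl (by rwa [one_mul])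
  · exact Or.inr (by rw [H.cw]; simpa only [inv_of_sq H.w2] using H.nrm H.wS hr)

theorem aiz_aux {k : Ω} (hk : k ∈ C S w) (h1 : k * a * k⁻¹ = a⁻¹ * z) (k2 : k * k = 1) (kb : Commute k b) : False := by
  have kS := C_le _ hk
  have ni : ∀ t ∈ C S w, t * a * t⁻¹ ≠ a⁻¹ := fun t ht e => H.no_az (mul_mem ht hk)
    ((cjc h1 (cjm (cji e) (mc (H.zc (C_le _ ht)).symm))).trans (by rw [inv_inv]))
  have ba' : b⁻¹ * a * b⁻¹⁻¹ = a⁻¹ := cjs ((cji H.ba).trans (inv_inv _))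
  have ka : ¬ Commute k a := fun e => H.aiz_ne (Or.inl (h1.symm.trans (mc e)))
  have hc : Cj F z k := by
    obtain ⟨g, hg, hM⟩ := H.thM kS k2 (Or.inr h1)
    have hk' := self_mem_C kS
    refine Cj.trans ?_ (Mor.cj' hg hk').symm
    have g2 := Mor.sq hg hk' k2
    by_cases h2 : g k ∈ C S w
    · exact H.iv_cj (H.invB h2 (cm (hM.2.resolve_right (ni _ h2))) g2
        (Mor.ne_one hg hk' fun e => ka (e ▸ Commute.one_left a)))
    · have h3 := H.outb hM.1 h2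
      have h4 := hM.2.resolve_left fun e => ni _ h3 (cjc ba' (cji e))
      refine H.tz hM.1 h2 g2 H.dT.1 ?_ H.d4
      simpa using (H.Bcomm h3 (cm (cjc ba' ((cji h4).trans (inv_inv _)))) H.dC (Hyp.Tc H.dT H.aR')).mul_left
        (Hyp.Tc H.dT H.bR).symm
  obtain ⟨ψ, hψ, e1, e2⟩ := H.toV hc (fun e => ka (e ▸ H.zc H.aS)) H.mor H.rz H.rw' H.bR kb (by simpa using H.r_ne 0)
  have hk' := self_mem_C kS
  have hb : b ∈ C S k := mem_C.2 ⟨H.bS, kb⟩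
  have e3 := H.vi e2 (H.imgA hψ e1 hk' hb e2 H.bR kb H.bb)
  rw [← hψ.map_mul hk' hb] at e3
  obtain ⟨θ, hθ, fc⟩ := exists_fc H.pS H.sat H.tS
  have ht := self_mem_C H.tS
  have t1 := H.Tmap H.tT hθ (H.R_le_C H.tT) ht
  have zp : ∀ {x}, x = ta a j w ∨ x = (ta a j w)⁻¹ → zpowers x = zpowers (ta a j w) := by
    rintro _ (rfl | rfl)
    exacts [rfl, zpowers_inv]
  rw [zp (H.tcases t1 (mem_C.1 (by_contra fun h => ni _ (H.outb t1.1 h)
    (cjc ba' (cji (mc (Hyp.Tc t1 H.aR')))))).2 (by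
      rw [← hθ.map_mul ht ht, H.tt, H.wz hθ (H.R_le_C H.tT)])), ← zp e3] at fc
  obtain ⟨χ, hχ, e4⟩ := exists_to H.pS H.sat (Mor.cj' hψ (mul_mem hk' hb)) fc
  rw [← e4] at e3
  have ee : k * b * (k * b) = z := by rw [mul_assoc, ← mul_assoc b, ← kb.eq, ← mul_assoc, ← mul_assoc, k2, one_mul, H.bb]
  have ea : k * b * a * (k * b)⁻¹ = a * z := (cjc H.ba (cji h1)).trans H.iaiz
  have ew : k * b * w * (k * b)⁻¹ = w * z := cjc H.bw (cjm (mc (mem_C.1 hk).2.symm) (mc (H.zc kS).symm))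
  have eS := mul_mem kS H.bS
  generalize k * b = e at *
  have he := self_mem_C eS
  have hz := H.zC eS
  have e5 : χ z = z := by
    rw [← ee, hχ.map_mul he he, ee]
    rcases e3 with e3 | e3 <;> rw [e3]
    exacts [H.tt, by rw [← mul_inv_rev, H.tt, H.zi]]
  have hg : w * a⁻¹ ∈ C S e := mem_C.2 ⟨mul_mem H.wS (S.inv_mem H.aS), cm (by
    rw [cjm ew (cji ea), H.iaz, mul_assoc, ← mul_assoc z, (H.zc H.aS).inv_right.eq, mul_assoc, H.z2, mul_one])⟩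
  have g1 := Mor.comm hχ he hg (mem_C.1 hg).2
  rcases H.ctau (hχ.map_mem hg) (e3.elim (· ▸ g1) fun h => Commute.inv_left_iff.1 (by rwa [h] at g1)) (by
    rw [← hχ.map_mul hg hg]
    refine H.hZ hχ hz e5 (mul_mem hg hg) ?_
    rw [mul_assoc, ← mul_assoc a⁻¹, ← H.wa.inv_right.eq, ← mul_assoc, ← mul_assoc, H.w2, one_mul]
    exact mul_mem (inv_mem H.aR') (inv_mem H.aR')) with h | h
  · exact H.wR (by simpa using mul_mem (H.back hχ hz e5 hg h) H.aR')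
  have h2 : w * a⁻¹ * e⁻¹ ∈ R := H.back hχ hz e5 (mul_mem hg (inv_mem he)) (by
    rw [hχ.map_mul hg (inv_mem he), hχ.map_inv he]
    have h3 : w⁻¹ * (ta a j w) ∈ R := by
      rw [ta, ← H.wi.inv_right.eq, inv_mul_cancel_left]; exact inv_mem H.iR
    rcases e3 with e3 | e3 <;> rw [e3]
    · simpa [mul_assoc, H.tinv] using mul_mem (mul_mem h h3) H.zR
    · simpa [mul_assoc] using mul_mem h h3)
  have h3 : w * a⁻¹ * e⁻¹ * (a * z) * (w * a⁻¹ * e⁻¹)⁻¹ = a := by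
    rw [← ea]; nth_rw 4 [← mc H.wa]; group
  have h4 := mc (H.zc (H.le h2)).symm
  rcases H.Ract h2 with h5 | h5
  exacts [H.az_ne (Or.inl ((cjm h5 h4).symm.trans h3)), H.aiz_ne (Or.inl ((cjm h5 h4).symm.trans h3))]

theorem lam2 {s : Ω} (hs : s ∈ C S w) : Commute s a ∨ s * a * s⁻¹ = a⁻¹ := by
  refine (H.lam hs).imp_right fun h => h.resolve_right fun h => ?_
  obtain ⟨k, hk, h1, -, k2⟩ := H.exK' hs h (by
    rw [cjm (cji h) (mc (H.zc (C_le _ hs)).symm), H.iaiz, mul_assoc, H.z2, mul_one])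
  obtain ⟨i, hi⟩ := H.actb (C_le _ hk)
  obtain ⟨t, rfl⟩ := H.even_of k2 h1 hi
  obtain ⟨x, hx⟩ := H.fix_even (Or.inr h1) hi
  exact (H.shift x).aiz_aux hk h1 k2 hx

theorem inner {g : Ω → Ω} (hg : Mor F (C S w) g) (e1 : g z = z) (e2 : g w = w) :
    ∃ s ∈ C S w, ∀ x ∈ C S w, g x = s * x * s⁻¹ := by
  have := finite_mulAut (C_le (S := S) w)
  obtain ⟨α, hα, e⟩ := hg.exists_aut (hg.img_eq_self fun x hx => H.toC H.wS hg H.wC (Or.inl e2) hx (mem_C.1 hx).2)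
  obtain ⟨x, y, -, ⟨m, rfl⟩, ⟨n, hn⟩, hy, e3⟩ := exists_p_part_p'_part (p := 2) hα
  have hy' := mor_autFun (C_le w) (zpow_mem hα m)
  have y1 := autFun_zpow_of_fix H.zC' ((e H.zC').trans e1) m
  have y2 := autFun_zpow_of_fix H.wC ((e H.wC).trans e2) m
  simp only at hy e3
  generalize α ^ m = y at hy e3 hy' y1 y2
  have ho : Odd (orderOf y) := Nat.coprime_two_right.1 hy
  obtain ⟨l, hl, y3, y4⟩ := H.scal hy' H.aC H.cC y1 y2
  have y5 : ∀ n : ℕ, autFun (y ^ n) a = a ^ l ^ n := fun n => by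
    induction n with
    | zero => simpa using autFun_one H.aC
    | succ n ih => rw [pow_succ', autFun_mul _ _ H.aC, ih, hy'.map_zpow H.aC, y3, ← zpow_mul, pow_succ']
  obtain ⟨t, ht⟩ := ho
  obtain ⟨u, hu, y6⟩ := odd_geom hl t
  have y7 := y5 (2 * t + 1)
  rw [← ht, pow_orderOf_eq_one, autFun_one H.aC, ht, eq_comm, ← zpow_one a, ← zpow_mul, one_mul, eq_iff H.oa, y6] at y7
  have y8 : autFun y a = a := y3.trans (((eq_iff H.oa).2 (dvd8 hu y7)).trans (zpow_one a))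
  have y9 : autFun y c = c := y4.trans (((eq_iff H.oc).2 (dvd8 hu y7)).trans (zpow_one c))
  have := finite_of_le (inf_le_left.trans (C_le w) : C S w ⊓ C S a ≤ S)
  obtain rfl : y = 1 := CL.Rk2.eq_one_of_odd_of_mem (isPGroup_zpowers_of_stabilizes (Q := C S w ⊓ C S a)
    (hQ := isPGroup_of_le H.pS (inf_le_left.trans (C_le w))) (hQP := inf_le_left)
    (h1 := fun x hx => by
      obtain ⟨p, q, rfl⟩ := H.memB hx.1 (mem_C.1 hx.2).2.symm
      rw [hy'.map_mul (zpow_mem H.aC _) (zpow_mem H.cC _), hy'.map_zpow H.aC, hy'.map_zpow H.cC, y8, y9])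
    (h2 := fun x hx => by
      obtain ⟨l, -, hl⟩ := H.act (C_le _ hx)
      have := Mor.conj hy' hx H.aC hl
      rw [hy'.map_zpow H.aC, y8] at this
      have h1 := mul_mem (inv_mem hx) (autFun_mem y hx)
      exact ⟨h1, mem_C.2 ⟨C_le _ h1, (cm (cjc this (cjs hl))).symm⟩⟩))
    (mem_zpowers y) ⟨t, ht⟩
  rw [mul_one] at e3
  obtain ⟨γ, hγ, h1⟩ := (sylIn_of_fullyNormalized H.pS H.sat (fullyNormalized_of_normal F (C_le w) fun s hs =>
    have := finite_of_le (C_le (S := S) w)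
    mem_normalizer_of_cj_mem fun x => H.Cn hs)).exists_conj_le (zpowers_le.2 hα)
      (isPGroup_zpowers_of_pow_eq_one (e3 ▸ hn))
  obtain ⟨s, hs, h2⟩ := mem_autInducedBy_iff.1 (h1 α (mem_zpowers α))
  have hγ' := mor_autFun (C_le w) hγ
  have h3 : ∀ x ∈ C S w, autFun γ (g x) = s * autFun γ x * s⁻¹ := fun x hx => by
    rw [← cj_apply, ← h2 (autFun_mem γ hx), autFun_mul _ _ (autFun_mem γ hx), autFun_inv_autFun _ hx,
      autFun_mul _ _ hx, e hx]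
  obtain ⟨v, hv, h4⟩ := H.onto hγ' (mul_mem H.aC H.aC) (mul_mem H.cC H.cC) (Or.inr (Or.inl rfl))
  have h5 := h3 v (H.iv_mem H.zC' H.wC hv)
  rw [show g v = v by
    rcases hv with rfl | rfl | rfl
    exacts [e1, e2, by rw [hg.map_mul H.wC H.zC', e1, e2]], h4] at h5
  have h6 : s ∈ C S w := mem_C.2 ⟨hs, (cm h5.symm).symm⟩
  refine ⟨_, autFun_mem γ⁻¹ h6, fun x hx => hγ'.injOn (e hx ▸ autFun_mem α hx)
    (H.Cn (C_le _ (autFun_mem _ h6)) hx) ?_⟩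
  rw [h3 x hx, ← Mor.conj hγ' (autFun_mem _ h6) hx rfl, autFun_autFun_inv _ h6]

omit [Finite S] in
theorem t2 : b * (ta a j w)⁻¹ * (b * (ta a j w)⁻¹) = 1 := by
  rw [mul_assoc, ← mul_assoc _ b, (Hyp.Tc H.tT H.bR).inv_left.eq, ← mul_assoc, ← mul_assoc, H.bb, mul_assoc,
    ← mul_inv_rev, H.tt, mul_inv_cancel]

omit [Finite S] in
theorem tc : b * (ta a j w)⁻¹ * c * (b * (ta a j w)⁻¹)⁻¹ = a⁻¹ * c := cjc (mc H.ct.inv_right.symm) H.bc

omit [Finite S] in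
theorem tai : b * (ta a j w)⁻¹ * a * (b * (ta a j w)⁻¹)⁻¹ = a⁻¹ := cjc (mc (Hyp.Tc H.tT H.aR').inv_left) H.ba

omit [Finite S] in
theorem tC : b * (ta a j w)⁻¹ ∉ C S w := fun h => H.bC (by simpa using mul_mem h (mem_C.2 ⟨H.tS, H.wt'⟩))

omit [Finite S] in
theorem tS' : b * (ta a j w)⁻¹ ∈ S := mul_mem H.bS (S.inv_mem H.tS)

theorem wreathed (h : ∀ s ∈ C S w, Commute s a) : IsWreathed S := by
  have h1 : Nat.card (C S w) = (8 * 2 ^ j) * (8 * 2 ^ j) := by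
    rw [← Nat.card_congr (Equiv.ofBijective (fun p : zpowers a × zpowers c => (⟨p.1 * p.2,
      mul_mem (zpowers_le.2 H.aC p.1.2) (zpowers_le.2 H.cC p.2.2)⟩ : C S w)) ⟨?_, fun s => ?_⟩), Nat.card_prod,
      Nat.card_zpowers, Nat.card_zpowers, H.oa, H.oc]
    · rintro ⟨⟨_, p, rfl⟩, ⟨_, q, rfl⟩⟩ ⟨⟨_, p', rfl⟩, ⟨_, q', rfl⟩⟩ e
      obtain ⟨k1, k2⟩ := H.indep (congrArg Subtype.val e)
      exact Prod.ext (Subtype.ext ((eq_iff H.oa).2 k1)) (Subtype.ext ((eq_iff H.oc).2 k2))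
    · obtain ⟨p, q, e⟩ := H.memB s.2 (h s s.2)
      exact ⟨(⟨_, p, rfl⟩, ⟨_, q, rfl⟩), Subtype.ext e.symm⟩
  refine ⟨j + 3, by omega, ?_, ⟨c, H.cS⟩, ⟨_, C_le _ H.c'C⟩, ⟨_, H.tS'⟩, ?_, Subtype.ext ?_, ?_, ?_, Subtype.ext H.tc⟩
  · rw [CL.Rk2.card_of_index_two (C_le w) (index_eq_two_iff.2 ⟨⟨b, H.bS⟩, fun s => ?_⟩), h1]
    · ring
    · by_cases hs : s.1 ∈ C S w
      · exact Or.inr ⟨hs, fun k => H.bC (by simpa using mul_mem (inv_mem hs) k)⟩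
      · exact Or.inl ⟨H.out s.2 H.bS hs H.bC, hs⟩
  · rw [← orderOf_coe, H.oc]; ring
  · exact (H.ca.inv_right.mul_right (Commute.refl c)).eq
  · rw [eq_bot_iff]
    rintro _ ⟨⟨p, rfl⟩, q, e⟩
    have e' : (a⁻¹ * c) ^ q = a ^ (0 : ℤ) * c ^ p := by simpa using congrArg Subtype.val e
    rw [H.acz] at e'
    obtain ⟨k1, k2⟩ := H.indep e'
    exact Subtype.ext ((one_iff H.oc).2 ((dvd_neg.2 (dvd_add k1 k2)).trans (Dvd.intro 1 (by ring))))
  · rw [← orderOf_coe]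
    exact orderOf_eq_prime (by rw [pow_two]; exact H.t2) fun e => H.tC (by rw [show b * _ = 1 from e]; exact one_mem _)

end Rho

end CL.WQ
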