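/- A weakly closed quaternion subgroup: the `G₂` case gives the pattern `Mod`. -/
import Cfsg.Agent.FUS.WQ.F
import Cfsg.Agent.FUS.WQ.Defs

set_option autoImplicit false
set_option linter.unusedSectionVars false
set_option linter.unusedVariables false

namespace CL.WQ

open Cfsg CL.Fus CL.G2S Subgroup Cfsg.FusionSystem

universe u

variable {Ω : Type u} [Group Ω] {S : Subgroup Ω} {F : FusionSystem S} {R : Subgroup Ω} {a b z w c η : Ω} {j : ℕ}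
  {ρ : Ω → Ω}

/-- the normalised data of the `G₂` case -/
structure Eta (F : FusionSystem S) (R : Subgroup Ω) (a b z : Ω) (j : ℕ) (w c : Ω) (ρ : Ω → Ω) (η : Ω) : Prop
    extends Rho F R a b z j w c ρ where
  eC : η ∈ C S w
  ea : η * a * η⁻¹ = a⁻¹
  e2 : η * η = 1
  re : ρ η = η
  rc : ρ c = (a⁻¹ * c)⁻¹
  rc' : ρ (a⁻¹ * c) = a

variable [Finite S]

theorem Big.invsB (H : Big F R a b z j w c) {s : Ω} (hs : s ∈ C S w) (h : s * a * s⁻¹ = a⁻¹) (p q : ℤ) :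
    s * (a ^ p * c ^ q) * s⁻¹ = (a ^ p * c ^ q)⁻¹ := by
  simpa using H.same' hs (l := -1) (by simpa using h) p q

theorem Rho.exists_eta (H : Rho F R a b z j w c ρ) {s : Ω} (hs : s ∈ C S w) (h : s * a * s⁻¹ = a⁻¹) :
    ∃ ρ η, Eta F R a b z j w c ρ η := by
  obtain ⟨η, h1, h2, h3, h4⟩ := H.exK' hs h ((cji h).trans (inv_inv _))
  obtain ⟨α, ho, v1, v2, v3⟩ := H.vals
  have m3 : Mor F (C S w) (ρ ∘ ρ ∘ ρ) := H.mor.comp (H.mor.comp H.mor fun x => H.rC) fun x hx => H.rC (H.rC hx)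
  obtain ⟨s', hs', e⟩ := H.inner m3 (by simp only [Function.comp, H.rz, H.rw', H.rwz])
    (by simp only [Function.comp, H.rz, H.rw', H.rwz])
  have e1 := e a H.aC
  simp only [Function.comp] at e1
  rw [v1, H.mor.map_zpow H.cC, v2, ← zpow_mul, H.mor.map_zpow H.c'C, v3, ← zpow_mul] at e1
  have o2 : Even (α * α + α) := (ho.mul ho).add_odd ho
  have o3 : Even (α * α - α) := (ho.mul ho).sub_odd ho
  have ec : η * c * η⁻¹ = c⁻¹ := by simpa using H.invsB h1 h2 0 1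
  rcases H.lam2 hs' with k | k
  · rw [mc k, ← zpow_one a, ← zpow_mul, one_mul, eq_iff H.oa] at e1
    have k1 : 8 * 2 ^ j ∣ α - -1 := dvd8 o3.add_one.neg (by convert e1 using 1; ring)
    exact ⟨ρ, η, H, h1, h2, h4, h3, by rw [v2, (eq_iff H.oc').2 k1, zpow_neg_one],
      by rw [v3, (eq_iff H.oa (y := 1)).2 (by simpa using (dvd_neg.2 k1).trans (Dvd.intro 1 (by ring))), zpow_one]⟩
  · rw [k, ← zpow_neg_one, eq_iff H.oa] at e1
    have k1 : 8 * 2 ^ j ∣ α - 1 := dvd8 o2.add_one.neg (by convert e1 using 1; ring)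
    have eS := C_le _ h1
    have ew := mc (mem_C.1 h1).2.symm
    refine ⟨cj η ∘ ρ, η, ⟨H.toBig, (mor_cj F le_rfl eS).comp H.mor fun x hx => C_le _ (H.rC hx), ?_, ?_⟩, h1, h2, h4,
      ?_, ?_, ?_⟩ <;> rw [Function.comp, cj_apply]
    · rw [H.rz, ew]
    · rw [H.rw', cjm ew (mc (H.zc eS).symm)]
    · rw [h3, mul_inv_cancel_right]
    · rw [v2, (eq_iff H.oc').2 k1, zpow_one]
      simpa using H.invsB h1 h2 (-1) 1
    · rw [v3, (eq_iff H.oa (y := -1)).2 (by simpa using (dvd_neg.2 k1).trans (Dvd.intro 1 (by ring))), zpow_neg_one,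
        cji h2, inv_inv]

namespace Eta

variable (H : Eta F R a b z j w c ρ η)
include H

theorem ec : η * c * η⁻¹ = c⁻¹ := by simpa using H.invsB H.eC H.ea 0 1

theorem ec' : η * (a⁻¹ * c) * η⁻¹ = (a⁻¹ * c)⁻¹ := by simpa using H.invsB H.eC H.ea (-1) 1

theorem ra' : ρ a = c⁻¹ := by
  have := H.mor.map_mul H.cC (inv_mem H.c'C)
  rw [H.mor.map_inv H.c'C, H.rc, H.rc', show c * (a⁻¹ * c)⁻¹ = a by group] at this
  rw [this, mul_inv_rev, inv_inv, mul_inv_cancel_right]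

theorem et : η * ta a j w * η⁻¹ = (ta a j w)⁻¹ := by
  rw [← H.dt, H.dz]; exact H.invsB H.eC H.ea _ _

theorem exists_shift : ∃ x : ℤ, Commute η (a ^ x * b * (ta a j w)⁻¹) := by
  obtain ⟨i, hi⟩ := H.actb (C_le _ H.eC)
  have tS := H.tS'
  have tc := H.tc
  have tai := H.tai
  have tw : b * (ta a j w)⁻¹ * w * (b * (ta a j w)⁻¹)⁻¹ = w * z := cjc (mc H.wt'.inv_right.symm) H.bw
  have h1 : η * (b * (ta a j w)⁻¹) * η⁻¹ = a ^ (i + 4 * 2 ^ j) * (b * (ta a j w)⁻¹) := by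
    rw [cjm hi (cji H.et), inv_inv, zpow_add, H.hz, H.tinv, mul_assoc _ z, (H.zc (mul_mem H.bS (mul_mem H.tS H.zS))).eq,
      mul_assoc b, mul_assoc _ z, H.z2, mul_one, mul_assoc]
  simp only [mul_assoc _ b]
  generalize b * (ta a j w)⁻¹ = t at *
  generalize i + 4 * 2 ^ j = m at h1
  have tz' := mc (H.zc tS).symm
  have tw' : t * (w * z) * t⁻¹ = w := by rw [cjm tw tz', mul_assoc, H.z2, mul_one]
  have h2 : t * η * t⁻¹ = a ^ (-m) * η := by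
    rw [zpow_neg, eq_inv_mul_iff_mul_eq, ← mul_assoc, ← mul_assoc, ← h1]; group
  have m1 : Mor F (C S w) (cj t ∘ ρ) := (mor_cj F le_rfl tS).comp H.mor fun x hx => C_le _ (H.rC hx)
  obtain ⟨s, hs, e⟩ := H.inner (m1.comp m1 fun x hx => H.Cn tS (H.rC hx))
    (by simp only [Function.comp, cj_apply, H.rz, tw, H.rwz, tz']) (by simp only [Function.comp, cj_apply, H.rw', tw'])
  have e1 := e η H.eC
  simp only [Function.comp, cj_apply] at e1
  rw [H.re, h2, H.mor.map_mul (zpow_mem H.aC _) H.eC, H.mor.map_zpow H.aC, H.ra', H.re, inv_zpow', neg_neg,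
    cjm (cjz tc m) h2, H.acz] at e1
  obtain ⟨p, q, e2⟩ : ∃ p q : ℤ, s * η * s⁻¹ = a ^ p * c ^ q * η * (a ^ p * c ^ q)⁻¹ := by
    rcases H.lam2 hs with k | k
    · obtain ⟨p, q, rfl⟩ := H.memB hs k
      exact ⟨p, q, rfl⟩
    · obtain ⟨p, q, e2⟩ := H.memB (mul_mem hs H.eC) (cm (cjc H.ea ((cji k).trans (inv_inv _))))
      exact ⟨p, q, by rw [← e2]; group⟩
  rw [e2, ← H.invsB H.eC H.ea p q, inv_of_sq H.e2] at e1
  have e3 : a ^ (-m + -m) * c ^ m = a ^ (p + p) * c ^ (q + q) := by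
    rw [zpow_add, zpow_add, zpow_add, mul_assoc, ← (H.ca.zpow_zpow m (-m)).eq, mul_assoc (a ^ p),
      ← mul_assoc (a ^ p) (c ^ q), ← (H.ca.zpow_zpow q p).eq, ← mul_left_inj η]
    have := H.e2
    calc _ = a ^ (-m) * c ^ m * (a ^ (-m) * η) := by group
      _ = a ^ p * c ^ q * (η * η) * (a ^ p * c ^ q) * η := e1.trans (by group)
      _ = _ := by rw [this, mul_one, mul_assoc (a ^ p) (c ^ q), ← mul_assoc (c ^ q), mul_assoc (a ^ p)]
  obtain ⟨r, hr⟩ := (H.indep e3).2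
  refine ⟨q + 4 * 2 ^ j * r, cm ?_⟩
  rw [cjm (inz H.ea _) h1, ← mul_assoc, ← zpow_add]
  congr 2
  linear_combination hr

theorem shift (x : ℤ) : Eta F R a (a ^ x * b) z j w c ρ η :=
  ⟨H.toRho.shift x, H.eC, H.ea, H.e2, H.re, H.rc, H.rc'⟩

theorem mod (ht : Commute η (b * (ta a j w)⁻¹)) : ∃ φ, Mod F (j + 1) φ := by
  have cc : Commute c (a⁻¹ * c) := H.ca.inv_right.mul_right (Commute.refl c)
  obtain ⟨φ, hφ⟩ := exists_hom' (k := 2 ^ (j + 1)) (by positivity) (a := c) (b := a⁻¹ * c) (s := η)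
    (by rw [show 4 * 2 ^ (j + 1) = 8 * 2 ^ j by ring, ← H.oc, pow_orderOf_eq_one]) cc H.e2 H.t2 ht.eq H.ec H.ec' H.tc
  have tS := H.tS'
  have tC := H.tC
  have t2 := H.t2
  have tai := H.tai
  have tb : Commute (b * (ta a j w)⁻¹) b := (Commute.refl b).mul_left (Hyp.Tc H.tT H.bR).inv_left
  have td : Commute (b * (ta a j w)⁻¹) (a⁻¹ * c * c) := by
    rw [← H.dt]; exact (Hyp.Tc H.dT H.bR).symm.mul_left ((Commute.refl _).zpow_left _).inv_left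
  have bt : ta a j w * (b * (ta a j w)⁻¹) = b := by rw [← mul_assoc]; exact mc (Hyp.Tc H.tT H.bR)
  generalize b * (ta a j w)⁻¹ = t at *
  have eS := C_le _ H.eC
  have h0 : hn (j + 1) = ((2 * 2 ^ j : ℤ) : Zn (j + 1)) := by simp only [hn]; push_cast; ring
  have ac : ∀ x : ℤ, c ^ x * (a⁻¹ * c) ^ (-x) = a ^ x := fun x => by
    rw [H.acz, neg_neg, ← mul_assoc, (H.ca.zpow_zpow x x).eq]; group
  have v1 : ∀ x : ℤ, φ ⟨x, -x, false, false⟩ = a ^ x := fun x => by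
    rw [← Int.cast_neg, hφ, ac]; simp [bp]
  have vp : φ (pp (hn (j + 1))) = qi a j := by rw [h0]; exact v1 _
  have vq : φ (qq (hn (j + 1))) = ta a j w := by
    rw [h0, hφ, ← cc.mul_zpow, cc.eq, H.dt]; simp [bp]
  have vz : φ (zz (hn (j + 1))) = z := by
    rw [← H.tt, ← vq, ← map_mul]; congr 1; g2simp; constructor <;> ring
  have vt : φ (tt _) = t := by simpa [bp] using hφ 0 0 false true
  have ve : φ ⟨0, 0, true, false⟩ = η := by simpa [bp] using hφ 0 0 true false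
  have vc : φ ⟨1, 0, false, false⟩ = c := by simpa [bp] using hφ 1 0 false false
  have vb : φ (w2 (hn (j + 1))) = b := by
    rw [← bt, ← vq, ← vt, ← map_mul]; congr 1; g2simp
  have vw : φ (w1 (hn (j + 1))) = η * t * qi a j := by
    rw [← vp, ← vt, ← ve, ← map_mul, ← map_mul]; congr 1; g2simp
  have bpC : ∀ e, bp η e ∈ C S w ∧ ρ (bp η e) = bp η e := by
    rintro (_ | _)
    exacts [⟨one_mem _, H.mor.map_one⟩, ⟨H.eC, H.re⟩]
  have pm : ∀ {v g}, g = φ v ∨ g = (φ v)⁻¹ → ∃ v', Pm v' v ∧ g = φ v' := by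
    rintro v _ (rfl | rfl)
    exacts [⟨v, Or.inl rfl, rfl⟩, ⟨v⁻¹, Or.inr rfl, (map_inv φ v).symm⟩]
  refine ⟨φ, H.sat, injective_of (vz.trans_ne H.z1), le_antisymm ?_ fun s hs => ?_, fun P f hf h1 h2 v hv hP => ?_,
    ⟨_, ρ, H.mor, ?_⟩, ?_, ?_⟩
  · rintro _ ⟨⟨x, y, e, d⟩, rfl⟩
    obtain ⟨x, rfl⟩ := ZMod.intCast_surjective x
    obtain ⟨y, rfl⟩ := ZMod.intCast_surjective y
    rw [hφ]
    refine mul_mem (mul_mem (zpow_mem H.cS _) (zpow_mem (C_le _ H.c'C) _)) (mul_mem (C_le _ (bpC e).1) ?_)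
    cases d
    exacts [one_mem _, tS]
  · have k1 : ∀ s ∈ C S w, Commute s a → s ∈ φ.range := fun s hs k => by
      obtain ⟨p, q, rfl⟩ := H.memB hs k
      exact φ.range.mul_mem ⟨_, v1 p⟩ (φ.range.zpow_mem ⟨_, vc⟩ q)
    have k2 : ∀ s ∈ C S w, s ∈ φ.range := fun s hs => (H.lam2 hs).elim (k1 s hs) fun k => by
      simpa using mul_mem (k1 _ (mul_mem hs H.eC) (cm (cjc H.ea ((cji k).trans (inv_inv _)))))
        (inv_mem (⟨_, ve⟩ : η ∈ φ.range))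
    by_cases h : s ∈ C S w
    · exact k2 s h
    · simpa using mul_mem (k2 _ (H.out hs tS h tC)) (inv_mem (⟨_, vt⟩ : t ∈ φ.range))
  · rw [vz] at h1 h2
    have k : φ v ∈ R := by
      rcases (cy _).Q2_cases hv with ⟨x, rfl⟩ | ⟨x, rfl⟩ <;> obtain ⟨x, rfl⟩ := ZMod.intCast_surjective x
      · rw [v1]; exact H.aR x
      · rw [map_mul, v1, vb]; exact H.abR x
    obtain ⟨p, e | e⟩ := (H.mem _).1 (H.hZ hf h1 h2 hP k)
    · exact ⟨_, (cy _).a2_mem p, e.trans (v1 p).symm⟩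
    · exact ⟨_, mul_mem ((cy _).a2_mem p) (cy _).w2_mem, by rw [map_mul, v1, vb, e]⟩
  · rintro ⟨x, y, e, d⟩ (rfl : d = false)
    obtain ⟨x, rfl⟩ := ZMod.intCast_surjective x
    obtain ⟨y, rfl⟩ := ZMod.intCast_surjective y
    have k1 := zpow_mem H.cC x
    have k2 := zpow_mem H.c'C y
    rw [rh, ← Int.cast_neg, ← Int.cast_sub, hφ, hφ, show bp t false = 1 from rfl, mul_one,
      H.mor.map_mul (mul_mem k1 k2) (bpC e).1, (bpC e).2, H.mor.map_mul k1 k2, H.mor.map_zpow H.cC,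
      H.mor.map_zpow H.c'C, H.rc, H.rc', ← ac y, sub_eq_add_neg, zpow_add, inv_zpow', ← mul_assoc,
      ← (cc.zpow_zpow y (-x)).eq, mul_assoc (c ^ y)]
    exact ⟨mul_mem (mul_mem k1 k2) (bpC e).1, rfl⟩
  · obtain ⟨ψ, hψ, e1, e2⟩ := H.toV (H.tz tS tC t2 H.dT.1 td H.d4) (fun e => tC (e ▸ H.zC')) H.mor H.rz H.rw' H.bR tb
      (by simpa using H.r_ne 0)
    have hb : b ∈ C S t := mem_C.2 ⟨H.bS, tb⟩
    obtain ⟨v, h1, h2⟩ := pm (vp ▸ H.imgA hψ e1 (self_mem_C tS) hb e2 H.bR tb H.bb)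
    exact ⟨v, h1, isConjElt_iff.2 ⟨_, ψ, hψ, vb ▸ hb, by rw [vb, h2]⟩⟩
  · have uS := mul_mem eS tS
    have uC : η * t ∉ C S w := fun h => tC (by simpa using mul_mem (inv_mem H.eC) h)
    have ua : Commute (η * t) a := cm (cjc tai ((cji H.ea).trans (inv_inv _)))
    obtain ⟨ψ, hψ, e1, e2⟩ := H.toV (H.tz uS uC (by
      rw [mul_assoc, ← mul_assoc t, ← ht.eq, mul_assoc, t2, mul_one, H.e2]) H.aS ua (four_ne H.oa))
      (fun e => uC (e ▸ H.zC')) H.mor H.rz H.rw' H.aR' ua H.a_ne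
    have ui : Commute (η * t) (qi a j) := ua.zpow_right _
    have hi : qi a j ∈ C S (η * t) := mem_C.2 ⟨H.iS, ui⟩
    obtain ⟨v, h1, h2⟩ := pm (vq ▸ H.vi e2 (H.imgA hψ e1 (self_mem_C uS) hi e2 H.iR ui H.ii))
    exact ⟨v, h1, isConjElt_iff.2 ⟨_, ψ, hψ, vw ▸ mul_mem (self_mem_C uS) hi, by
      rw [vw, hψ.map_mul (self_mem_C uS) hi, h2]⟩⟩

end Eta

theorem Rho.mod (H : Rho F R a b z j w c ρ) {s : Ω} (hs : s ∈ C S w) (h : s * a * s⁻¹ = a⁻¹) :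
    ∃ φ, Mod F (j + 1) φ := by
  obtain ⟨ρ, η, K⟩ := H.exists_eta hs h
  obtain ⟨x, hx⟩ := K.exists_shift
  exact (K.shift x).mod hx

theorem Hyp.cases (H : Hyp F R a b z j) (hc : Nat.card R = 16 * 2 ^ j) {u : Ω} (hu : Cj F z u) (uz : u ≠ z) :
    (∃ P : Subgroup Ω, P ≤ S ∧ IsQuasiDihedral P ∧ F.StronglyClosed P) ∨ IsWreathed S ∨ ∃ φ, Mod F (j + 1) φ := by
  by_cases hN : ∀ u x, Rel F R z u x → u ≠ z → x = 1 ∨ x = u
  · exact Or.inl (H.two hN hc hu uz)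
  push Not at hN
  obtain ⟨u, x, h1, h2, h3, h4⟩ := hN
  obtain ⟨w, c, K⟩ := H.exists_big h1 h2 h3 h4
  obtain ⟨ρ, r1, r2, r3⟩ := K.exists_rho
  have L : Rho F R a b z j w c ρ := ⟨K, r1, r2, r3⟩
  by_cases h : ∀ s ∈ C S w, Commute s a
  · exact Or.inr (Or.inl (L.wreathed h))
  push Not at h
  obtain ⟨s, hs, k⟩ := h
  exact Or.inr (Or.inr (L.mod hs ((L.lam2 hs).resolve_left k)))

end CL.WQ
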