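/- A weakly closed quaternion subgroup in a simple system: the three cases. -/
import Cfsg.Agent.FUS.WQ.G
import Cfsg.Agent.FUS.OpRes
import Cfsg.Agent.FUS.CenterFus

set_option autoImplicit false

namespace CL.WQ

open Cfsg CL.Fus Subgroup Cfsg.FusionSystem

universe u

variable {Ω : Type u} [Group Ω] {S : Subgroup Ω} {F : FusionSystem S} {R : Subgroup Ω}

theorem exists_gens {j : ℕ} (e : R ≃* QuaternionGroup (2 ^ (j + 2))) : ∃ a b : Ω, orderOf a = 8 * 2 ^ j ∧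
    b * b = a ^ (4 * 2 ^ j : ℤ) ∧ b * a * b⁻¹ = a⁻¹ ∧ (∀ x, x ∈ R ↔ ∃ i : ℤ, x = a ^ i ∨ x = a ^ i * b) ∧
    Nat.card R = 16 * 2 ^ j := by
  have : NeZero (2 ^ (j + 2)) := ⟨by positivity⟩
  have : NeZero (2 * 2 ^ (j + 2)) := ⟨by positivity⟩
  let f := R.subtype.comp e.symm.toMonoidHom
  have hf : Function.Injective f := R.subtype_injective.comp e.symm.injective
  have p : ∀ i, f (.a i) = f (.a 1) ^ (i.val : ℤ) := fun i => by
    rw [zpow_natCast, ← map_pow, QuaternionGroup.a_one_pow, ZMod.natCast_zmod_val]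
  refine ⟨f (.a 1), f (.xa 0), ?_, ?_, ?_, fun x => ⟨fun hx => ?_, ?_⟩, ?_⟩
  · rw [orderOf_injective f hf, QuaternionGroup.orderOf_a_one]; ring
  · rw [show (4 * 2 ^ j : ℤ) = (2 ^ (j + 2) : ℕ) by push_cast; ring, zpow_natCast, ← map_pow, ← map_mul,
      QuaternionGroup.a_one_pow, QuaternionGroup.xa_mul_xa]; simp
  · rw [mul_inv_eq_iff_eq_mul, eq_inv_mul_iff_mul_eq, ← map_mul, ← map_mul]; simp
  · obtain ⟨y, rfl⟩ : ∃ y, f y = x := ⟨e ⟨x, hx⟩, by simp [f]⟩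
    rcases y with i | i
    · exact ⟨_, Or.inl (p i)⟩
    · exact ⟨_, Or.inr (by rw [← p (-i), ← map_mul]; simp)⟩
  · rintro ⟨i, rfl | rfl⟩
    exacts [zpow_mem (e.symm _).2 i, mul_mem (zpow_mem (e.symm _).2 i) (e.symm _).2]
  · rw [Nat.card_congr e.toEquiv, Nat.card_eq_fintype_card, QuaternionGroup.card]; ring

theorem cases_of_simple [Finite S] (hS : IsPGroup 2 S) (hF : F.IsSimple 2) (hRS : R ≤ S) {j : ℕ}
    (e : R ≃* QuaternionGroup (2 ^ (j + 2))) (hW : F.WeaklyClosed R)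
    (hC : ∀ y ∈ centralizerIn S R, orderOf y = 2 → ∀ C : FusionSystem (centralizerIn S (zpowers y)),
      F.IsCentralizerSystem (zpowers y) C → C.StronglyClosed R) : 2 < Nat.card S ∧
    ((∃ P : Subgroup Ω, P ≤ S ∧ IsQuasiDihedral P ∧ F.StronglyClosed P) ∨ IsWreathed S ∨ ∃ φ, Mod F (j + 1) φ) := by
  obtain ⟨a, b, oa, bb, ba, mem, hc⟩ := exists_gens e
  have h2 : 2 < Nat.card S := by
    have := Nat.le_of_dvd Nat.card_pos (card_dvd_of_le hRS)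
    have : 0 < 2 ^ j := by positivity
    omega
  have aS : a ∈ S := hRS ((mem a).2 ⟨1, Or.inl (zpow_one a).symm⟩)
  have wc : ∀ P f, Mor F P f → R ≤ P → ∀ x ∈ R, f x ∈ R := fun P f hf hR x hx =>
    ((weaklyClosed_iff.1 hW).2 f (hf.mono hR)).le (mem_img_of_mem f hx)
  have z1 := half_ne oa
  have zc : ∀ s ∈ S, Commute (a ^ (4 * 2 ^ j : ℤ)) s := fun s hs => by
    have h1 : s * a * s⁻¹ ∈ R := wc S _ (mor_cj F le_rfl hs) hRS a ((mem a).2 ⟨1, Or.inl (zpow_one a).symm⟩)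
    have h3 : orderOf (s * a * s⁻¹) = 8 * 2 ^ j := by rw [← oa]; exact (MulAut.conj s).orderOf_eq a
    obtain ⟨i, h | h⟩ := (mem _).1 h1
    · exact (cm (by rw [cjz h, half_odd oa (odd_of' oa h3 h)])).symm
    · refine absurd ?_ (four_ne h3)
      have : a ^ i * b * (a ^ i * b) = a ^ (4 * 2 ^ j : ℤ) := by
        rw [← bb, mul_assoc, ← mul_assoc b, mul_inv_eq_iff_eq_mul.1 (cjz ba i)]; group
      rw [h, this, half_sq oa]
  obtain ⟨u, hu, uz⟩ : ∃ u, Cj F (a ^ (4 * 2 ^ j : ℤ)) u ∧ u ≠ a ^ (4 * 2 ^ j : ℤ) := by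
    by_contra! h
    refine h2.ne' (CL.Rk2.card_eq_of_simple_of_normal hS hF (normal_of_autInv hS hF.1 fun P hP => ?_)
      (mt zpowers_eq_bot.1 z1))
    have hc := (frc_of_top_or_essential hS hF.1 hP).2.1
    have hz : a ^ (4 * 2 ^ j : ℤ) ∈ P := hc.2 P (isConj_refl F hc.1) ⟨zpow_mem aS _, fun s hs => (zc s (hc.1 hs)).eq.symm⟩
    refine ⟨zpowers_le.2 hz, fun α hα y _ hy => ?_⟩
    obtain ⟨n, rfl⟩ := hy
    have hm := mor_autFun hc.1 hα
    simp only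
    rw [hm.map_zpow hz, h _ (Mor.cj' hm hz)]
    exact ⟨n, rfl⟩
  refine ⟨h2, Hyp.cases ⟨hS, hF.1, hRS, oa, rfl, bb, ba, mem, wc, fun y hy y2 y1 P f hf hP e x hx hR => ?_, ?_⟩ hc hu uz⟩
  · have := stronglyClosed_iff.1 (hC y hy (orderOf_eq_prime (by rwa [pow_two]) y1) _
      (isCentralizerSystem_centSys F (zpowers_le.2 hy.1)))
    refine this.2 _ f (mor_centSys.2 (CMor.of_ext inf_le_right hf inf_le_left (zpowers_le.2 hP) ?_)) x ⟨hx, this.1 hR⟩ hR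
    rintro _ ⟨n, rfl⟩
    simp only
    rw [hf.map_zpow hP, e]
  · obtain ⟨D, hD⟩ := exists_isPResidual hS hF.1
    rcases hF.2.2 _ D (isNormalIn_of_isPResidual hS hF.1 hD) with h | h
    · obtain ⟨P, f, hf, hz, rfl⟩ := hu
      rw [(hyperfocal_eq_bot_iff hS hF.1).1 h] at hf
      obtain ⟨-, g, hg, e⟩ := mor_inner_iff.1 hf
      exact absurd ((e hz).trans (mc (zc g hg).symm)) uz
    · exact (focal_eq_top_iff hS hF.1).2 h.1

end CL.WQ
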