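/- Realising all automorphisms of a quaternion group of order eight: the abstract argument. -/
import Cfsg.Agent.FUS.WQ.Def2
import Cfsg.Agent.FUS.WQ.D

set_option autoImplicit false
set_option linter.unusedSectionVars false
set_option linter.unusedVariables false

namespace CL.WQ

open Cfsg CL.Fus CL.G2S Subgroup Cfsg.FusionSystem

universe u

variable {Ω : Type u} [Group Ω] {S : Subgroup Ω} {F : FusionSystem S} {Y : Subgroup Ω} {x y s u w : Ω} {j : ℕ}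

theorem mem_pair (yy : y * y = x * x) (yx : y * x * y⁻¹ = x⁻¹) {v : Ω} (hv : v ∈ closure {x, y}) :
    ∃ k : ℤ, v = x ^ k ∨ v = x ^ k * y := by
  have h1 : ∀ k : ℤ, y * x ^ k = x ^ (-k) * y := fun k => mul_inv_eq_iff_eq_mul.1 (inz yx k)
  have h2 : y⁻¹ = x ^ (-2 : ℤ) * y := by rw [zpow_neg, zpow_two, ← yy]; group
  induction hv using closure_induction_left with
  | one => exact ⟨0, Or.inl (zpow_zero x).symm⟩
  | mul_left g hg v _ ih =>
    obtain ⟨k, rfl | rfl⟩ := ih <;> rcases hg with rfl | rfl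
    · exact ⟨1 + k, Or.inl (by group)⟩
    · exact ⟨-k, Or.inr (h1 k)⟩
    · exact ⟨1 + k, Or.inr (by group)⟩
    · exact ⟨-k + 2, Or.inl (by rw [← mul_assoc, h1, mul_assoc, yy, zpow_add, zpow_two])⟩
  | inv_mul_cancel g hg v _ ih =>
    obtain ⟨k, rfl | rfl⟩ := ih <;> rcases hg with rfl | rfl
    · exact ⟨-1 + k, Or.inl (by group)⟩
    · exact ⟨-2 + -k, Or.inr (by rw [h2, mul_assoc, h1]; group)⟩
    · exact ⟨-1 + k, Or.inr (by group)⟩
    · exact ⟨-k, Or.inl (by rw [h2, mul_assoc, ← mul_assoc g, h1, mul_assoc, yy]; group)⟩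

theorem Mor.pm {P : Subgroup Ω} {f : Ω → Ω} (h : Mor F P f) {a b : Ω} (hb : b ∈ P) (e : Pm a b) : Pm (f a) (f b) := by
  rcases e with rfl | rfl
  exacts [Or.inl rfl, Or.inr (h.map_inv hb)]

theorem pm_mem {P : Subgroup Ω} {a b : Ω} (hb : b ∈ P) (e : Pm a b) : a ∈ P := by
  rcases e with rfl | rfl
  exacts [hb, inv_mem hb]

theorem pm_comm {a b c : Ω} (e : Pm a b) (h : Commute c a) : Commute c b := by
  rcases e with rfl | rfl
  exacts [h, Commute.inv_right_iff.1 h]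

/-- the data: `⟨x, y⟩ ≅ Q₈`, `Y = ⟨u, w⟩` generalised quaternion and the centraliser of `⟨x, y⟩` -/
structure QD (F : FusionSystem S) (Y : Subgroup Ω) (x y s u w : Ω) (j : ℕ) : Prop where
  pS : IsPGroup 2 S
  sat : F.IsSaturated 2
  xS : x ∈ S
  yS : y ∈ S
  sS : s ∈ S
  yy : y * y = x * x
  yx : y * x * y⁻¹ = x⁻¹
  x2 : x * x ≠ 1
  sx : Commute s x
  sy : s * y * s⁻¹ = x * y
  cY : ∀ v, v ∈ Y ↔ v ∈ S ∧ Commute x v ∧ Commute y v
  sY : ∀ v ∈ Y, Commute s v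
  ou : orderOf u = 8 * 2 ^ j
  wu : w * u * w⁻¹ = u⁻¹
  ww : w * w * (w * w) = 1
  mem : ∀ v, v ∈ Y ↔ ∃ k : ℤ, v = u ^ k ∨ v = u ^ k * w
  nx : ∀ g ∈ S, Pm (g * x * g⁻¹) x

/-- the maps preserving both factors -/
def Pres (F : FusionSystem S) (X Y : Subgroup Ω) (f : Ω → Ω) : Prop :=
  Mor F (X ⊔ Y) f ∧ (∀ v ∈ X, f v ∈ X) ∧ ∀ v ∈ Y, f v ∈ Y

theorem Pres.mem {X : Subgroup Ω} {f : Ω → Ω} (h : Pres F X Y f) {v : Ω} (hv : v ∈ X ⊔ Y) : f v ∈ X ⊔ Y :=
  ((h.1.img_sup le_sup_left le_sup_right).trans_le (sup_le_sup (img_le_iff.2 h.2.1) (img_le_iff.2 h.2.2)))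
    (mem_img_of_mem f hv)

theorem Pres.comp {X : Subgroup Ω} {f g : Ω → Ω} (hg : Pres F X Y g) (h : Pres F X Y f) : Pres F X Y (g ∘ f) :=
  ⟨hg.1.comp h.1 fun _ => h.mem, fun v hv => hg.2.1 _ (h.2.1 v hv), fun v hv => hg.2.2 _ (h.2.2 v hv)⟩

namespace QD

variable (H : QD F Y x y s u w j)
include H

omit H in
theorem xX : x ∈ closure ({x, y} : Set Ω) := subset_closure (Or.inl rfl)

omit H in
theorem yX : y ∈ closure ({x, y} : Set Ω) := subset_closure (Or.inr rfl)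

theorem le : closure {x, y} ⊔ Y ≤ S :=
  sup_le ((closure_le _).2 (by rintro _ (rfl | rfl); exacts [H.xS, H.yS])) fun v hv => ((H.cY v).1 hv).1

theorem nxy : ¬ Commute y x := fun e => H.x2 (by rw [← eq_inv_iff_mul_eq_one, ← H.yx, mc e])

theorem szy (k : ℤ) : s ^ k * y * (s ^ k)⁻¹ = x ^ k * y := by
  simpa using trans_pow (i := 1) H.sx (by simpa using H.sy) k

theorem x4 : x * x * (x * x) = 1 := by
  rw [← eq_inv_iff_mul_eq_one, mul_inv_rev, ← cjm H.yx H.yx, ← H.yy]; group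

theorem xy : x * y * x⁻¹ = y⁻¹ := by
  have := (cji H.yx).trans (inv_inv x)
  rw [eq_inv_iff_mul_eq_one, ← H.x4]
  nth_rw 2 [← H.yy]
  nth_rw 4 [← this]
  group

theorem pres {f : Ω → Ω} (hf : Mor F (closure {x, y} ⊔ Y) f) (h1 : f x ∈ closure {x, y}) (h2 : f y ∈ closure {x, y})
    [Finite S] : Pres F (closure {x, y}) Y f := by
  have k : ∀ v ∈ closure ({x, y} : Set Ω), f v ∈ closure {x, y} := fun v hv => by
    obtain ⟨k, rfl | rfl⟩ := mem_pair H.yy H.yx hv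
    · rw [hf.map_zpow (mem_sup_left xX)]; exact zpow_mem h1 k
    · rw [hf.map_mul (zpow_mem (mem_sup_left xX) k) (mem_sup_left yX), hf.map_zpow (mem_sup_left xX)]
      exact mul_mem (zpow_mem h1 k) h2
  have k2 : ∀ v ∈ Y, ∀ g ∈ closure ({x, y} : Set Ω), Commute g (f v) := fun v hv g hg => by
    obtain ⟨g, hg', rfl⟩ := (hf.mono le_sup_left).mem_img.1 (((hf.mono le_sup_left).img_eq_self k).ge hg)
    refine Mor.comm hf (mem_sup_left hg') (mem_sup_right hv) ?_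
    obtain ⟨-, c1, c2⟩ := (H.cY v).1 hv
    obtain ⟨k, rfl | rfl⟩ := mem_pair H.yy H.yx hg'
    exacts [c1.zpow_left k, (c1.zpow_left k).mul_left c2]
  exact ⟨hf, k, fun v hv => (H.cY _).2 ⟨hf.map_mem (mem_sup_right hv), k2 v hv x xX, k2 v hv y yX⟩⟩

theorem uY : u ∈ Y := (H.mem u).2 ⟨1, Or.inl (zpow_one u).symm⟩

theorem wY : w ∈ Y := (H.mem w).2 ⟨0, Or.inr (by simp)⟩

theorem pw0 {X : Subgroup Ω} {f : Ω → Ω} (h : Pres F X Y f) :
    ∃ l m : ℤ, f u = u ^ (1 + 2 ^ (0 + 1) * l) ∧ f w = u ^ (2 ^ 0 * m) * w := by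
  have hu : u ∈ X ⊔ Y := mem_sup_right H.uY
  have hw : w ∈ X ⊔ Y := mem_sup_right H.wY
  have o := (h.1.orderOf_eq hu).trans H.ou
  obtain ⟨l, e | e⟩ := (H.mem _).1 (h.2.2 u H.uY)
  · obtain ⟨t, rfl⟩ := odd_of' H.ou o e
    obtain ⟨m, e' | e'⟩ := (H.mem _).1 (h.2.2 w H.wY)
    · have : w * u = u * w := h.1.injOn (mul_mem hw hu) (mul_mem hu hw) (by
        rw [h.1.map_mul hw hu, h.1.map_mul hu hw, e, e']; group)
      refine absurd ?_ (four_ne H.ou)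
      rw [show u * u = 1 by rw [← eq_inv_iff_mul_eq_one, ← H.wu, this, mul_inv_cancel_right], mul_one]
    · exact ⟨t, m, by rw [e]; congr 1; ring, by simpa using e'⟩
  · refine absurd ?_ (four_ne o)
    rw [e, show u ^ l * w * (u ^ l * w) = w * w by
      rw [mul_assoc, ← mul_assoc w, mul_inv_eq_iff_eq_mul.1 (inz H.wu l)]; group, H.ww]

theorem pws {X : Subgroup Ω} {f : Ω → Ω} (h : Pres F X Y f) {N : ℕ}
    (e : ∃ l m : ℤ, f u = u ^ (1 + 2 ^ (N + 1) * l) ∧ f w = u ^ (2 ^ N * m) * w) :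
    ∃ l m : ℤ, (f ∘ f) u = u ^ (1 + 2 ^ (N + 1 + 1) * l) ∧ (f ∘ f) w = u ^ (2 ^ (N + 1) * m) * w := by
  have hu : u ∈ X ⊔ Y := mem_sup_right H.uY
  obtain ⟨l, m, e1, e2⟩ := e
  refine ⟨l + 2 ^ N * l * l, m * (1 + 2 ^ N * l), ?_, ?_⟩ <;> rw [Function.comp]
  · rw [e1, h.1.map_zpow hu, e1, ← zpow_mul]; congr 1; ring
  · rw [e2, h.1.map_mul (zpow_mem hu _) (mem_sup_right H.wY), h.1.map_zpow hu, e1, e2, ← zpow_mul, ← mul_assoc,
      ← zpow_add]; congr 2; ring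

variable [Finite S]

theorem cjP {g : Ω} (hg : g ∈ S) (h1 : g * x * g⁻¹ ∈ closure {x, y}) (h2 : g * y * g⁻¹ ∈ closure {x, y}) :
    Pres F (closure {x, y}) Y (cj g) := H.pres (mor_cj F H.le hg) h1 h2

theorem cjs' (k : ℤ) : Pres F (closure {x, y}) Y (cj (s ^ k)) :=
  H.cjP (zpow_mem H.sS k) (by rw [mc (H.sx.zpow_left k)]; exact xX) (by rw [H.szy]; exact mul_mem (zpow_mem xX k) yX)

theorem exists_sigma {χ : Ω → Ω} (hχ : Mor F (closure {x, y} ⊔ Y) χ) (e1 : χ x = y) (e2 : Pm (χ y) x) :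
    ∃ σ, Pres F (closure {x, y}) Y σ ∧ σ x = y ∧ ∀ v ∈ Y, σ v = v := by
  have hx : x ∈ closure {x, y} ⊔ Y := mem_sup_left xX
  have hy : y ∈ closure {x, y} ⊔ Y := mem_sup_left yX
  have key : ∀ N : ℕ, ∃ f, Pres F (closure {x, y}) Y f ∧ (Pm (f x) (x * y) ∧ Pm (f (x * y)) y ∧ Pm (f y) x) ∧
      ∃ l m : ℤ, f u = u ^ (1 + 2 ^ (2 * N + 1) * l) ∧ f w = u ^ (2 ^ (2 * N) * m) * w := fun N => by
    induction N with
    | zero =>
      have p := (H.cjs' 1).comp (H.pres hχ (e1 ▸ yX) (pm_mem xX e2))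
      have f1 : (cj (s ^ (1 : ℤ)) ∘ χ) x = x * y := by rw [Function.comp, e1, zpow_one]; exact H.sy
      have f2 : Pm ((cj (s ^ (1 : ℤ)) ∘ χ) y) x := by
        have := e2.conj s
        rwa [mc H.sx, ← zpow_one s] at this
      refine ⟨_, p, ⟨Or.inl f1, ?_, f2⟩, H.pw0 p⟩
      rw [p.1.map_mul hx hy, f1]
      rcases f2 with f2 | f2 <;> rw [f2]
      · exact Or.inl (by rw [mul_assoc, mul_inv_eq_iff_eq_mul.1 H.yx, mul_inv_cancel_left])
      · exact Or.inr H.xy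
    | succ N ih =>
      obtain ⟨f, p, ⟨a1, a2, a3⟩, h⟩ := ih
      have b1 := (Mor.pm p.1 (mul_mem hx hy) a1).trans a2
      have b2 := (Mor.pm p.1 hy a2).trans a3
      have b3 := (Mor.pm p.1 hx a3).trans a1
      have q := p.comp p
      exact ⟨_, q.comp q, ⟨(Mor.pm q.1 hy b1).trans b3, (Mor.pm q.1 hx b2).trans b1,
        (Mor.pm q.1 (mul_mem hx hy) b3).trans b2⟩, H.pws q (H.pws p h)⟩
  obtain ⟨f, p, ⟨a1, -⟩, l, m, e3, e4⟩ := key (j + 2)
  have e5 : f u = u := by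
    rw [e3, ← zpow_one u, ← zpow_mul, one_mul, eq_iff H.ou]; exact Dvd.intro (2 ^ (j + 2) * l) (by ring)
  have e6 : f w = w := by rw [e4, (one_iff H.ou).2 (Dvd.intro (2 ^ (j + 1) * m) (by ring)), one_mul]
  obtain ⟨k, e7⟩ : ∃ k : ℤ, f x = x ^ k * y := by
    obtain ⟨k, e | e⟩ := mem_pair H.yy H.yx (p.2.1 x xX)
    · have := pm_comm a1 (c := x) (e ▸ Commute.self_zpow x k)
      exact absurd (by simpa using (Commute.refl x).inv_right.mul_right this) fun h : Commute x y => H.nxy h.symm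
    · exact ⟨k, e⟩
  refine ⟨_, (H.cjs' (-k)).comp p, by rw [Function.comp, e7, ← H.szy, cj_apply]; group, fun v hv => ?_⟩
  have hu : u ∈ closure {x, y} ⊔ Y := mem_sup_right H.uY
  rw [Function.comp, show f v = v by
    obtain ⟨k, rfl | rfl⟩ := (H.mem v).1 hv
    · rw [p.1.map_zpow hu, e5]
    · rw [p.1.map_mul (zpow_mem hu k) (mem_sup_right H.wY), p.1.map_zpow hu, e5, e6]]
  exact mc ((H.sY v hv).zpow_left _)

theorem full_of {σ : Ω → Ω} (p : Pres F (closure {x, y}) Y σ) (e : σ x = y) (hY : ∀ v ∈ Y, σ v = v) :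
    Full F (closure {x, y}) Y := by
  intro β h1 h2 h3
  have nc : ¬ Commute (β y) (β x) := fun c => H.nxy (h3 (mul_mem yX xX) (mul_mem xX yX) (by
    rw [h1.map_mul yX xX, h1.map_mul xX yX, c.eq]))
  have hx : x ∈ closure {x, y} ⊔ Y := mem_sup_left xX
  have hy : y ∈ closure {x, y} ⊔ Y := mem_sup_left yX
  obtain ⟨f, q, e1, e2⟩ : ∃ f, Pres F (closure {x, y}) Y f ∧ f x = β x ∧ ∀ v ∈ Y, f v = v := by
    obtain ⟨k, e1 | e1⟩ := mem_pair H.yy H.yx (h2 x xX)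
    · obtain ⟨t, rfl | rfl⟩ := Int.even_or_odd' k
      · refine absurd ?_ nc
        rw [e1, zpow_mul, zpow_two]
        obtain ⟨m, e2 | e2⟩ := mem_pair H.yy H.yx (h2 y yX) <;> rw [e2] <;> refine Commute.zpow_right ?_ t
        · exact (((Commute.refl x).mul_right (Commute.refl x))).zpow_left m
        · exact ((((Commute.refl x).mul_right (Commute.refl x))).zpow_left m).mul_left
            (H.yy ▸ (Commute.refl y).mul_right (Commute.refl y))
      · have h4 : x ^ (4 : ℤ) = 1 := by rw [← H.x4, ← zpow_two, ← zpow_two, ← zpow_mul]; rfl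
        obtain ⟨r, rfl | rfl⟩ := Int.even_or_odd' t
        · exact ⟨id, H.pres (mor_id F H.le) xX yX, by
            rw [e1, show 2 * (2 * r) + 1 = 4 * r + 1 by ring, zpow_add, zpow_mul, h4]; simp, fun _ _ => rfl⟩
        · exact ⟨cj y, H.cjP H.yS (H.yx ▸ inv_mem xX) (by simpa using yX), by
            rw [e1, show 2 * (2 * r + 1) + 1 = 4 * (r + 1) + -1 by ring, zpow_add, zpow_mul, h4, cj_apply, H.yx]; simp,
            fun v hv => mc ((H.cY v).1 hv).2.2⟩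
    · exact ⟨_, (H.cjs' k).comp p, by rw [Function.comp, e, e1]; exact H.szy k,
        fun v hv => by rw [Function.comp, hY v hv]; exact mc ((H.sY v hv).zpow_left _)⟩
  obtain ⟨y', hy', e3⟩ := (q.1.mono le_sup_left).mem_img.1 (((q.1.mono le_sup_left).img_eq_self q.2.1).ge (h2 y yX))
  obtain ⟨k, rfl | rfl⟩ := mem_pair H.yy H.yx hy'
  · exact absurd (by rw [← e3, ← e1, q.1.map_zpow hx]; exact Commute.zpow_self _ _) nc
  have r := q.comp (H.cjs' k)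
  refine ⟨_, r.1, (r.1.mono le_sup_left).isHomOn.eqOn_closure h1 ?_, fun v hv => ?_⟩
  · rintro _ (rfl | rfl) <;> rw [Function.comp, cj_apply]
    · rw [mc (H.sx.zpow_left k), e1]
    · rw [H.szy, e3]
  · rw [Function.comp, cj_apply, mc ((H.sY v hv).zpow_left _), e2 v hv]

theorem full {v : Ω} (h1 : Cj F y v) (h2 : Pm v x) (hR : ∀ χ, Mor F (closure {x, y} ⊔ Y) χ → Pm (χ y) x →
    ¬ Commute (χ x) x → ∃ g ∈ S, Commute g x ∧ g * χ x * g⁻¹ = y) : Full F (closure {x, y}) Y := by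
  obtain ⟨P, f, hf, hy, rfl⟩ := h1
  have h3 := hf.mono (zpowers_le.2 hy)
  have h4 : zpowers (f y) = zpowers x := by
    rcases h2 with h | h <;> rw [h]
    exact zpowers_inv
  obtain ⟨g, hg, e⟩ := exists_extend H.pS H.sat h3 (by
    rw [h3.isHomOn.img_zpowers, h4]
    exact fullyCentralized_of_fullyNormalized H.pS H.sat (fullyNormalized_of_normal F (zpowers_le.2 H.xS)
      fun g hg => mem_norm_zpowers H.xS (pm_mem (mem_zpowers x) (H.nx g hg))))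
  have xy := H.xy
  have hχ : Mor F (closure {x, y} ⊔ Y) g := hg.mono (sup_le ((closure_le _).2 (by
    rintro _ (rfl | rfl)
    · obtain ⟨h, hS, hh⟩ : ∃ h ∈ S, h * f y * h⁻¹ = (f y)⁻¹ := by
        refine ⟨y, H.yS, ?_⟩
        rcases h2 with h | h <;> rw [h]
        exacts [H.yx, cji H.yx]
      refine mem_Nphi.2 ⟨H.xS, mem_norm_zpowers H.yS (xy ▸ inv_mem (mem_zpowers y)), h, hS, ?_⟩
      rintro _ ⟨n, rfl⟩
      simp only [cj_apply]
      rw [cjz xy, hf.map_zpow hy, cjz hh, hf.map_zpow (inv_mem hy), hf.map_inv hy]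
    · exact h3.le_Nphi (mem_zpowers _))) fun v hv => centralizerIn_le_Nphi _ _ _ ⟨((H.cY v).1 hv).1, by
      rintro _ ⟨n, rfl⟩
      exact (((H.cY v).1 hv).2.2.zpow_left n).eq⟩)
  have e1 : Pm (g y) x := (e (mem_zpowers y)).symm ▸ h2
  have hx : x ∈ closure {x, y} ⊔ Y := mem_sup_left xX
  have hy' : y ∈ closure {x, y} ⊔ Y := mem_sup_left yX
  obtain ⟨c, hc, c1, c2⟩ := hR g hχ e1 fun k => H.nxy (hχ.injOn (mul_mem hy' hx) (mul_mem hx hy') (by
    rw [hχ.map_mul hy' hx, hχ.map_mul hx hy', (pm_comm e1.symm k).eq]))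
  obtain ⟨σ, p, s1, s2⟩ := H.exists_sigma (hχ.cj_comp hc) c2 (by
    have := e1.conj c
    rwa [mc c1] at this)
  exact H.full_of p s1 s2

end QD

end CL.WQ
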