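/- The automorphisms of the quaternion subgroups of order eight in the `G₂` pattern. -/
import Cfsg.Agent.FUS.WQ.UniA0

set_option autoImplicit false

namespace CL.WQ

open Cfsg CL.Fus CL.G2S Subgroup

theorem cj_of_inv {G : Type*} [Group G] {r s : G} (h : r * s * r⁻¹ = s⁻¹) : s * r * s⁻¹ = s * s * r := by
  rw [mul_assoc, mul_inv_eq_iff_eq_mul.1 ((cji h).trans (inv_inv s)), mul_assoc]

section model

variable {R : Type} [CommRing R] {h : R} (C : Cy h)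

theorem zpow_A (x y : R) (k : ℤ) : (⟨x, y, false, false⟩ : W R) ^ k = ⟨k * x, k * y, false, false⟩ := by
  obtain ⟨n, rfl | rfl⟩ := k.eq_nat_or_neg
  · rw [zpow_natCast, pow_A]; simp
  · rw [zpow_neg, zpow_natCast, pow_A]; simp [inv_def]

theorem centQ1 {r v : W R} (hr : r ∈ Q2 h C) (hd : r.d = true) :
    v ∈ Q1 h C ↔ v ∈ (⊤ : Subgroup (W R)) ∧ Commute (pp h) v ∧ Commute r v := by
  refine ⟨fun hv => ⟨trivial, (C.comm hv (C.a2_mem h)).symm, (C.comm hv hr).symm⟩, fun ⟨_, h1, h2⟩ => ?_⟩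
  obtain ⟨a, b, e', _⟩ := r
  obtain ⟨x, y, e, d⟩ := v
  obtain rfl := hd
  obtain ⟨rfl, h3⟩ := C.mem_Q2.1 hr
  have := C.two
  rw [commute_iff_eq] at h1 h2
  rw [C.mem_Q1]
  rcases e with _ | _ <;> rcases d with _ | _ <;> g2simp at h1 h2 h3 ⊢
  · linear_combination -h2.1
  · exact absurd (by linear_combination h1.1) this
  · exact absurd (by linear_combination h1.1) this
  · linear_combination h3 - h2.1

theorem centQ2 {r v : W R} (hr : r ∈ Q1 h C) (hd : r.d = true) :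
    v ∈ Q2 h C ↔ v ∈ (⊤ : Subgroup (W R)) ∧ Commute (qq h) v ∧ Commute r v := by
  refine ⟨fun hv => ⟨trivial, C.comm C.q_mem hv, C.comm hr hv⟩, fun ⟨_, h1, h2⟩ => ?_⟩
  obtain ⟨a, b, e', _⟩ := r
  obtain ⟨x, y, e, d⟩ := v
  obtain rfl := hd
  obtain ⟨rfl, h3⟩ := C.mem_Q1.1 hr
  have := C.two
  rw [commute_iff_eq] at h1 h2
  rw [C.mem_Q2]
  rcases e with _ | _ <;> rcases d with _ | _ <;> g2simp at h1 h2 h3 ⊢
  · linear_combination -h2.1
  · linear_combination h3 - h2.1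
  · exact absurd (by linear_combination h1.1) this
  · exact absurd (by linear_combination h1.1) this

theorem conjQ2 {r r' : W R} (hr : r ∈ Q2 h C) (hd : r.d = true) (hr' : r' ∈ Q2 h C) (hd' : r'.d = true) :
    ∃ a : R, ⟨a, 0, false, false⟩ * r * (⟨a, 0, false, false⟩ : W R)⁻¹ = r' := by
  obtain ⟨a, b, _, _⟩ := r
  obtain ⟨x, y, _, _⟩ := r'
  obtain rfl := hd
  obtain rfl := hd'
  obtain ⟨rfl, h3⟩ := C.mem_Q2.1 hr
  obtain ⟨rfl, h4⟩ := C.mem_Q2.1 hr'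
  refine ⟨x - a, ?_⟩
  g2simp at h3 h4 ⊢
  exact ⟨by ring, by linear_combination h3 - h4⟩

theorem conjQ1 {r r' : W R} (hr : r ∈ Q1 h C) (hd : r.d = true) (hr' : r' ∈ Q1 h C) (hd' : r'.d = true) :
    ∃ a : R, ⟨a, 0, false, false⟩ * r * (⟨a, 0, false, false⟩ : W R)⁻¹ = r' := by
  obtain ⟨a, b, _, _⟩ := r
  obtain ⟨x, y, _, _⟩ := r'
  obtain rfl := hd
  obtain rfl := hd'
  obtain ⟨rfl, h3⟩ := C.mem_Q1.1 hr
  obtain ⟨rfl, h4⟩ := C.mem_Q1.1 hr'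
  refine ⟨x - a, ?_⟩
  g2simp at h3 h4 ⊢
  exact ⟨by ring, by linear_combination h4 - h3⟩

omit C in
theorem commA (x y x' y' : R) : Commute (⟨x, y, false, false⟩ : W R) ⟨x', y', false, false⟩ := by
  rw [commute_iff_eq]; g2simp; exact ⟨add_comm _ _, add_comm _ _⟩

theorem invQ2 {r : W R} (hr : r ∈ Q2 h C) (hd : r.d = true) (a : R) :
    r * ⟨a, -a, false, false⟩ * r⁻¹ = (⟨a, -a, false, false⟩ : W R)⁻¹ ∧ r * r = zz h := by
  obtain ⟨x, y, _, _⟩ := r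
  obtain rfl := hd
  obtain ⟨rfl, h3⟩ := C.mem_Q2.1 hr
  g2simp at h3 ⊢
  exact ⟨⟨by ring, by ring⟩, h3, by linear_combination h3⟩

theorem invQ1 {r : W R} (hr : r ∈ Q1 h C) (hd : r.d = true) (a : R) :
    r * ⟨a, a, false, false⟩ * r⁻¹ = (⟨a, a, false, false⟩ : W R)⁻¹ ∧ r * r = zz h := by
  obtain ⟨x, y, _, _⟩ := r
  obtain rfl := hd
  obtain ⟨rfl, h3⟩ := C.mem_Q1.1 hr
  g2simp at h3 ⊢
  exact ⟨⟨by ring, by ring⟩, by linear_combination h3, by linear_combination -h3 - C.four⟩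

theorem dQ2 {v : W R} (hv : v ∈ Q2 h C) (e : ¬ Commute v (pp h)) : v.d = true := by
  obtain ⟨x, y, _, _ | _⟩ := v
  · obtain ⟨rfl, -⟩ := C.mem_Q2.1 hv
    exact absurd (commA ..) e
  · rfl

theorem dQ1 {v : W R} (hv : v ∈ Q1 h C) (e : ¬ Commute v (qq h)) : v.d = true := by
  obtain ⟨x, y, _, _ | _⟩ := v
  · obtain ⟨rfl, -⟩ := C.mem_Q1.1 hv
    exact absurd (commA ..) e
  · rfl

include C

theorem pp_sq : pp h * pp h = zz h := by g2simp; exact ⟨by ring, by linear_combination -C.four⟩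

omit C in
theorem qq_sq : qq h * qq h = zz h := by g2simp; exact ⟨by ring, by ring⟩

theorem zz_sq : zz h * zz h = 1 := by g2simp; exact ⟨by linear_combination C.four, by linear_combination C.four⟩

theorem zz_ne : zz h ≠ 1 := by g2simp; exact fun e => C.two e.1

end model

theorem ord_A (j : ℕ) (y : Zn (j + 1)) : orderOf (⟨1, y, false, false⟩ : W (Zn (j + 1))) = 8 * 2 ^ j := by
  have k : ∀ m : ℕ, (⟨1, y, false, false⟩ : W (Zn (j + 1))) ^ m = 1 ↔ 8 * 2 ^ j ∣ m := fun m => by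
    rw [pow_A, show 8 * 2 ^ j = 4 * 2 ^ (j + 1) by ring, ← ZMod.natCast_eq_zero_iff]
    g2simp
    exact ⟨fun e => by simpa using e.1, fun e => by simp [e]⟩
  exact Nat.dvd_antisymm (orderOf_dvd_of_pow_eq_one ((k _).2 dvd_rfl)) ((k _).1 (pow_orderOf_eq_one _))

theorem hn_succ (j : ℕ) : hn (j + 1) = (2 ^ j : ℕ) + (2 ^ j : ℕ) := by simp only [hn]; push_cast; ring

theorem pS_top (n : ℕ) : IsPGroup 2 (⊤ : Subgroup (W (Zn n))) := (isPGroup_W n).to_subgroup _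

instance (n : ℕ) : Finite (Zn n) := have : NeZero (4 * 2 ^ n) := ⟨by positivity⟩; inferInstance

variable {n : ℕ} {F : FusionSystem (⊤ : Subgroup (W (Zn n)))}

theorem Mod.full2 (h1 : 1 ≤ n) (M : Mod F n (MonoidHom.id _)) {r : W (Zn n)} (hr : r ∈ Q2 (hn n) (cy n))
    (hd : r.d = true) : Full F (closure {pp (hn n), r}) (Q1 (hn n) (cy n)) := by
  obtain ⟨j, rfl⟩ : ∃ j, n = j + 1 := ⟨n - 1, by omega⟩
  have C := cy (j + 1)
  have H : QD F (Q1 _ C) (pp (hn (j + 1))) r ⟨(2 ^ j : ℕ), -(2 ^ j : ℕ), false, false⟩ ⟨1, 1, false, false⟩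
      (w1 (hn (j + 1))) j := ⟨pS_top _, M.sat, trivial, trivial, trivial, (invQ2 C hr hd 0).2.trans (pp_sq C).symm,
    (invQ2 C hr hd _).1, (pp_sq C).trans_ne (zz_ne C), commA .., (cj_of_inv (invQ2 C hr hd _).1).trans (by
      congr 1; rw [pp, hn_succ]; g2simp; ring), fun v => centQ1 C hr hd, fun v hv => (C.comm hv (C.a2_mem _)).symm, ord_A j 1, (invQ1 C C.w1_mem rfl 1).1,
    by rw [(invQ1 C C.w1_mem rfl 1).2, zz_sq C], fun v => ⟨fun hv => by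
      rcases C.Q1_cases hv with ⟨a, rfl⟩ | ⟨a, rfl⟩ <;> obtain ⟨a, rfl⟩ := ZMod.intCast_surjective a <;>
        exact ⟨a, by simp [zpow_A]⟩, by
      rintro ⟨k, rfl | rfl⟩
      exacts [zpow_mem (C.a1_mem 1) k, mul_mem (zpow_mem (C.a1_mem 1) k) C.w1_mem]⟩, fun g _ => Cy.nrm_p g⟩
  obtain ⟨v, h2, h3⟩ := M.c1
  obtain ⟨a, ha⟩ := conjQ2 C hr hd C.w2_mem rfl
  refine H.full (((Cj.refl (F := F) (mem_top r)).of_cj (mem_top _) ha).trans (isConjElt_iff.1 h3)) h2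
    fun χ hχ e1 e2 => ?_
  have hy : r ∈ closure {pp (hn (j + 1)), r} ⊔ Q1 _ C := mem_sup_left QD.yX
  have hz := (invQ2 C hr hd 0).2
  obtain ⟨v', h4, h5⟩ := M.sc _ χ hχ (hz ▸ mul_mem hy hy) (by
    change χ (zz _) = zz _
    rw [← hz, hχ.map_mul hy hy, hz]
    rcases e1 with e | e <;> rw [e]
    exacts [pp_sq C, by rw [← mul_inv_rev, pp_sq C, inv_of_sq (zz_sq C)]]) _ (C.a2_mem _) (mem_sup_left QD.xX)
  have h6 : χ (pp (hn (j + 1))) ∈ Q2 _ C := (show χ _ = v' from h5) ▸ h4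
  obtain ⟨b, hb⟩ := conjQ2 C h6 (dQ2 C h6 e2) hr hd
  exact ⟨_, trivial, commA .., hb⟩

theorem Mod.full1 (h1 : 1 ≤ n) (M : Mod F n (MonoidHom.id _)) {r : W (Zn n)} (hr : r ∈ Q1 (hn n) (cy n))
    (hd : r.d = true) : Full F (closure {qq (hn n), r}) (Q2 (hn n) (cy n)) := by
  obtain ⟨j, rfl⟩ : ∃ j, n = j + 1 := ⟨n - 1, by omega⟩
  have C := cy (j + 1)
  have H : QD F (Q2 _ C) (qq (hn (j + 1))) r ⟨(2 ^ j : ℕ), (2 ^ j : ℕ), false, false⟩ ⟨1, -1, false, false⟩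
      (w2 (hn (j + 1))) j := ⟨pS_top _, M.sat, trivial, trivial, trivial, (invQ1 C hr hd 0).2.trans qq_sq.symm,
    (invQ1 C hr hd _).1, qq_sq.trans_ne (zz_ne C), commA .., (cj_of_inv (invQ1 C hr hd _).1).trans (by
      congr 1; rw [qq, hn_succ]; g2simp), fun v => centQ2 C hr hd, fun v hv => C.comm (C.a1_mem _) hv, ord_A j _, (invQ2 C C.w2_mem rfl 1).1,
    by rw [(invQ2 C C.w2_mem rfl 1).2, zz_sq C], fun v => ⟨fun hv => by
      rcases C.Q2_cases hv with ⟨a, rfl⟩ | ⟨a, rfl⟩ <;> obtain ⟨a, rfl⟩ := ZMod.intCast_surjective a <;>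
        exact ⟨a, by simp [zpow_A]⟩, by
      rintro ⟨k, rfl | rfl⟩
      exacts [zpow_mem (C.a2_mem 1) k, mul_mem (zpow_mem (C.a2_mem 1) k) C.w2_mem]⟩, fun g _ => Cy.nrm_q g⟩
  obtain ⟨v, h2, h3⟩ := M.c2
  obtain ⟨a, ha⟩ := conjQ1 C hr hd C.w1_mem rfl
  refine H.full (((Cj.refl (F := F) (mem_top r)).of_cj (mem_top _) ha).trans (isConjElt_iff.1 h3)) h2
    fun χ hχ e1 e2 => ?_
  have hy : r ∈ closure {qq (hn (j + 1)), r} ⊔ Q2 _ C := mem_sup_left QD.yX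
  have hx : qq (hn (j + 1)) ∈ closure {qq (hn (j + 1)), r} ⊔ Q2 _ C := mem_sup_left QD.xX
  have hz := (invQ1 C hr hd 0).2
  have h4 := hχ.img_eq_self_of_le le_sup_right fun v hv => by
    obtain ⟨v', h4, h5⟩ := M.sc _ χ hχ (hz ▸ mul_mem hy hy) (by
      change χ (zz _) = zz _
      rw [← hz, hχ.map_mul hy hy, hz]
      rcases e1 with e | e <;> rw [e]
      exacts [qq_sq, by rw [← mul_inv_rev, qq_sq, inv_of_sq (zz_sq C)]]) v hv (mem_sup_right hv)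
    exact (show χ _ = v' from h5) ▸ h4
  have h5 : ∀ g ∈ Q2 _ C, Commute g (χ (qq (hn (j + 1)))) := fun g hg => by
    obtain ⟨g, hg', rfl⟩ := (hχ.mono le_sup_right).mem_img.1 (h4.ge hg)
    exact Mor.comm hχ (mem_sup_right hg') hx (C.comm C.q_mem hg').symm
  have h6 := (centQ1 C C.w2_mem rfl).2 ⟨trivial, h5 _ (C.a2_mem _), h5 _ C.w2_mem⟩
  obtain ⟨b, hb⟩ := conjQ1 C h6 (dQ1 C h6 e2) hr hd
  exact ⟨_, trivial, commA .., hb⟩

end CL.WQ
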