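/- Automorphisms of odd order in the centraliser of the central involution, `G₂` pattern. -/
import Cfsg.Agent.FUS.WQ.Def2

set_option autoImplicit false

namespace CL.WQ

open Cfsg CL.Fus CL.G2S Subgroup

namespace UB

section Gen

variable {G H : Type*} [Group G] [Group H]

/-- a map of odd period on a subgroup of a `2`-group -/
structure OA (E : Subgroup G) (a : G → G) : Prop where
  two : IsPGroup 2 G
  hom : IsHomOn E a
  mem : ∀ x ∈ E, a x ∈ E
  per : ∃ k, ∀ x ∈ E, a^[2 * k + 1] x = x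

theorem odd_geom (l k : ℕ) : ∃ s, l ^ (2 * k + 1) + (2 * s + 1) = (2 * s + 1) * l + 1 := by
  induction k with
  | zero => exact ⟨0, by ring⟩
  | succ k ih =>
    obtain ⟨s, hs⟩ := ih
    obtain ⟨t, ht⟩ := Nat.even_mul_succ_self l
    refine ⟨s + l ^ (2 * k) * t, ?_⟩
    zify at hs ht ⊢
    linear_combination hs + l ^ (2 * k) * (l - 1) * ht

theorem eq_one_of_odd {u : H} {j s : ℕ} (h2 : u ^ 2 ^ j = 1) (h : u ^ (2 * s + 1) = 1) : u = 1 := by
  rw [← orderOf_eq_one_iff]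
  exact Nat.eq_one_of_dvd_coprimes (Nat.Coprime.pow_left _ (by simp)) (orderOf_dvd_of_pow_eq_one h2)
    (orderOf_dvd_of_pow_eq_one h)

theorem pow_fix {u : H} {j l k : ℕ} (h2 : u ^ 2 ^ j = 1) (h : u ^ l ^ (2 * k + 1) = u) : u ^ l = u := by
  obtain ⟨s, hs⟩ := odd_geom l k
  have h3 : u ^ (l ^ (2 * k + 1) + (2 * s + 1)) = u ^ ((2 * s + 1) * l + 1) := by rw [hs]
  rw [pow_add, h, pow_succ _ (_ * l), mul_comm (2 * s + 1), pow_mul, ← pow_succ', pow_succ,
    mul_right_cancel_iff] at h3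
  have c : Commute (u ^ l) u⁻¹ := ((Commute.refl u).pow_left l).inv_right
  refine mul_inv_eq_one.1 (eq_one_of_odd (j := j) (s := s) ?_ ?_)
  · rw [c.mul_pow, ← pow_mul, mul_comm l, pow_mul, inv_pow, h2]; simp
  · rw [c.mul_pow, ← h3, inv_pow, mul_inv_cancel]

namespace OA

variable {E P : Subgroup G} {a : G → G} (A : OA E a) {π : G →* H}
include A

theorem it {x : G} (hx : x ∈ E) (k : ℕ) : a^[k] x ∈ E := by
  induction k with
  | zero => exact hx
  | succ k ih => rw [Function.iterate_succ_apply']; exact A.mem _ ih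

theorem res (hP : P ≤ E) (h : ∀ x ∈ P, a x ∈ P) : OA P a :=
  ⟨A.two, A.hom.mono hP, h, A.per.imp fun _ e x hx => e x (hP hx)⟩

theorem surj {x : G} (hx : x ∈ E) : ∃ y ∈ E, a y = x := by
  obtain ⟨k, hk⟩ := A.per
  exact ⟨_, A.it hx (2 * k), by rw [← Function.iterate_succ_apply' a]; exact hk x hx⟩

theorem pi2 (π : G →* H) (x : G) : ∃ j, π x ^ 2 ^ j = 1 := by
  obtain ⟨j, hj⟩ := A.two x
  exact ⟨j, by rw [← map_pow, hj, map_one]⟩

variable (hK : ∀ x ∈ E, π x = 1 → π (a x) = 1)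
include hK

theorem cong {u v : G} (hu : u ∈ E) (hv : v ∈ E) (h : π u = π v) : π (a u) = π (a v) := by
  have := hK _ (E.mul_mem hu (E.inv_mem hv)) (by rw [map_mul, map_inv, h, mul_inv_cancel])
  rwa [A.hom hu (E.inv_mem hv), A.hom.map_inv hv, map_mul, map_inv, mul_inv_eq_one] at this

theorem congi {u v : G} (hu : u ∈ E) (hv : v ∈ E) (h : π u = π v) (k : ℕ) : π (a^[k] u) = π (a^[k] v) := by
  induction k with
  | zero => exact h
  | succ k ih => simp only [Function.iterate_succ_apply']; exact A.cong hK (A.it hu k) (A.it hv k) ih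

theorem inj {u v : G} (hu : u ∈ E) (hv : v ∈ E) (h : π (a u) = π (a v)) : π u = π v := by
  obtain ⟨k, hk⟩ := A.per
  have := A.congi hK (A.mem _ hu) (A.mem _ hv) h (2 * k)
  rwa [← Function.iterate_succ_apply, ← Function.iterate_succ_apply, hk u hu, hk v hv] at this

theorem co1 {x : G} (hx : x ∈ E) (h : π (a (x⁻¹ * a x)) = π (x⁻¹ * a x)) : π (a x) = π x := by
  obtain ⟨k, hk⟩ := A.per
  set y := x⁻¹ * a x with hy
  have hyE : y ∈ E := E.mul_mem (E.inv_mem hx) (A.mem _ hx)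
  have e : a x = x * y := by rw [hy]; group
  have key : ∀ m, π (a^[m] x) = π (x * y ^ m) := fun m => by
    induction m with
    | zero => simp
    | succ m ih =>
      rw [Function.iterate_succ_apply', A.cong hK (A.it hx m) (E.mul_mem hx (E.pow_mem hyE m)) ih,
        A.hom hx (E.pow_mem hyE m), A.hom.map_pow hyE, e]
      simp only [map_mul, map_pow, h, pow_succ', mul_assoc]
  obtain ⟨j, hj⟩ := A.pi2 π y
  have := key (2 * k + 1)
  rw [hk x hx, map_mul, left_eq_mul, map_pow] at this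
  rw [e, map_mul, eq_one_of_odd hj this, mul_one]

theorem co2 {x : G} (hx : x ∈ E) {l : ℕ} (h : π (a x) = π x ^ l ∨ π x = π (a x) ^ l) : π (a x) = π x := by
  obtain ⟨k, hk⟩ := A.per
  obtain ⟨j, hj⟩ := A.pi2 π x
  rcases h with h | h
  · have key : ∀ m, π (a^[m] x) = π (x ^ l ^ m) := fun m => by
      induction m with
      | zero => simp
      | succ m ih =>
        rw [Function.iterate_succ_apply', A.cong hK (A.it hx m) (E.pow_mem hx _) ih, A.hom.map_pow hx,
          map_pow, h, map_pow, ← pow_mul, pow_succ']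
    have := key (2 * k + 1)
    rw [hk x hx, map_pow] at this
    rw [h, pow_fix hj this.symm]
  · have key : ∀ m, π x = π (a^[m] x) ^ l ^ m := fun m => by
      induction m with
      | zero => simp
      | succ m ih =>
        have := A.cong hK hx (E.pow_mem (A.it hx m) _) (ih.trans (map_pow _ _ _).symm)
        rw [A.hom.map_pow (A.it hx m), map_pow] at this
        rw [Function.iterate_succ_apply', pow_succ, pow_mul, ← this, ← h]
    have := key (2 * k + 1)
    rw [hk x hx] at this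
    have e := A.cong hK (E.pow_mem hx l) hx ((map_pow _ _ _).trans (pow_fix hj this.symm))
    rw [A.hom.map_pow hx, map_pow] at e
    rw [← e, ← h]

theorem co3 {x : G} (hx : x ∈ E) (h : π (a (a x)) = π x) : π (a x) = π x := by
  obtain ⟨k, hk⟩ := A.per
  have key : ∀ m, π (a^[2 * m] x) = π x := fun m => by
    induction m with
    | zero => rfl
    | succ m ih =>
      rw [show 2 * (m + 1) = 2 * m + 1 + 1 by ring, Function.iterate_succ_apply, Function.iterate_succ_apply,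
        A.congi hK (A.mem _ (A.mem _ hx)) hx h, ih]
  have := A.cong hK (A.it hx _) hx (key k)
  rw [← Function.iterate_succ_apply' a, hk x hx] at this
  exact this.symm

omit hK

theorem hid : ∀ x ∈ E, MonoidHom.id G x = 1 → MonoidHom.id G (a x) = 1 := by
  rintro x - (rfl : x = 1); exact A.hom.map_one

theorem inj0 {u v : G} (hu : u ∈ E) (hv : v ∈ E) (h : a u = a v) : u = v := A.inj A.hid hu hv h

end OA

end Gen

variable {n : ℕ} {h : Zn n}

theorem chain (a b : Zn n) : ∃ l : ℕ, a = l * b ∨ b = l * a := by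
  have h0 : (2 : Zn n) ^ (n + 2) = 0 := by
    have := ZMod.natCast_self (4 * 2 ^ n)
    push_cast at this
    linear_combination this
  have un : ∀ y : Zn n, ∃ w : Zn n, w * (2 * y + 1) = 1 := fun y =>
    (IsNilpotent.isUnit_add_one ⟨n + 2, by rw [mul_pow, h0, zero_mul]⟩).exists_left_inv
  have key : ∀ k : ℕ, (∃ l : Zn n, a = l * b ∨ b = l * a) ∨ ∃ a' b', a = 2 ^ k * a' ∧ b = 2 ^ k * b' := fun k => by
    induction k with
    | zero => exact Or.inr ⟨a, b, by simp, by simp⟩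
    | succ k ih =>
      refine ih.elim Or.inl ?_
      rintro ⟨a', b', ha, hb⟩
      obtain ⟨y, e | e⟩ := (cy n).par a'
      · obtain ⟨y', e' | e'⟩ := (cy n).par b'
        · exact Or.inr ⟨y, y', by rw [ha, e]; ring, by rw [hb, e']; ring⟩
        · obtain ⟨w, hw⟩ := un y'
          exact Or.inl ⟨a' * w, Or.inl (by rw [ha, hb, e']; linear_combination -(2 ^ k * a') * hw)⟩
      · obtain ⟨w, hw⟩ := un y
        exact Or.inl ⟨b' * w, Or.inr (by rw [ha, hb, e]; linear_combination -(2 ^ k * b') * hw)⟩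
  rcases key (n + 2) with ⟨l, hl⟩ | ⟨a', b', ha, hb⟩
  · exact ⟨l.val, by rwa [ZMod.natCast_zmod_val]⟩
  · exact ⟨0, Or.inl (by rw [ha, h0]; simp)⟩

theorem two_pow_mul (a : Zn n) : 2 ^ (n + 2) * a = 0 := by
  have := ZMod.natCast_self (4 * 2 ^ n)
  push_cast at this
  linear_combination a * this

/-- maps of odd period on a subgroup of a quaternion subgroup -/
theorem odd_gen (C : Cy h) {X P : Subgroup (W (Zn n))} {B : Zn n → W (Zn n)} (Bp : ∀ (c : Zn n) (l : ℕ), B c ^ l = B (l * c))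
    (Bi : Function.Injective B) (hA : ∀ v ∈ X, v.d = false → ∃ c, v = B c)
    (hB : ∀ v ∈ X, v.d = true → v * v = B (2 * h)) (hP : P ≤ X) {a : W (Zn n) → W (Zn n)} (A : OA P a) :
    (∀ x ∈ P, a x = x) ∨ (B h ∈ P ∧ (a (B h)).d = true ∧ P = closure {B h, a (B h)}) := by
  have B0 : B 0 = 1 := by simpa using (Bp 0 0).symm
  have md : ∀ u v : W (Zn n), (u * v).d = xor u.d v.d := fun _ _ => rfl
  have id' : ∀ u : W (Zn n), u⁻¹.d = u.d := fun _ => rfl
  by_cases hh : ∀ x ∈ P, x.d = false → (a x).d = false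
  · left
    have h1 : ∀ x ∈ P, x.d = false → a x = x := fun x hx hd => by
      obtain ⟨c, rfl⟩ := hA x (hP hx) hd
      obtain ⟨c', e⟩ := hA _ (hP (A.mem _ hx)) (hh _ hx hd)
      obtain ⟨l, hl⟩ := chain c' c
      refine A.co2 A.hid hx (l := l) ?_
      simp only [MonoidHom.id_apply, e, Bp]
      exact hl.imp (congrArg B) (congrArg B)
    intro x hx
    rcases hd : x.d with _ | _
    · exact h1 x hx hd
    · rcases hd' : (a x).d with _ | _
      · exact A.inj0 (A.mem _ hx) hx (h1 _ (A.mem _ hx) hd')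
      · exact A.co1 A.hid hx (h1 _ (P.mul_mem (P.inv_mem hx) (A.mem _ hx)) (by rw [md, id', hd, hd']; rfl))
  · right
    push Not at hh
    obtain ⟨x, hx, hd, hd'⟩ := hh
    replace hd' : (a x).d = true := by simpa using hd'
    obtain ⟨c, rfl⟩ := hA x (hP hx) hd
    have e2 : a (B (2 * c)) = B (2 * h) := by
      rw [← hB _ (hP (A.mem _ hx)) hd', ← A.hom hx hx, ← pow_two, Bp]; norm_num
    have m2 : B (2 * c) ∈ P := by have := P.pow_mem hx 2; rw [Bp] at this; exact_mod_cast this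
    have c4 : 4 * c = 0 := by
      have := A.hom.map_pow m2 2
      rw [e2, Bp, Bp, show ((2 : ℕ) : Zn n) * (2 * h) = 0 by push_cast; linear_combination C.four, B0,
        ← A.hom.map_one] at this
      have := A.inj0 (by have := P.pow_mem m2 2; rwa [Bp] at this) P.one_mem this
      rw [← B0] at this
      have := Bi this
      push_cast at this
      linear_combination this
    have c2 : 2 * c ≠ 0 := fun e => by
      rw [e, B0, A.hom.map_one, ← B0] at e2
      exact C.two (Bi e2).symm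
    have p3 : ∀ u : W (Zn n), (u ^ 3).d = u.d := fun u => by
      rw [pow_succ, pow_two, md, sq_d]; simp
    have B3 : ∀ c : Zn n, 4 * c = 0 → B (-c) = B c ^ 3 := fun c e => by
      rw [Bp]; congr 1; push_cast; linear_combination -e
    have hi : B h ∈ P ∧ (a (B h)).d = true := by
      rcases C.quarter c2 c4 with e | e
      · rw [← e]; exact ⟨hx, hd'⟩
      · rw [← neg_eq_iff_eq_neg.2 e, B3 c c4, A.hom.map_pow hx, p3]
        exact ⟨P.pow_mem hx 3, hd'⟩
    refine ⟨hi.1, hi.2, le_antisymm ?_ ?_⟩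
    · have i1 : B h ∈ closure {B h, a (B h)} := subset_closure (Or.inl rfl)
      have i2 : a (B h) ∈ closure {B h, a (B h)} := subset_closure (Or.inr rfl)
      have k : ∀ y ∈ P, y.d = false → y ∈ closure {B h, a (B h)} := fun y hy hd => by
        obtain ⟨b, rfl⟩ := hA y (hP hy) hd
        rcases C.exists_pow (n + 2) b (two_pow_mul b) with rfl | rfl | ⟨_ | j, e⟩
        · rw [B0]; exact one_mem _
        · have := pow_mem i1 2; rw [Bp] at this; exact_mod_cast this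
        · simp only [pow_zero, one_mul] at e
          rcases e with rfl | rfl
          · exact i1
          · rw [B3 _ C.four]; exact pow_mem i1 3
        · exfalso
          have e1 : (a (B (2 ^ (j + 1) * b))).d = false := by
            have := A.hom.map_pow hy (2 ^ (j + 1))
            rw [Bp] at this
            push_cast at this
            rw [this, pow_succ, pow_mul, pow_two, sq_d]
          rcases e with e | e <;> rw [e] at e1
          · simp [hi.2] at e1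
          · rw [B3 _ C.four, A.hom.map_pow hi.1, p3, hi.2] at e1
            simp at e1
      intro y hy
      rcases hd : y.d with _ | _
      · exact k y hy hd
      · have := k _ (P.mul_mem hy (P.inv_mem (A.mem _ hi.1))) (by rw [md, id', hd, hi.2]; rfl)
        simpa using mul_mem this i2
    · rw [closure_le]
      rintro _ (rfl | rfl)
      exacts [hi.1, A.mem _ hi.1]

theorem odd2 (C : Cy h) {P : Subgroup (W (Zn n))} (hP : P ≤ Q2 h C) {a : W (Zn n) → W (Zn n)} (A : OA P a) :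
    (∀ x ∈ P, a x = x) ∨ (pp h ∈ P ∧ (a (pp h)).d = true ∧ P = closure {pp h, a (pp h)}) := by
  refine odd_gen C (B := fun c => ⟨c, -c, false, false⟩) (fun c l => by simp [pow_A]) (fun _ _ e => congrArg W.x e)
    ?_ ?_ hP A
  · rintro ⟨x, y, e, d⟩ ⟨(rfl : e = false), h2⟩ (rfl : d = false)
    g2simp at h2 ⊢
    exact ⟨x, rfl, by linear_combination h2⟩
  · rintro ⟨x, y, e, d⟩ ⟨(rfl : e = false), h2⟩ (rfl : d = true)
    g2simp at h2 ⊢
    exact ⟨h2, by linear_combination h2 + C.four⟩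

theorem odd1 (C : Cy h) {P : Subgroup (W (Zn n))} (hP : P ≤ Q1 h C) {a : W (Zn n) → W (Zn n)} (A : OA P a) :
    (∀ x ∈ P, a x = x) ∨ (qq h ∈ P ∧ (a (qq h)).d = true ∧ P = closure {qq h, a (qq h)}) := by
  refine odd_gen C (B := fun c => ⟨c, c, false, false⟩) (fun c l => by simp [pow_A]) (fun _ _ e => congrArg W.x e)
    ?_ ?_ hP A
  · rintro ⟨x, y, e, d⟩ ⟨(rfl : e = d), h2⟩ (rfl : e = false)
    g2simp at h2 ⊢
    exact ⟨x, rfl, by linear_combination -h2⟩
  · rintro ⟨x, y, e, d⟩ ⟨(rfl : e = d), h2⟩ (rfl : e = true)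
    g2simp at h2 ⊢
    exact ⟨by linear_combination h2, by linear_combination -h2 - C.four⟩

/-- the rotation part of the image in `W / Q2` -/
def sv (h : Zn n) (w : W (Zn n)) : Zn n := w.x + w.y - bif w.d then 2 * h else 0

theorem sv_mul (C : Cy h) (u v : W (Zn n)) : sv h (u * v) = sv h u + sg _ u.e * sv h v := by
  obtain ⟨x, y, _ | _, _ | _⟩ := u <;> obtain ⟨x', y', e', _ | _⟩ := v <;> unfold sv <;> g2simp <;>
    first | ring1 | linear_combination C.four | linear_combination -C.four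

theorem me (u v : W (Zn n)) : (u * v).e = xor u.e v.e := rfl

theorem ie (u : W (Zn n)) : u⁻¹.e = u.e := rfl

/-- the quotient map by `Q2` -/
def pr (C : Cy h) : W (Zn n) →* W (Zn n) := MonoidHom.mk' (fun w => ⟨sv h w, 0, w.e, false⟩) fun u v => by
  rw [sv_mul C, me, mul_def]; simp

theorem pr_apply (C : Cy h) (w : W (Zn n)) : pr C w = ⟨sv h w, 0, w.e, false⟩ := rfl

theorem pr_eq (C : Cy h) {u v : W (Zn n)} : pr C u = pr C v ↔ sv h u = sv h v ∧ u.e = v.e := by
  simp [pr_apply]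

theorem mem2 (C : Cy h) {w : W (Zn n)} : w ∈ Q2 h C ↔ sv h w = 0 ∧ w.e = false := by
  obtain ⟨x, y, e, d⟩ := w
  rw [C.mem_Q2, sv, sub_eq_zero, and_comm]

theorem pr_one (C : Cy h) {w : W (Zn n)} : pr C w = 1 ↔ w ∈ Q2 h C := by
  rw [mem2, pr_apply, one_def]; simp

theorem sv_inv (C : Cy h) {u : W (Zn n)} (hu : u.e = false) : sv h u⁻¹ = -sv h u := by
  have := sv_mul C u u⁻¹
  rw [mul_inv_cancel, hu, sg_ff, show sv h 1 = 0 by simp [sv, one_def]] at this
  linear_combination -this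

/-- an element centralising `i` and an element of `Q2` outside `A` lies in `Q1` -/
theorem cenT (C : Cy h) {r v : W (Zn n)} (hr : r ∈ Q2 h C) (hd : r.d = true) (h1 : v * pp h * v⁻¹ = pp h)
    (h2 : v * r * v⁻¹ = r) : v ∈ Q1 h C := by
  rw [mul_inv_eq_iff_eq_mul] at h1 h2
  obtain ⟨a, b, e, d⟩ := r
  obtain ⟨rfl, h3⟩ : e = false ∧ _ := hr
  obtain rfl : d = true := hd
  obtain ⟨x, y, _ | _, _ | _⟩ := v <;> g2simp at h1 h2 h3
  · exact ⟨rfl, by g2simp; linear_combination h2.1⟩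
  · exact (C.two (by linear_combination -h1.1)).elim
  · exact (C.two (by linear_combination -h1.1)).elim
  · exact ⟨rfl, by g2simp; linear_combination h2.1 + h3⟩

theorem stepA (C : Cy h) {E : Subgroup (W (Zn n))} {a : W (Zn n) → W (Zn n)} (A : OA E a)
    (hP : ∀ x ∈ E, x ∈ Q2 h C → a x ∈ Q2 h C) (hi : pp h ∈ E) (hd : (a (pp h)).d = true) :
    E ≤ (E ⊓ Q2 h C) ⊔ (E ⊓ Q1 h C) ∧ ∀ q ∈ E, q ∈ Q1 h C → a q ∈ Q1 h C := by
  have iR : pp h ∈ Q2 h C := C.a2_mem h
  have rR := hP _ hi iR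
  have rE := A.mem _ hi
  set r := a (pp h) with hr
  have ir : pp h * r * (pp h)⁻¹ = r⁻¹ ∧ r * pp h * r⁻¹ = (pp h)⁻¹ := by
    clear_value r
    obtain ⟨x, y, e, d⟩ := r
    obtain ⟨rfl, h3⟩ : e = false ∧ _ := rR
    obtain rfl : d = true := hd
    g2simp at h3 ⊢
    refine ⟨⟨?_, ?_⟩, ?_, ?_⟩
    · linear_combination h3 + C.four
    · linear_combination h3
    · ring
    · ring
  refine ⟨fun e he => ?_, fun q hq hT => ?_⟩
  · have k : ∀ p ∈ E ⊓ Q2 h C, p * e * pp h * (p * e)⁻¹ = pp h → p * e * r * (p * e)⁻¹ = r →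
        e ∈ (E ⊓ Q2 h C) ⊔ (E ⊓ Q1 h C) := fun p hp h1 h2 => by
      have := mul_mem_sup (inv_mem hp) (show p * e ∈ E ⊓ Q1 h C from ⟨E.mul_mem hp.1 he, cenT C rR hd h1 h2⟩)
      simpa using this
    have cj' : ∀ p x : W (Zn n), p * e * x * (p * e)⁻¹ = p * (e * x * e⁻¹) * p⁻¹ := fun p x => by group
    have ci : ∀ p x : W (Zn n), p * x⁻¹ * p⁻¹ = (p * x * p⁻¹)⁻¹ := fun p x => by group
    have h2 : Pm (e * r * e⁻¹) r := by
      obtain ⟨e', he', rfl⟩ := A.surj he
      rw [hr, ← A.hom.map_conj he' hi]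
      rcases Cy.nrm_p (h := h) e' with e1 | e1 <;> rw [e1]
      exacts [Or.inl rfl, Or.inr (A.hom.map_inv hi)]
    rcases Cy.nrm_p (h := h) e with h1 | h1 <;> rcases h2 with h2 | h2
    · exact k 1 (one_mem _) (by rw [cj', h1]; group) (by rw [cj', h2]; group)
    · exact k _ ⟨hi, iR⟩ (by rw [cj', h1]; group) (by rw [cj', h2, ci, ir.1, inv_inv])
    · exact k _ ⟨rE, rR⟩ (by rw [cj', h1, ci, ir.2, inv_inv]) (by rw [cj', h2]; group)
    · refine k _ (mul_mem ⟨hi, iR⟩ ⟨rE, rR⟩) ?_ ?_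
      · rw [cj', h1, ci, show pp h * r * pp h * (pp h * r)⁻¹ = pp h * (r * pp h * r⁻¹) * (pp h)⁻¹ by group, ir.2]
        group
      · rw [cj', h2, ci, show pp h * r * r * (pp h * r)⁻¹ = pp h * r * (pp h)⁻¹ * (pp h * (r * r⁻¹) * (pp h)⁻¹) by group,
          ir.1]
        group
  · have AP : OA (E ⊓ Q2 h C) a := A.res inf_le_left fun x hx => ⟨A.mem _ hx.1, hP _ hx.1 hx.2⟩
    have k : ∀ p ∈ E ⊓ Q2 h C, a q * a p * (a q)⁻¹ = a p := fun p hp => by
      rw [← A.hom.map_conj hq hp.1, C.comm hT hp.2, mul_inv_cancel_right]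
    obtain ⟨i', hi', e⟩ := AP.surj (show pp h ∈ E ⊓ Q2 h C from ⟨hi, iR⟩)
    exact cenT C rR hd (by simpa only [e] using k _ hi') (k _ ⟨hi, iR⟩)

theorem stepB (C : Cy h) {E : Subgroup (W (Zn n))} {a : W (Zn n) → W (Zn n)} (A : OA E a)
    (hP : ∀ x ∈ E, x ∈ Q2 h C → a x = x) (hz : zz h ∈ E)
    (hc : ∀ x ∈ Q2 h C, (∀ y ∈ E, y ∈ Q2 h C → x * y = y * x) → x ∈ E) : (∀ x ∈ E, a x = x) ∨
    (E ≤ (E ⊓ Q2 h C) ⊔ (E ⊓ Q1 h C) ∧ ∀ q ∈ E, q ∈ Q1 h C → a q ∈ Q1 h C) := by
  have hK : ∀ x ∈ E, pr C x = 1 → pr C (a x) = 1 := fun x hx e => by rw [hP x hx ((pr_one C).1 e), e]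
  have fx : ∀ x ∈ E, a x ∈ Q2 h C → a x = x := fun x hx e => A.inj0 (A.mem _ hx) hx (hP _ (A.mem _ hx) e)
  by_cases hh : ∀ x ∈ E, x.e = false → (a x).e = false
  · left
    have h1 : ∀ x ∈ E, x.e = false → pr C (a x) = pr C x := fun x hx he => by
      obtain ⟨l, hl⟩ := chain (sv h (a x)) (sv h x)
      refine A.co2 hK hx (l := l) ?_
      simp only [pr_apply, he, hh x hx he, pow_A, mul_zero, W.mk.injEq, and_true]
      exact hl
    have h2 : ∀ x ∈ E, pr C (a x) = pr C x := fun x hx => by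
      rcases he : x.e with _ | _
      · exact h1 x hx he
      · rcases he' : (a x).e with _ | _
        · exact A.inj hK (A.mem _ hx) hx (h1 _ (A.mem _ hx) he')
        · exact A.co1 hK hx (h1 _ (E.mul_mem (E.inv_mem hx) (A.mem _ hx)) (by rw [me, ie, he, he']; rfl))
    intro x hx
    refine A.co1 A.hid hx (hP _ (E.mul_mem (E.inv_mem hx) (A.mem _ hx)) ((pr_one C).1 ?_))
    rw [map_mul, map_inv, h2 x hx, inv_mul_cancel]
  · right
    push Not at hh
    obtain ⟨e, he, e1, e2⟩ := hh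
    replace e2 : (a e).e = true := by simpa using e2
    have k1 : ∀ x ∈ E, x.e = false → (a x).e = true → sv h x = 2 * h := fun x hx x1 x2 => by
      have s1 : a (x * x) ∈ Q2 h C := by
        rw [A.hom hx hx, mem2, sv_mul C, me, x2]; simp
      have s2 := fx _ (E.mul_mem hx hx) s1
      rw [s2, mem2, sv_mul C, x1, sg_ff] at s1
      refine (C.inv _ (by linear_combination s1.1)).resolve_left fun s => ?_
      rw [hP x hx ((mem2 C).2 ⟨s, x1⟩), x1] at x2
      exact Bool.noConfusion x2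
    have k2 : ∀ x ∈ E, x.e = false → (a x).e = false → sv h x = 0 := fun x hx x1 x2 => by
      have := k1 _ (E.mul_mem hx he) (by rw [me, x1, e1]; rfl) (by rw [A.hom hx he, me, x2, e2]; rfl)
      rw [sv_mul C, x1, sg_ff, k1 e he e1 e2] at this
      linear_combination this
    have k3 : ∀ x ∈ E, x.e = false → sv h x = 0 ∨ sv h x = 2 * h := fun x hx x1 => by
      rcases x2 : (a x).e with _ | _
      exacts [Or.inl (k2 x hx x1 x2), Or.inr (k1 x hx x1 x2)]
    have fE := A.mem _ he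
    have gE := A.mem _ fE
    have ne : pr C (a e) ≠ pr C e := fun s => by
      have := ((pr_eq C).1 s).2
      rw [e1, e2] at this
      exact Bool.noConfusion this
    have g1 : (a (a e)).e = true := by
      rcases g1 : (a (a e)).e with _ | _
      · exfalso
        rcases k3 _ gE g1 with s | s
        · have := fx _ fE ((mem2 C).2 ⟨s, g1⟩)
          rw [this, e2] at g1
          exact Bool.noConfusion g1
        · exact ne (A.co3 hK he ((pr_eq C).2 ⟨by rw [s, k1 e he e1 e2], by rw [g1, e1]⟩))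
      · rfl
    have uE : (a e)⁻¹ * a (a e) ∈ E := E.mul_mem (E.inv_mem fE) gE
    have u1 : ((a e)⁻¹ * a (a e)).e = false := by rw [me, ie, e2, g1]; rfl
    have u2 : sv h ((a e)⁻¹ * a (a e)) = 2 * h := (k3 _ uE u1).resolve_left fun s => by
      have := (pr_one C).2 ((mem2 C).2 ⟨s, u1⟩)
      rw [map_mul, map_inv, inv_mul_eq_one] at this
      exact ne (A.inj hK fE he this.symm)
    have u3 : ∀ y ∈ E, y ∈ Q2 h C → (a e)⁻¹ * a (a e) * y = y * ((a e)⁻¹ * a (a e)) := fun y hy hR => by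
      have yE : e * y * e⁻¹ ∈ E := E.mul_mem (E.mul_mem he hy) (E.inv_mem he)
      have yR : e * y * e⁻¹ ∈ Q2 h C := by
        rw [← pr_one C] at hR ⊢
        simp [hR]
      have s1 := hP _ yE yR
      rw [A.hom.map_conj he hy, hP y hy hR] at s1
      have s2 := hP _ yE yR
      rw [← s1, A.hom.map_conj fE hy, hP y hy hR] at s2
      rw [show (a e)⁻¹ * a (a e) * y = (a e)⁻¹ * (a (a e) * y * (a (a e))⁻¹) * a (a e) by group, s2]
      group
    have st : sv h (qq h) = 2 * h := by simp [sv]; ring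
    have dv : ∀ x : W (Zn n), x.e = false → sv h x = 2 * h → x * (qq h)⁻¹ ∈ Q2 h C := fun x x1 x2 => by
      rw [mem2, sv_mul C, sv_inv C rfl, me, ie, x1, x2, st]; simp
    have tE : qq h ∈ E := by
      have := hc _ (dv _ u1 u2) fun y hy hR => by
        rw [mul_assoc, C.comm (inv_mem C.q_mem) hR, ← mul_assoc, u3 y hy hR, mul_assoc]
      simpa [mul_assoc] using E.mul_mem (E.inv_mem this) uE
    have t1 : (a (qq h)).e = true := by
      rcases t1 : (a (qq h)).e with _ | _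
      · exact (C.two (st.symm.trans (k2 _ tE rfl t1))).elim
      · rfl
    have sq : ∀ q ∈ E, q * q = zz h → a q ∈ Q1 h C ∨ a q ∈ Q2 h C := fun q hq s =>
      (C.sq_z (by rw [← A.hom hq hq, s, hP _ hz C.z_mem])).imp And.left And.left
    have t2 : a (qq h) ∈ Q1 h C := (sq _ tE (by g2simp; constructor <;> ring)).resolve_right fun s => by
      rw [((mem2 C).1 s).2] at t1
      exact Bool.noConfusion t1
    have k4 : ∀ x ∈ E, x.e = false → x ∈ (E ⊓ Q2 h C) ⊔ (E ⊓ Q1 h C) := fun x hx x1 => by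
      rcases k3 x hx x1 with s | s
      · exact mem_sup_left ⟨hx, (mem2 C).2 ⟨s, x1⟩⟩
      · simpa using mul_mem_sup (show x * (qq h)⁻¹ ∈ E ⊓ Q2 h C from ⟨E.mul_mem hx (E.inv_mem tE), dv x x1 s⟩)
          (show qq h ∈ E ⊓ Q1 h C from ⟨tE, C.q_mem⟩)
    refine ⟨fun x hx => ?_, fun q hq hT => ?_⟩
    · rcases x1 : x.e with _ | _
      · exact k4 x hx x1
      · simpa using mul_mem (k4 _ (E.mul_mem hx (E.inv_mem (A.mem _ tE))) (by rw [me, ie, x1, t1]; rfl))
          (mem_sup_right (show a (qq h) ∈ E ⊓ Q1 h C from ⟨A.mem _ tE, t2⟩))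
    · by_cases hR : q ∈ Q2 h C
      · rwa [hP q hq hR]
      · refine (sq q hq ?_).elim id fun s => by rwa [fx q hq s]
        obtain ⟨c, rfl⟩ | ⟨c, rfl⟩ := C.Q1_cases hT
        · have := (k3 _ hq rfl).resolve_left fun s => hR ((mem2 C).2 ⟨s, rfl⟩)
          simp only [sv, cond_false, sub_zero] at this
          g2simp
          exact ⟨this, this⟩
        · g2simp
          exact ⟨by ring, by linear_combination -C.four⟩

end UB

open UB

set_option linter.unusedVariables false in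
/-- Notation as in `UniA`; `A = {⟨x,-x,ff,ff⟩}`, `P = E ∩ R`, `Q = E ∩ T`, `α` odd.  Tools: (co1) `y = x⁻¹ α x`,
`y⁻¹ α y ∈ K`, `K` normal, `α (E ∩ K) ≤ K` ⇒ `y ∈ K` (`α^k x ≡ x y^k`, order of `α` odd, `y` a `2`-element;
cf. `inv_mul_mem_of_coprime`); (co2) `α x ≡ x^l mod K` ⇒ `α x ≡ x` (`l^k - 1 = (l-1)·odd`); `α² x = x ⇒ α x = x`.
Lemma odd (for `P ≤ R`, `α P = P`; same for `Q ≤ T` by `sy`): `α|P = id` or (`i ∈ P`, `(α i).d = true`,
`P = ⟨i, α i⟩`): if `α` preserves `P ∩ A` use co2, co1; else some `x ∈ P ∩ A` has `(α x).d = true`, so `x² = z`,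
`x = i^±`, and `P ∩ A = ⟨i⟩` (if `y ∈ P ∩ A` has `y^(2j) = i` then `α i = (α y)^(2j) ∈ A`).
Step 1: `α = 1`, or `E = P Q` and `α Q ≤ Q`.
(a) `α|P ≠ id`, `r = α i`: every `e ∈ E` normalises `⟨i⟩` and `⟨α i⟩`, so `p e` centralises `i` and `r` for some
`p ∈ ⟨i,r⟩`, hence `p e ∈ T`; `α q` centralises `α P ∋ i, r`, so lies in `T`.
(b) `α|P = id`: `W/R` is dihedral with cyclic subgroup `K₁/R`, `K₁ = WT = {e = false}`.  If `α` preserves `E ∩ K₁`, then
co2, co1 give `x⁻¹ α x ∈ R` on `E`, then `α = 1`.  Otherwise `e ∈ E ∩ K₁`, `f = α e ∉ K₁`, `f² ∈ R`, so `e² ∈ R`,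
`e ∈ τ R`; as squares lie in `K₁`, `E ∩ K₁ = P ∪ P e`; `E = P ∪ Pe ∪ Pf ∪ Pef`.  `e`, `α e`, `α² e` act alike on `P`;
`α f ∈ P e` would make `α²` trivial on `E/P`, so `α = 1`; so `α f = p e f`, `p e` centralises `P`, `p e = r τ^±` with
`r ∈ C_R(P) ≤ E`, so `τ ∈ E`; take `e = τ`, `f = α τ`, `f² = z`, `f ∉ K₁`, so `f ∈ T` (`Cy.sq_z`: `f ∈ Q1 ∪ Q2`,
`Q2 ≤ K₁`).  For `q ∈ Q`: `q ∈ {1,z}` or `q² = z`, `α q ∉ R`, `(α q)² = z`, so `α q ∈ T` (`sq_z`).
Step 2: `α = (α|P × 1) ∘ (1 × α|Q)` on `E = P ⊔ Q` (`IsHomOn.eqOn_sup`), each factor being the identity or given by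
`f2` / `f1` and Lemma odd. -/
theorem mor_of_odd {n : ℕ} (h1 : 1 ≤ n) {F : FusionSystem (⊤ : Subgroup (W (Zn n)))}
    (f2 : ∀ r ∈ Q2 (hn n) (cy n), r.d = true → Full F (closure {pp (hn n), r}) (Q1 (hn n) (cy n)))
    (f1 : ∀ r ∈ Q1 (hn n) (cy n), r.d = true → Full F (closure {qq (hn n), r}) (Q2 (hn n) (cy n)))
    {E : Subgroup (W (Zn n))} (α : MulAut E) (ho : Odd (orderOf α)) (hz : zz (hn n) ∈ E)
    (hzz : autFun α (zz (hn n)) = zz (hn n))
    (hP : ∀ x ∈ E, x ∈ Q2 (hn n) (cy n) → autFun α x ∈ Q2 (hn n) (cy n))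
    (hc : ∀ x ∈ Q2 (hn n) (cy n), (∀ y ∈ E, y ∈ Q2 (hn n) (cy n) → x * y = y * x) → x ∈ E) :
    Mor F E (autFun α) := by
  have A : OA E (autFun α) := by
    refine ⟨isPGroup_W n, isHomOn_autFun α, fun x hx => autFun_mem α hx, ?_⟩
    obtain ⟨k, hk⟩ := ho
    exact ⟨k, fun x hx => by rw [← autFun_pow α _ hx, ← hk, pow_orderOf_eq_one, autFun_one hx]⟩
  generalize autFun α = a at *
  have AP : OA (E ⊓ Q2 (hn n) (cy n)) a := A.res inf_le_left fun x hx => ⟨A.mem _ hx.1, hP _ hx.1 hx.2⟩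
  have key : (∀ x ∈ E, a x = x) ∨ (E ≤ (E ⊓ Q2 (hn n) (cy n)) ⊔ (E ⊓ Q1 (hn n) (cy n)) ∧
      ∀ q ∈ E, q ∈ Q1 (hn n) (cy n) → a q ∈ Q1 (hn n) (cy n)) := by
    rcases odd2 (cy n) inf_le_right AP with e | ⟨e1, e2, -⟩
    · exact stepB (cy n) A (fun x h1 h2 => e x ⟨h1, h2⟩) hz hc
    · exact Or.inr (stepA (cy n) A hP e1.1 e2)
  rcases key with e | ⟨hE, hQ⟩
  · exact (mor_id F le_top).congr fun x hx => (e x hx).symm
  have AQ : OA (E ⊓ Q1 (hn n) (cy n)) a := A.res inf_le_left fun x hx => ⟨A.mem _ hx.1, hQ _ hx.1 hx.2⟩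
  have use : ∀ {P X Y : Subgroup (W (Zn n))} {i : W (Zn n)}, OA P a → P ≤ X →
      (∀ r ∈ X, r.d = true → Full F (closure {i, r}) Y) →
      ((∀ x ∈ P, a x = x) ∨ (i ∈ P ∧ (a i).d = true ∧ P = closure {i, a i})) →
      ∃ f, Mor F (P ⊔ Y) f ∧ Set.EqOn f a P ∧ ∀ y ∈ Y, f y = y := by
    rintro P X Y i B hX f (e | ⟨e1, e2, e3⟩)
    · exact ⟨id, mor_id F le_top, fun x hx => (e x hx).symm, fun _ _ => rfl⟩
    · have := f _ (hX (B.mem _ e1)) e2
      rw [← e3] at this
      exact this a B.hom B.mem fun x hx y hy => B.inj0 hx hy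
  obtain ⟨f, hf, f1', f2'⟩ := use AP inf_le_right f2 (odd2 (cy n) inf_le_right AP)
  obtain ⟨g, hg, g1, g2⟩ := use AQ inf_le_right f1 (odd1 (cy n) inf_le_right AQ)
  have eE : E = (E ⊓ Q2 (hn n) (cy n)) ⊔ (E ⊓ Q1 (hn n) (cy n)) := le_antisymm hE (sup_le inf_le_left inf_le_left)
  have l1 : (E ⊓ Q2 (hn n) (cy n)) ⊔ (E ⊓ Q1 (hn n) (cy n)) ≤ (E ⊓ Q1 (hn n) (cy n)) ⊔ Q2 (hn n) (cy n) :=
    sup_le (le_sup_of_le_right inf_le_right) le_sup_left
  have hg' := hg.mono l1
  have l2 : (E ⊓ Q2 (hn n) (cy n)) ⊔ (E ⊓ Q1 (hn n) (cy n)) ≤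
      hg'.isHomOn.preim ((E ⊓ Q2 (hn n) (cy n)) ⊔ Q1 (hn n) (cy n)) := by
    refine sup_le (fun x hx => hg'.isHomOn.mem_preim.2 ⟨mem_sup_left hx, ?_⟩)
      fun x hx => hg'.isHomOn.mem_preim.2 ⟨mem_sup_right hx, ?_⟩
    · rw [g2 x hx.2]; exact mem_sup_left hx
    · rw [g1 hx]; exact mem_sup_right (hQ x hx.1 hx.2)
  have m := hf.comp hg' fun x hx => (hg'.isHomOn.mem_preim.1 (l2 hx)).2
  have := m.congr (m.isHomOn.eqOn_sup (A.hom.mono eE.ge) (fun x hx => by
    rw [Function.comp_apply, g2 x hx.2, f1' hx]) fun x hx => by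
    rw [Function.comp_apply, g1 hx, f2' _ (hQ x hx.1 hx.2)])
  rwa [← eE] at this

end CL.WQ
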