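/- Uniqueness of the fusion system with the `G₂` pattern. -/
import Cfsg.Agent.FUS.WQ.UniA
import Cfsg.Agent.FUS.WQ.UniB
import Cfsg.Agent.FUS.CRTools
import Cfsg.Agent.FUS.Centric
import Cfsg.Agent.FUS.Hyperfocal
import Cfsg.Agent.FUS.KNormSat

set_option autoImplicit false

namespace CL.WQ

open Cfsg CL.Fus CL.G2S Subgroup Cfsg.FusionSystem

theorem Mor.cancel {Ω : Type*} [Group Ω] {S P Q : Subgroup Ω} {F : FusionSystem S} {f χ : Ω → Ω} (hχ : Mor F Q χ)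
    (h : ∀ x ∈ P, f x ∈ Q) (hf : Mor F P (χ ∘ f)) : Mor F P f := by
  obtain ⟨g, hg, e, -⟩ := hχ.exists_inv
  exact (hg.comp hf fun x hx => mem_img_of_mem χ (h x hx)).congr fun x hx => e _ (h x hx)

theorem zz_comm {R : Type} [CommRing R] {h : R} (C : Cy h) (v : W R) : Commute (zz h) v := C.f12.1 v |>.symm

variable {n : ℕ} {F F' : FusionSystem (⊤ : Subgroup (W (Zn n)))}

theorem Mod.scR (M : Mod F n (MonoidHom.id _)) {P : Subgroup (W (Zn n))} {f : W (Zn n) → W (Zn n)} (hf : Mor F P f)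
    (hz : zz (hn n) ∈ P) (e : f (zz (hn n)) = zz (hn n)) {v : W (Zn n)} (hP : v ∈ P) (hv : v ∈ Q2 (hn n) (cy n)) :
    f v ∈ Q2 (hn n) (cy n) := by
  obtain ⟨v', h1, h2⟩ := M.sc P f hf hz e v hv hP
  exact (show f v = v' from h2) ▸ h1

theorem Mod.fixz (h1 : 1 ≤ n) (M : Mod F n (MonoidHom.id _)) (M' : Mod F' n (MonoidHom.id _))
    {P : Subgroup (W (Zn n))} {f : W (Zn n) → W (Zn n)} (hf : Mor F P f) (hz : zz (hn n) ∈ P)
    (e : f (zz (hn n)) = zz (hn n)) : Mor F' P f := by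
  have C := cy n
  have t : ∀ v, v ∈ centralizerIn ⊤ (zpowers (zz (hn n))) := fun v => ⟨trivial, by
    rintro _ ⟨k, rfl⟩; exact ((zz_comm C v).zpow_left k).eq⟩
  have hc := fullyCentralized_of_central F (P := zpowers (zz (hn n))) le_top fun v _ => (t v).2
  have pS := isPGroup_of_le (pS_top n) (centralizerIn_le ⊤ (zpowers (zz (hn n))))
  have sat := centSys_saturated (pS_top n) M.sat hc
  have nrm : ∀ g, ∀ v ∈ Q2 _ C, g * v * g⁻¹ ∈ Q2 _ C := fun g v hv =>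
    M.scR (mor_cj F le_rfl (mem_top g)) trivial (mc (zz_comm C g).symm) trivial hv
  refine Mor.of_subsystem (isSubsystemOf_of_coprime pS sat le_top fun E hE α hα ho => ?_)
    (mor_centSys.2 (CMor.of_ext (fun v _ => t v) hf le_rfl (zpowers_le.2 hz) ?_))
  · obtain ⟨-, k1, k2⟩ := frc_of_top_or_essential pS sat hE
    have k3 := k1.2 E (isConj_refl _ k1.1)
    have zE : zz (hn n) ∈ E := k3 ⟨t _, fun v _ => (zz_comm C v).eq.symm⟩
    have k4 : ∀ β ∈ (centSys F (zpowers (zz (hn n))) hc.1).autGroup E, Mor F E (autFun β) ∧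
        autFun β (zz (hn n)) = zz (hn n) := fun β hβ => by
      have := mor_centSys.1 (mor_autFun k1.1 hβ)
      refine ⟨this.mor, ?_⟩
      obtain ⟨-, g, -, e, e'⟩ := this
      rw [← e zE, e' _ (mem_zpowers _)]
    have k5 : AutInv ((centSys F (zpowers (zz (hn n))) hc.1).autGroup E) (Q2 _ C) := fun β hβ y hy =>
      M.scR (k4 β hβ).1 zE (k4 β hβ).2 hy
    refine (mem_autGroup_iff le_top).2 (mor_of_odd h1 (fun r => M'.full2 h1) (fun r => M'.full1 h1) α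
      (Nat.coprime_two_right.1 ho) zE (k4 α hα).2 (k5 α hα) fun x hx hxc => ?_)
    by_contra hxE
    have nQ : E ≤ normalizer (Q2 _ C : Set (W (Zn n))) := fun g _ => mem_normalizer_of_cj_mem (nrm g)
    obtain ⟨y, hy, yn, yE⟩ := exists_mem_normalizer_not_mem_of_not_le (pS_top n) (R := E)
      (X := Q2 _ C ⊓ centralizer (E ⊓ Q2 _ C : Subgroup _)) le_top le_top
      (le_normalizer_inf nQ (le_normalizer_centralizer (le_normalizer_inf le_normalizer nQ)))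
      fun k => hxE (k ⟨hx, fun v hv => (hxc v hv.1 hv.2).symm⟩)
    refine yE (mem_of_chain pS k3 k2 (t y) yn le_top (.tail (b := Q2 _ C) (.single (Or.inl
      ⟨autInv_bot _, k5, fun v hv hv' => ?_⟩)) (Or.inl ⟨k5, autInv_of_le _ le_top, fun v hv _ => ?_⟩))) <;>
      rw [autFun_cjAut yn hv, cj_apply]
    · rw [← hy.2 v ⟨hv, hv'⟩]; simp
    · simpa [mul_assoc] using mul_mem (nrm v⁻¹ y hy.1) (inv_mem hy.1)
  · rintro _ ⟨k, rfl⟩
    simp only
    rw [hf.map_zpow hz, e]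

theorem Mod.rh (M : Mod F n (MonoidHom.id _)) : Mor F (C ⊤ (uu (hn n))) rh := by
  obtain ⟨P, f, hf, e⟩ := M.rho
  have k : ∀ v ∈ C ⊤ (uu (hn n)), v.d = false := fun v hv => (cy n).cent_u.1 (mem_C.1 hv).2.eq.symm
  exact (hf.mono fun v hv => (e v (k v hv)).1).congr fun v hv => (e v (k v hv)).2

/-- a common morphism moves `u` to the centre -/
def Gd (F F' : FusionSystem (⊤ : Subgroup (W (Zn n)))) (u : W (Zn n)) : Prop :=
  ∃ χ, Mor F (C ⊤ u) χ ∧ Mor F' (C ⊤ u) χ ∧ χ u = zz (hn n)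

theorem Gd.of {P : Subgroup (W (Zn n))} {g : W (Zn n) → W (Zn n)} (h : Mor F P g) (h' : Mor F' P g) {u : W (Zn n)}
    (hP : C ⊤ u ≤ P) (k : Gd F F' (g u)) : Gd F F' u := by
  obtain ⟨χ, h1, h2, e⟩ := k
  have m : ∀ x ∈ C ⊤ u, g x ∈ C ⊤ (g u) := fun x hx =>
    mem_C.2 ⟨trivial, Mor.comm h (hP (self_mem_C trivial)) (hP hx) (mem_C.1 hx).2⟩
  exact ⟨_, h1.comp (h.mono hP) m, h2.comp (h'.mono hP) m, e⟩

theorem Mod.gd (h1 : 1 ≤ n) (M : Mod F n (MonoidHom.id _)) (M' : Mod F' n (MonoidHom.id _)) {u : W (Zn n)}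
    (hu : Cj F (zz (hn n)) u) : Gd F F' u := by
  have C := cy n
  have four := C.four
  have g0 : Gd F F' (zz (hn n)) := ⟨id, mor_id F le_top, mor_id F' le_top, rfl⟩
  have g1 : Gd F F' (uu (hn n) * zz (hn n)) := Gd.of M.rh M'.rh (fun v hv => mem_C.2 ⟨trivial, by
    simpa using (mem_C.1 hv).2.mul_left (zz_comm C v).inv_left⟩) (by
    convert g0 using 1; simp only [WQ.rh]; g2simp; linear_combination -2 * four)
  have g2 : Gd F F' (uu (hn n)) := Gd.of M.rh M'.rh le_rfl (by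
    convert g1 using 1; simp only [WQ.rh]; g2simp; exact ⟨by linear_combination -four, by linear_combination -four⟩)
  have gA : ∀ u : W (Zn n), Cj F (zz (hn n)) u → u.e = false → u.d = false → Gd F F' u := by
    rintro ⟨x, y, _, _⟩ hu rfl rfl
    have := hu.sq (zz_sq C)
    g2simp at this
    rcases C.invA (x := x) (y := y) (by linear_combination this.1) (by linear_combination this.2) with e | e | e | e
    exacts [absurd e (hu.ne_one (zz_ne C)), e ▸ g0, e ▸ g2, e ▸ g1]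
  have gB : ∀ u r : W (Zn n), Cj F (zz (hn n)) u → Commute u r → r * r = zz (hn n) → Gd F F' u := fun u r hu c e => by
    obtain ⟨φ, hφ, e1⟩ := exists_to (pS_top n) M.sat hu.symm (fullyCentralized_of_central F le_top fun v _ => by
      rintro _ ⟨k, rfl⟩; exact ((zz_comm C v).zpow_left k).eq)
    have hz : zz (hn n) ∈ WQ.C ⊤ u := mem_C.2 ⟨trivial, (zz_comm C u).symm⟩
    have hr : r ∈ WQ.C ⊤ u := mem_C.2 ⟨trivial, c⟩
    obtain ⟨χ, k1, k2, k3⟩ := gA _ (Mor.cj' hφ hz) (by rw [← e, hφ.map_mul hr hr]; exact Bool.xor_self _)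
      (by rw [← e, hφ.map_mul hr hr]; exact sq_d _)
    have m : ∀ x ∈ WQ.C ⊤ u, φ x ∈ WQ.C ⊤ (φ (zz (hn n))) := fun x hx =>
      mem_C.2 ⟨trivial, Mor.comm hφ hz hx (zz_comm C x)⟩
    exact ⟨φ, hφ, Mor.cancel k2 m (M.fixz h1 M' (k1.comp hφ m) hz k3), e1⟩
  have gC : ∀ x y k : Zn n, Cj F (zz (hn n)) ⟨x, y, true, false⟩ → x - y = 2 * k → Gd F F' ⟨x, y, true, false⟩ :=
    fun x y k hu e => gB _ ⟨k + 2 * hn n, -k, false, true⟩ hu (by
      rw [commute_iff_eq]; g2simp; exact ⟨by linear_combination e - four, by linear_combination -e⟩)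
      (by g2simp; exact ⟨by ring, by ring⟩)
  have u2 := hu.sq (zz_sq C)
  obtain ⟨x, y, _ | _, _ | _⟩ := u
  · exact gA _ hu rfl rfl
  · exact gB _ (qq _) hu (by rw [commute_iff_eq]; g2simp; exact ⟨by ring, by ring⟩) qq_sq
  · obtain ⟨k, e | e⟩ := C.par (x - y)
    · exact gC x y k hu e
    have hP : WQ.C ⊤ (⟨x, y, true, false⟩ : W (Zn n)) ≤ WQ.C ⊤ (uu (hn n)) := by
      rintro ⟨a, b, e', d⟩ hv
      refine mem_C.2 ⟨trivial, (C.cent_u.2 ?_).symm⟩
      have hv := (mem_C.1 hv).2.eq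
      rcases e' with _ | _ <;> rcases d with _ | _ <;> try rfl
      all_goals g2simp at hv
      · exact (C.odd (y := a - k) (by linear_combination -hv.1 + e)).elim
      · exact (C.odd (y := a - k - y) (by linear_combination -hv.1 + e)).elim
    have m : ∀ v, WQ.rh v ∈ WQ.C ⊤ (uu (hn n)) := fun v => mem_C.2 ⟨trivial, (C.cent_u.2 rfl).symm⟩
    have hm := hP (self_mem_C trivial)
    obtain ⟨a, e' | e'⟩ := C.par x
    · exact Gd.of M.rh M'.rh hP (gC _ _ (a + y) (hu.map M.rh hm) (by linear_combination e'))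
    · exact Gd.of (M.rh.comp M.rh fun v _ => m v) (M'.rh.comp M'.rh fun v _ => m v) hP
        (gC _ _ (k - a - x) ((hu.map M.rh hm).map M.rh (m _)) (by simp only [WQ.rh]; linear_combination e - e'))
  · exact gB _ (pp _) hu (by rw [commute_iff_eq]; g2simp; exact ⟨by ring, by ring⟩) (pp_sq C)

theorem Mod.sub (h1 : 1 ≤ n) (M : Mod F n (MonoidHom.id _)) (M' : Mod F' n (MonoidHom.id _)) : F.IsSubsystemOf F' :=
  isSubsystemOf_of_centric (pS_top n) M.sat fun P f hP hf => by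
    have hz : zz (hn n) ∈ P := hP.2 P (isConj_refl _ hP.1) ⟨trivial, fun v _ => (zz_comm (cy n) v).eq.symm⟩
    obtain ⟨χ, k1, k2, k3⟩ := M.gd h1 M' (Mor.cj' hf hz)
    have m : ∀ x ∈ P, f x ∈ C ⊤ (f (zz (hn n))) := fun x hx =>
      mem_C.2 ⟨trivial, Mor.comm hf hz hx (zz_comm (cy n) x)⟩
    exact Mor.cancel k2 m (M.fixz h1 M' (k1.comp hf m) hz k3)

theorem Mod.exists_top {Ω : Type*} [Group Ω] {S : Subgroup Ω} {F : FusionSystem S} {φ : W (Zn n) →* Ω}
    (M : Mod F n φ) : ∃ (e' : Ω → W (Zn n)) (F₀ : FusionSystem (⊤ : Subgroup (W (Zn n)))),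
      Corr φ e' F₀ F ∧ Mod F₀ n (MonoidHom.id _) := by
  have h0 : IsHomOn ⊤ φ := fun _ _ _ _ => map_mul φ _ _
  obtain ⟨e', i⟩ := h0.exists_isoOn M.inj.injOn
  rw [show img φ ⊤ = S from M.rng ▸ Subgroup.ext fun x => h0.mem_img.trans (by simp)] at i
  obtain ⟨F₀, k⟩ := i.symm.exists_corr F
  have l : ∀ v, e' (φ v) = v := fun v => i.left v trivial
  refine ⟨e', F₀, k.symm, k.isSaturated M.sat, Function.injective_id, MonoidHom.range_eq_top.2 Function.surjective_id,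
    fun P f hf hz e v hv hP => ?_, ?_, ?_, ?_⟩
  · obtain ⟨v', h1, h2⟩ := M.sc _ _ (k.mor' hf) (mem_img_of_mem φ hz) (by
      rw [Function.comp, Function.comp, l]; exact congrArg φ e) v hv (mem_img_of_mem φ hP)
    rw [Function.comp, Function.comp, l] at h2
    exact ⟨v', h1, M.inj h2⟩
  · obtain ⟨P, f, hf, e⟩ := M.rho
    exact ⟨_, _, k.mor hf, fun v hv => ⟨l v ▸ mem_img_of_mem e' (e v hv).1, by
      change e' (f (φ v)) = _
      rw [(e v hv).2, l]; rfl⟩⟩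
  · obtain ⟨v, h1, h2⟩ := M.c1
    exact ⟨v, h1, by simpa only [l, MonoidHom.id_apply] using k.isConjElt h2⟩
  · obtain ⟨v, h1, h2⟩ := M.c2
    exact ⟨v, h1, by simpa only [l, MonoidHom.id_apply] using k.isConjElt h2⟩

theorem Mod.corr {n : ℕ} (h1 : 1 ≤ n) {Ω Ω' : Type*} [Group Ω] [Group Ω'] {S : Subgroup Ω} {S' : Subgroup Ω'}
    {F : FusionSystem S} {F' : FusionSystem S'} {φ : W (Zn n) →* Ω} {φ' : W (Zn n) →* Ω'} (M : Mod F n φ)
    (M' : Mod F' n φ') : ∃ e e', Corr e e' F F' := by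
  obtain ⟨e, F₀, k, N⟩ := M.exists_top
  obtain ⟨e', F₁, k', N'⟩ := M'.exists_top
  obtain rfl : F₀ = F₁ := FusionSystem_ext_mor fun P f =>
    ⟨Mor.of_subsystem (N.sub h1 N'), Mor.of_subsystem (N'.sub h1 N)⟩
  exact ⟨_, _, k.symm.trans k'⟩

end CL.WQ
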